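import Cfsg.Agent.Lib.RF.Sub

/-!
# S5262: Weyl elements, diagonal and field automorphisms
-/

set_option autoImplicit false
set_option linter.unusedSectionVars false
set_option linter.unusedVariables false
set_option maxRecDepth 8000

namespace Cfsg.Agent.RF

open Cfsg.Agent.LT Mat Cfsg.Lie Subgroup US

variable {K : Type*} [Field K] [hK : TF K] {x y : US K}

/-- conjugation of a word by a product of fundamental reflections -/
theorem conj_nl (m : List (Fin chevF4.rank)) (l : List (ℕ × K)) (hl : ∀ a ∈ l, a.1 < 48) :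
    nl okF4.rs (okF4.xG K) m * okF4.wN l * (nl okF4.rs (okF4.xG K) m)⁻¹ =
      okF4.wN (l.map fun a => (m.foldr (fun i r => (nD cF4 i.1).w r) a.1, a.2)) ∧
    ∀ a ∈ l, m.foldr (fun i r => (nD cF4 i.1).w r) a.1 < 48 := by
  induction m with
  | nil => simpa [nl] using hl
  | cons i m ih =>
    have := okF4.map_wN (τ := fun r t => (-1) ^ (nD cF4 i.1).e r * t) (okF4.conj_n (F := K) i)
      (l := l.map fun a => (m.foldr (fun i r => (nD cF4 i.1).w r) a.1, a.2)) fun a ha => by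
        obtain ⟨b, hb, rfl⟩ := List.mem_map.1 ha
        exact ih.2 b hb
    simp only [CharTwo.neg_eq, one_pow, one_mul, List.map_map, Function.comp_def, ← ih.1] at this
    refine ⟨Eq.trans ?_ this, fun a ha => (okF4.rs.w i ⟨_, ih.2 a ha⟩).2⟩
    simp [nl, mul_assoc]

theorem conj_nl' (m : List (Fin chevF4.rank)) (l : List (ℕ × K)) (hl : ∀ a ∈ l, a.1 < 48)
    {rs rs' : List ℕ} (h1 : l.map Prod.fst = rs)
    (h2 : rs.map (fun r => m.foldr (fun i r => (nD cF4 i.1).w r) r) = rs') :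
    nl okF4.rs (okF4.xG K) m * okF4.wN l * (nl okF4.rs (okF4.xG K) m)⁻¹ =
      okF4.wN (rs'.zip (l.map Prod.snd)) := by
  rw [(conj_nl m l hl).1, ← h2, ← h1, List.map_map, List.zip_map']
  rfl

/-- the Weyl elements -/
noncomputable def g1 : chevF4.group K :=
  nl okF4.rs (okF4.xG K) ([1, 2, 1, 2] : List (Fin 4))

noncomputable def g2 : chevF4.group K := nl okF4.rs (okF4.xG K) ([0, 3] : List (Fin 4))

theorem emb_n1 (h1 : x.a1 = 0) (h2 : x.u1 = 0) : emb (n1 x) = g1 * emb x * g1⁻¹ := by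
  have e : emb x = okF4.wN ((wU x).drop 4) := by
    simp [emb, emb0, wU, h1, h2, okF4.wN_cons, okF4.xN_zero]
  rw [e, n1_eq]
  refine Eq.trans ?_ (conj_nl' ([1, 2, 1, 2] : List (Fin 4)) _ (by simp [wU])
    (rs := [37, 32, 35, 31, 40, 46, 39, 45, 29, 41, 44, 47, 38, 43, 34, 26, 36, 42, 33, 24])
    (rs' := [33, 24, 34, 26, 36, 42, 38, 43, 29, 41, 44, 47, 39, 45, 35, 31, 40, 46, 37, 32])
    rfl (by decide +kernel)).symm
  refine (congrArg okF4.wN (wU_mkU _ _)).trans ((c1.eq _ (by simp [dbl, cU])).symm.trans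
    (congrArg okF4.wN ?_))
  simp only [wN1, w1, w2, List.map_append, List.map_cons, List.map_nil, ev_append, ev_mmul, ev_sb,
    vX, ev_var]
  rfl

theorem emb_n2 (h1 : x.a8 = 0) : emb (n2 x) = g2 * emb x * g2⁻¹ := by
  have e : emb x = okF4.wN ((wU x).take 22) := by
    simp [emb, emb0, wU, h1, okF4.wN_cons, okF4.xN_zero, okF4.wN_nil]
  rw [e, n2_eq]
  refine Eq.trans ?_ (conj_nl' ([0, 3] : List (Fin 4)) _ (by simp [wU])
    (rs := [27, 25, 28, 30, 37, 32, 35, 31, 40, 46, 39, 45, 29, 41, 44, 47, 38, 43, 34, 26, 36, 42])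
    (rs' := [34, 26, 36, 42, 38, 43, 29, 41, 44, 47, 39, 45, 35, 31, 40, 46, 37, 32, 27, 25, 28, 30])
    rfl (by decide +kernel)).symm
  refine (congrArg okF4.wN (wU_mkU _ _)).trans ((c2.eq _ (by simp [dbl, cU])).symm.trans
    (congrArg okF4.wN ?_))
  simp only [wN2, w1, w2, List.map_append, List.map_cons, List.map_nil, ev_append, ev_mmul, ev_sb,
    vX, ev_var]
  rfl

theorem nl_eq {l l' : List (Fin 4)} (e : weq 2 52 (l.map fun i => gcol chevF4 (nD cF4 i.1))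
    (l'.map fun i => gcol chevF4 (nD cF4 i.1)) = true) :
    nl okF4.rs (okF4.xG K) l = nl okF4.rs (okF4.xG K) l' :=
  okF4.nl_eq (by exact_mod_cast CharP.cast_eq_zero K 2) e

theorem g1_sq : (g1 : chevF4.group K) * g1 = 1 :=
  (List.prod_append (l₁ := List.map _ _) (l₂ := List.map _ _)).symm.trans
    (nl_eq (l := [1, 2, 1, 2, 1, 2, 1, 2]) (l' := []) (by decide +kernel))

theorem g2_sq : (g2 : chevF4.group K) * g2 = 1 :=
  (List.prod_append (l₁ := List.map _ _) (l₂ := List.map _ _)).symm.trans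
    (nl_eq (l := [0, 3, 0, 3]) (l' := []) (by decide +kernel))

theorem n1_mem (x : US K) : n1 x ∈ Q1 K := ⟨rfl, rfl⟩

theorem n2_mem (x : US K) : n2 x ∈ Q2 K := rfl

theorem n1_mul (h1 : x.a1 = 0) (h2 : x.u1 = 0) (h3 : y.a1 = 0) (h4 : y.u1 = 0) :
    n1 (x * y) = n1 x * n1 y := emb_inj (by
  rw [map_mul, emb_n1 h1 h2, emb_n1 h3 h4, emb_n1 (by simp [*]) (by simp [*]), map_mul]; group)

theorem n2_mul (h1 : x.a8 = 0) (h2 : y.a8 = 0) : n2 (x * y) = n2 x * n2 y := emb_inj (by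
  rw [map_mul, emb_n2 h1, emb_n2 h2, emb_n2 (by simp [*]), map_mul]; group)

theorem n1_n1 (h1 : x.a1 = 0) (h2 : x.u1 = 0) : n1 (n1 x) = x := emb_inj (by
  rw [emb_n1 rfl rfl, emb_n1 h1 h2, ← mul_assoc, ← mul_assoc, g1_sq, mul_assoc, ← mul_inv_rev,
    g1_sq]; simp)

theorem n2_n2 (h1 : x.a8 = 0) : n2 (n2 x) = x := emb_inj (by
  rw [emb_n2 rfl, emb_n2 h1, ← mul_assoc, ← mul_assoc, g2_sq, mul_assoc, ← mul_inv_rev,
    g2_sq]; simp)

/-! the standard (diagonal and field) automorphisms -/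

@[ext] structure Par (K : Type*) [Field K] where
  a : Kˣ
  b : Kˣ
  σ : K ≃+* K

namespace Par

instance : One (Par K) := ⟨⟨1, 1, 1⟩⟩
instance : Mul (Par K) := ⟨fun s t =>
  ⟨s.a * Units.map (s.σ : K →* K) t.a, s.b * Units.map (s.σ : K →* K) t.b, s.σ * t.σ⟩⟩
instance : Inv (Par K) := ⟨fun s =>
  ⟨Units.map (s.σ.symm : K →* K) s.a⁻¹, Units.map (s.σ.symm : K →* K) s.b⁻¹, s.σ⁻¹⟩⟩

@[simp] theorem one_a : ((1 : Par K).a : K) = 1 := rfl
@[simp] theorem one_b : ((1 : Par K).b : K) = 1 := rfl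
@[simp] theorem one_σ (x : K) : (1 : Par K).σ x = x := rfl
@[simp] theorem mul_a (s t : Par K) : ((s * t).a : K) = s.a * s.σ t.a := rfl
@[simp] theorem mul_b (s t : Par K) : ((s * t).b : K) = s.b * s.σ t.b := rfl
@[simp] theorem mul_σ (s t : Par K) (x : K) : (s * t).σ x = s.σ (t.σ x) := rfl
@[simp] theorem inv_a (s : Par K) : (s⁻¹.a : K) = (s.σ.symm s.a)⁻¹ := by
  rw [← map_inv₀, ← Units.val_inv_eq_inv_val]; rfl
@[simp] theorem inv_b (s : Par K) : (s⁻¹.b : K) = (s.σ.symm s.b)⁻¹ := by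
  rw [← map_inv₀, ← Units.val_inv_eq_inv_val]; rfl
@[simp] theorem inv_σ (s : Par K) (x : K) : s⁻¹.σ x = s.σ.symm x := rfl

instance : Group (Par K) := Group.ofLeftAxioms
  (fun x y z => by ext <;> simp [mul_assoc]) (fun x => by ext <;> simp)
  (fun x => by ext <;> simp)

instance : Finite (Par K) :=
  Finite.of_injective (fun t : Par K => (t.a, t.b, (t.σ : K → K))) fun x y h => by
    simp only [Prod.mk.injEq] at h
    exact Par.ext h.1 h.2.1 (DFunLike.coe_injective h.2.2)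

end Par

/-- the diagonal automorphism with values `a, b` on the simple roots, after the field
automorphism `σ` -/
def tauF (t : Par K) (x : US K) : US K := ⟨
    t.b * t.σ x.a1,
    t.b * φ (t.b : K) * t.σ x.u1,
    t.a * (t.b : K) ^ 2 * φ (t.b : K) * t.σ x.a2,
    t.a * t.b * φ (t.b : K) * t.σ x.a3,
    t.a * (t.b : K) ^ 3 * φ (t.b : K) ^ 2 * φ (t.a : K) * t.σ x.u3,
    t.a * (t.b : K) ^ 2 * φ (t.b : K) ^ 2 * φ (t.a : K) * t.σ x.a4,
    t.b * φ (t.b : K) * φ (t.a : K) * t.σ x.a5,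
    (t.a : K) ^ 2 * (t.b : K) ^ 3 * φ (t.b : K) ^ 2 * φ (t.a : K) * t.σ x.u5,
    t.a * (t.b : K) ^ 2 * φ (t.b : K) * φ (t.a : K) * t.σ x.a6,
    t.a * t.b * t.σ x.a7,
    t.a * t.b * φ (t.b : K) * φ (t.a : K) * t.σ x.u7,
    t.a * t.σ x.a8⟩

section
variable (t : Par K) (x : US K)
@[simp] theorem tauF_a1 : (tauF t x).a1 = t.b * t.σ x.a1 := rfl
@[simp] theorem tauF_u1 : (tauF t x).u1 = t.b * φ (t.b : K) * t.σ x.u1 := rfl
@[simp] theorem tauF_a2 : (tauF t x).a2 = t.a * (t.b : K) ^ 2 * φ (t.b : K) * t.σ x.a2 := rfl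
@[simp] theorem tauF_a3 : (tauF t x).a3 = t.a * t.b * φ (t.b : K) * t.σ x.a3 := rfl
@[simp] theorem tauF_u3 : (tauF t x).u3 = t.a * (t.b : K) ^ 3 * φ (t.b : K) ^ 2 * φ (t.a : K) * t.σ
  x.u3 := rfl
@[simp] theorem tauF_a4 : (tauF t x).a4 = t.a * (t.b : K) ^ 2 * φ (t.b : K) ^ 2 * φ (t.a : K) * t.σ
  x.a4 := rfl
@[simp] theorem tauF_a5 : (tauF t x).a5 = t.b * φ (t.b : K) * φ (t.a : K) * t.σ x.a5 := rfl
@[simp] theorem tauF_u5 : (tauF t x).u5 = (t.a : K) ^ 2 * (t.b : K) ^ 3 * φ (t.b : K) ^ 2 * φ (t.a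
  : K) * t.σ x.u5 := rfl
@[simp] theorem tauF_a6 : (tauF t x).a6 = t.a * (t.b : K) ^ 2 * φ (t.b : K) * φ (t.a : K) * t.σ
  x.a6 := rfl
@[simp] theorem tauF_a7 : (tauF t x).a7 = t.a * t.b * t.σ x.a7 := rfl
@[simp] theorem tauF_u7 : (tauF t x).u7 = t.a * t.b * φ (t.b : K) * φ (t.a : K) * t.σ x.u7 := rfl
@[simp] theorem tauF_a8 : (tauF t x).a8 = t.a * t.σ x.a8 := rfl
end

theorem tauF_mul (t : Par K) (x y : US K) : tauF t (x * y) = tauF t x * tauF t y := by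
  ext <;> simp <;> ring

theorem tauF_one (x : US K) : tauF 1 x = x := by ext <;> simp

theorem tauF_tauF (s t : Par K) (x : US K) : tauF (s * t) x = tauF s (tauF t x) := by
  ext <;> simp <;> ring

theorem tauF_inv_left (t : Par K) (x : US K) : tauF t⁻¹ (tauF t x) = x := by
  rw [← tauF_tauF, inv_mul_cancel, tauF_one]

theorem tauF_inv_right (t : Par K) (x : US K) : tauF t (tauF t⁻¹ x) = x := by
  rw [← tauF_tauF, mul_inv_cancel, tauF_one]

/-- the standard automorphisms -/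
def tau : Par K →* MulAut (US K) where
  toFun t := ⟨⟨tauF t, tauF t⁻¹, tauF_inv_left t, tauF_inv_right t⟩, tauF_mul t⟩
  map_one' := MulEquiv.ext tauF_one
  map_mul' s t := MulEquiv.ext (tauF_tauF s t)

@[simp] theorem tau_apply (t : Par K) (x : US K) : tau t x = tauF t x := rfl

theorem eq_one_of_tauF {t : Par K} (ha : ∀ x, t.a * t.σ x = x) (hb : ∀ x, t.b * t.σ x = x) :
    t = 1 := by
  have h1 : (t.a : K) = 1 := by simpa using ha 1
  have h2 : (t.b : K) = 1 := by simpa using hb 1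
  ext
  · exact h1
  · exact h2
  · next x => simpa [h1] using ha x

/-- `φ` on units -/
def φu (ν : Kˣ) : Kˣ := Units.map (φ (K := K) : K →* K) ν

@[simp] theorem φu_val (ν : Kˣ) : (φu ν : K) = φ (ν : K) := rfl

/-- the torus of the Levi factor `SL₂(q)` -/
def hpar (ν : Kˣ) : Par K := ⟨ν ^ 2, ν⁻¹, 1⟩

/-- the torus of the Levi factor `Sz(q)` -/
def kpar (ν : Kˣ) : Par K := ⟨(ν * φu ν)⁻¹, φu ν, 1⟩

@[simp] theorem hpar_a (ν : Kˣ) : ((hpar ν).a : K) = (ν : K) ^ 2 := by simp [hpar]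
@[simp] theorem hpar_b (ν : Kˣ) : ((hpar ν).b : K) = (ν : K)⁻¹ := by simp [hpar]
@[simp] theorem hpar_σ (ν : Kˣ) (x : K) : (hpar ν).σ x = x := rfl
@[simp] theorem kpar_a (ν : Kˣ) : ((kpar ν).a : K) = ((ν : K) * φ (ν : K))⁻¹ := by simp [kpar]
@[simp] theorem kpar_b (ν : Kˣ) : ((kpar ν).b : K) = φ (ν : K) := rfl
@[simp] theorem kpar_σ (ν : Kˣ) (x : K) : (kpar ν).σ x = x := rfl

theorem diag_eq (a b : Kˣ) : ∃ ν μ, (⟨a, b, 1⟩ : Par K) = hpar ν * kpar μ := by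
  refine ⟨φu (a * b ^ 2 * φu (a * b ^ 2)) * b⁻¹, a * b ^ 2 * φu (a * b ^ 2), ?_⟩
  have h1 : φ (a : K) ≠ 0 := by simp
  have h2 : φ (b : K) ≠ 0 := by simp
  ext <;> simp <;> field_simp

/-- Every automorphism of `S` in the system is standard modulo inner automorphisms. -/
def Std (F : FusionSystem (⊤ : Subgroup (US K))) : Prop :=
  ∀ f, F.IsIso ⊤ ⊤ f → ∃ (s : US K) (t : Par K), ∀ x, f x = s * tauF t x * s⁻¹

end Cfsg.Agent.RF
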