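import Cfsg.Agent.Lib.RF.Aut0
import Cfsg.Agent.Lib.RF.Par
import Cfsg.Agent.Lib.H7.Transport

/-!
# S5262: automorphisms of `S`; twisting the system (see notes/RF.md, section Aut)
-/

set_option autoImplicit false
set_option linter.unusedSectionVars false
set_option linter.unusedVariables false

namespace Cfsg.Agent.RF

open Subgroup Cfsg Cfsg.FusionSystem
open U5 (Inv)
open scoped commutatorElement

variable {K : Type*} [Field K] [TF K]

/-- the standard automorphisms of `⊤` -/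
noncomputable def tauT : Par K →* MulAut (⊤ : Subgroup (US K)) :=
  (MulAut.congr topEquiv.symm).toMonoidHom.comp tau

theorem ef_tauT (t : Par K) (x : US K) : equivFun (tauT t) x = tauF t x := by
  rw [equivFun_of_mem _ (mem_top x)]; rfl

theorem exists_std {F : FusionSystem (⊤ : Subgroup (US K))} (hF : F.IsSaturated 2) :
    ∃ (E : FusionSystem (⊤ : Subgroup (US K))) (t s : US K → US K), F.IsoVia E t s ∧ Std E := by
  have hp0 : IsPGroup 2 (P0 K) := isPGroup_P0
  have hcov : ∀ γ, ∃ t, (tauT t)⁻¹ * γ ∈ P0 K := fun γ => by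
    obtain ⟨a, b, σ, h⟩ := exists_par γ
    refine ⟨⟨a, b, σ⟩, mem_P0.2 fun x => ?_⟩
    rw [equivFun_mul _ _ (mem_top _), ← map_inv, ef_tauT]
    simp [h x]
  have hdis : Disjoint (tauT (K := K)).range (P0 K) := disjoint_def.2 <| by
    rintro _ ⟨t, rfl⟩ ht
    rw [eq_one_of_tauF (t := t) (fun x => ?_) fun x => ?_, map_one]
    · simpa [ef_tauT] using (mem_P0.1 ht (x8 x)).1
    · simpa [ef_tauT] using (mem_P0.1 ht (x1 x 0)).2
  have hS := hF.sylowIn isPGroup_top F.isFullyNormalized_top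
  rw [← inn_eq_autInducedBy] at hS
  obtain ⟨B, hB, hc, hsup, -⟩ := H1.exists_complement_of_coprime_relIndex hS.le
    le_normalizer_of_normal (H1.coprime_card_of_isPGroup hS.isPGroup
      ((Nat.Prime.coprime_iff_not_dvd Nat.prime_two).2 hS.not_dvd_relIndex).symm).symm
  have hcB : (Nat.card B).Coprime (Nat.card (P0 K)) := H1.coprime_card_of_isPGroup hp0
    (hc ▸ ((Nat.Prime.coprime_iff_not_dvd Nat.prime_two).2 hS.not_dvd_relIndex).symm)
  obtain ⟨n, -, hn'⟩ := H1.exists_conj_le_of_coprime (A := (tauT (K := K)).range ⊓ (B ⊔ P0 K)) (K := P0 K)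
    le_normalizer_of_normal (by
      refine Nat.Coprime.coprime_dvd_left ?_ hcB
      rw [← H1.card_map_of_disjoint_ker (f := QuotientGroup.mk' (P0 K))
        (by rw [QuotientGroup.ker_mk']; exact hdis.mono_left inf_le_left)]
      refine (card_dvd_of_le ((map_mono inf_le_right).trans ?_)).trans (card_map_dvd B (QuotientGroup.mk' (P0 K)))
      rw [Subgroup.map_sup, QuotientGroup.map_mk'_self, sup_bot_eq])
    (B := B) (fun b hb => by
      obtain ⟨t, ht⟩ := hcov b
      have h1 : tauT t ∈ B ⊔ P0 K := by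
        simpa using mul_mem (mem_sup_left hb) (mem_sup_right (inv_mem ht) : _ ∈ B ⊔ P0 K)
      have h2 : tauT t ∈ (tauT (K := K)).range ⊓ (B ⊔ P0 K) := ⟨⟨t, rfl⟩, h1⟩
      simpa using mul_mem (mem_sup_right h2) (mem_sup_left ht : _ ∈ P0 K ⊔ _))
    hcB (Or.inr (by have := hp0.isNilpotent; infer_instance))
  have hg : GrpIso (⊤ : Subgroup (US K)) ⊤ (equivFun n) (equivFun n⁻¹) :=
    ⟨isHomOn_equivFun _, isHomOn_equivFun _, fun _ _ => trivial, fun _ _ => trivial,
      fun x hx => equivFun_inv_apply n hx, fun x hx => equivFun_apply_inv n hx⟩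
  obtain ⟨E, hE⟩ := F.exists_isoVia hg
  refine ⟨E, _, _, hE, fun f hf => ?_⟩
  obtain ⟨α, hα, e⟩ := (hE.isIso_symm le_rfl le_rfl (by rwa [hg.img_top])).exists_aut
  obtain ⟨i, hi, b, hb, rfl⟩ := (H1.mem_sup_of_le_normalizer le_normalizer_of_normal).1 (hsup.ge hα)
  obtain ⟨w, -, hw⟩ := mem_inn_iff.1 hi
  obtain ⟨t, ht⟩ := (hn' (H1.conj_mem_conj_smul_iff.2 hb)).1
  refine ⟨equivFun n w, t, fun x => ?_⟩
  have h1 := congrArg (equivFun n) (e (equivFun n⁻¹ x) trivial)
  rw [equivFun_apply_inv n (mem_top _), equivFun_apply_inv n (mem_top _), equivFun_mul _ _ (mem_top _),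
    equivFun_of_mem i (mem_top _), hw, (isHomOn_equivFun n).map_conj (mem_top _) (mem_top _)] at h1
  rw [← h1, ← ef_tauT, ht, equivFun_mul _ _ (mem_top _), equivFun_mul _ _ (mem_top _)]

theorem std_of_two (hq : ∀ s : K, s = 0 ∨ s = 1) {F : FusionSystem (⊤ : Subgroup (US K))}
    (hF : F.IsSaturated 2) : Std F := fun f hf => by
  obtain ⟨α, hα, e⟩ := hf.exists_aut
  obtain ⟨a, b, σ, h⟩ := exists_par α
  have hσ : ∀ s, σ s = s := fun s => by rcases hq s with rfl | rfl <;> simp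
  have hu : ∀ u : Kˣ, (u : K) = 1 := fun u => (hq u).resolve_left u.ne_zero
  obtain ⟨k, hk⟩ := H1.isPGroup_iff_forall_mem.1 isPGroup_P0 α (mem_P0.2 fun x => by
    simpa [hσ, hu] using h x)
  obtain ⟨s, -, hs⟩ := mem_inn_iff.1 ((hF.sylowIn_top isPGroup_top).mem_of_mem_normalizer hα
    (le_normalizer_inn ⊤ (mem_top _)) hk)
  exact ⟨s, 1, fun x => by
    rw [tauF_one, ← e x trivial, equivFun_of_mem _ (mem_top x)]; exact hs ⟨x, trivial⟩⟩

end Cfsg.Agent.RF
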