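import Cfsg.Agent.Lib.RF.Sub

/-!
# S5262: automorphisms of `S`, the `2`-group part (see notes/RF.md, section Aut)
-/

set_option autoImplicit false
set_option linter.unusedSectionVars false
set_option linter.unusedVariables false
set_option linter.unusedSimpArgs false
set_option linter.unnecessarySeqFocus false
set_option maxHeartbeats 1600000
set_option maxRecDepth 8000

namespace Cfsg.Agent.RF

open Subgroup Cfsg Cfsg.FusionSystem U5
open scoped commutatorElement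

variable {K : Type*} [Field K] [TF K] {x y : US K}

theorem mem_Z2_of_cm (h : ∀ r : US K, x⁻¹ * (r * x * r⁻¹) ∈ Z1 K) : x ∈ Z2 K := by
  have k1 := (h (x8 1)).2.2.1
  simp at k1
  have h3 := mem_Z3_of_cm (by grind) fun r _ => h r
  have k2 := (h (x1 1 0)).2.2.2.2.2.2.2.2.2.2
  simp [mem_Z3.1 h3] at k2
  simp [mem_Z2, mem_Z3.1 h3]
  grind

theorem mem_Z3_of_cm2 (h : ∀ r : US K, x⁻¹ * (r * x * r⁻¹) ∈ Z2 K) : x ∈ Z3 K := by
  have k1 := (h (x8 1)).2.2.1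
  have k2 := (h (x1 1 0)).2.2.1
  simp at k1 k2
  have h1 : x.a1 = 0 := by grind
  have h8 : x.a8 = 0 := by grind
  have k3 := (h (x8 1)).2.2.2.2.1
  have k4 := (h (x1 0 1)).2.2.2.2.2.2.1
  simp [h1, h8] at k3 k4
  have hu : x.u1 = 0 := by grind
  have h7 : x.a7 = 0 := by grind
  have k5 := (h (x5 1 0)).2.2.2.2.2.2.2.2.2
  have k6 := (h (x3 1 0)).2.2.2.2.2.2.2.2.2
  have k7 := (h (x7 1 0)).2.2.2.2.2.2.2.2.2
  have k8 := (h (x1 0 1)).2.2.2.2.2.2.2.2.2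
  have k9 := (h (x1 1 0)).2.2.2.2.2.2.2.2.2
  simp [h1, h8, hu, h7] at k5 k6 k7 k8 k9
  exact ⟨h8, h1, h7, hu, by grind, by grind, by grind, by grind, by grind⟩

section
variable (γ : MulAut (⊤ : Subgroup (US K)))

theorem aut_Z2 : Inv γ (Z2 K) := fun x hx hZ =>
  mem_Z2_of_cm fun y => (inv_Z1 le_top γ).cm hx trivial (cm_Z2 hZ _)

theorem aut_Z3 : Inv γ (Z3 K) := fun x hx hZ =>
  mem_Z3_of_cm2 fun y => (aut_Z2 γ).cm hx trivial (cm_Z3 hZ _)

theorem aut_Q2 : Inv γ (Q2 K) := inv_Q2 le_top (aut_Z2 γ)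

theorem aut_XX : Inv γ (XX K) := inv_XX le_top (aut_Z3 γ)

theorem aut_AQ : Inv γ (AQ K) := inv_AQ le_top (inv_Z1 le_top γ) (aut_Z3 γ)

theorem aut_Z7 : Inv γ (Z7 K) := inv_Z7 le_top (inv_Z1 le_top γ) (aut_Z2 γ) (aut_Z3 γ)

end

instance : (Fr (⊤ : Subgroup (US K))).Normal := ⟨fun x hx t => by
  simpa using mul_mem hx (cm_mem_Fr isPGroup_US (mem_top x) (mem_top t))⟩

theorem Z5_le_Fr : Z5 K ≤ Fr ⊤ := fun z hz => by
  have c := fun x y : US K => cm_mem_Fr isPGroup_US (mem_top x) (mem_top y)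
  have s := fun x : US K => sq_mem_Fr isPGroup_US (mem_top x)
  obtain ⟨a, ha⟩ := exists_mul_phi z.u7
  obtain ⟨y, hy, e⟩ : ∃ y ∈ Z2 K, z = (x1 1 0)⁻¹ * (x3 z.a2 0 * x1 1 0 * (x3 z.a2 0)⁻¹) *
      (x7 a 0 * x7 a 0) * ((x7 1 0)⁻¹ * (x5 z.a6 0 * x7 1 0 * (x5 z.a6 0)⁻¹)) *
      ((x3 1 0)⁻¹ * (x5 z.a4 0 * x3 1 0 * (x5 z.a4 0)⁻¹)) * y :=
    ⟨_, by simp [mem_Z2, mem_Z5.1 hz, CharTwo.add_self_eq_zero, ha],
      (mul_inv_cancel_left _ _).symm⟩
  obtain ⟨b, hb⟩ := exists_mul_phi y.u3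
  obtain ⟨d, hd⟩ := exists_mul_phi y.u5
  rw [e, show y = x3 b 0 * x3 b 0 * (x5 d 0 * x5 d 0) by
    ext <;> simp [mem_Z2.1 hy, hb, hd, CharTwo.add_self_eq_zero]]
  exact mul_mem (mul_mem (mul_mem (mul_mem (c _ _) (s _)) (c _ _)) (c _ _)) (mul_mem (s _) (s _))

theorem Z7_cases (hx : x ∈ Z7 K) : x ∈ Fr ⊤ ∨ (x5 1 0)⁻¹ * x ∈ Fr ⊤ := by
  have c := fun x y : US K => ce_mem_Fr isPGroup_US (mem_top x) (mem_top y)
  obtain ⟨a, ha⟩ := exists_mul_phi x.u1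
  obtain ⟨p, hp, y, hy, rfl⟩ : ∃ p ∈ Fr ⊤, ∃ y ∈ X4 K, x = p * y :=
    ⟨x1 a 0 * x1 a 0 * ⁅x1 1 0, x8 x.a7⁆ * ⁅x1 0 (x.a3 + x.a7), x8 1⁆,
      mul_mem (mul_mem (sq_mem_Fr isPGroup_US trivial) (c _ _)) (c _ _), _, by
        simp [mem_X4, mem_Z7.1 hx, commutatorElement_def, CharTwo.add_self_eq_zero, ha]
        grind, (mul_inv_cancel_left _ _).symm⟩
  have k : ∀ s : K, ∀ y ∈ X4 K, y.a5 = s → (x5 s 0)⁻¹ * y ∈ Fr ⊤ := fun s y hy e =>
    Z5_le_Fr (by simp [mem_Z5, mem_X4.1 hy, e, CharTwo.add_self_eq_zero])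
  by_cases h1 : y.a5 = 1
  · refine Or.inr ?_
    simpa [mul_assoc] using mul_mem ((inferInstance : (Fr ⊤).Normal).conj_mem p hp (x5 1 0)⁻¹)
      (k 1 y hy h1)
  refine Or.inl (mul_mem hp ?_)
  by_cases h0 : y.a5 = 0
  · exact Z5_le_Fr (by simp [mem_Z5, mem_X4.1 hy, h0])
  have h2 : φ y.a5 + y.a5 ≠ 0 := fun e => by
    have := congrArg φ e
    simp at this
    grind
  have h3 := mul_mem (c (x1 0 (y.a5 / (φ y.a5 + y.a5))) (x8 y.a5))
    (c (x1 0 (y.a5 * (y.a5 / (φ y.a5 + y.a5)))) (x8 1))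
  have h4 := (mul_mem_cancel_right h3).1 (k y.a5 _
    (by simp [mem_X4, commutatorElement_def, CharTwo.add_self_eq_zero])
    (by simp [commutatorElement_def, CharTwo.add_self_eq_zero]; grind))
  exact (mul_mem_cancel_left h4).1 (k _ y hy rfl)

variable (K) in
/-- the chain `Z7 ≤ ⊤` -/
def ch7 : ℕ → Subgroup (US K)
  | 0 => Z7 K
  | _ + 1 => ⊤

theorem ch7_mono : Monotone (ch7 K) := monotone_nat_of_le_succ fun n =>
  match n with
  | 0 => le_top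
  | _ + 1 => le_rfl

variable (K) in
/-- the automorphisms trivial on `S / Z7` -/
def P0 : Subgroup (MulAut (⊤ : Subgroup (US K))) := H7.chainStab ⊤ (ch7 K) ch7_mono

theorem mem_P0 {γ : MulAut (⊤ : Subgroup (US K))} :
    γ ∈ P0 K ↔ ∀ x, (equivFun γ x).a8 = x.a8 ∧ (equivFun γ x).a1 = x.a1 :=
  ⟨fun h x => by
    have := mem_Z7.1 (h 0 x trivial trivial)
    simp at this
    grind, fun h i x _ _ =>
    match i with
    | 0 => by simp [ch7, mem_Z7, h x, CharTwo.add_self_eq_zero]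
    | _ + 1 => trivial⟩

instance : (P0 K).Normal := ⟨fun δ hδ γ => conj_mem_chainStab _
  (fun i => match i with | 0 => aut_Z7 γ | _ + 1 => Inv.top) hδ⟩

theorem isPGroup_P0 : IsPGroup 2 (P0 K) := by
  rw [H1.isPGroup_iff_forall_mem]
  intro α hα
  obtain ⟨k, hk⟩ := H1.isPGroup_iff_forall_mem.1 (isPGroup_frStab (R := ⊤) isPGroup_US) (α ^ 2)
    (mem_frStab.2 fun x _ => by
      have hy : x⁻¹ * equivFun α x ∈ Z7 K := hα 0 x trivial trivial
      rw [pow_two, equivFun_mul _ _ (mem_top x), ← mul_inv_cancel_left x (equivFun α x),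
        ef_mul α trivial trivial, ← mul_assoc]
      generalize x⁻¹ * equivFun α x = y at hy
      rw [← mul_inv_cancel_left y (equivFun α y), ← mul_assoc]
      refine mul_mem (sq_mem_Fr isPGroup_US trivial) ?_
      rcases Z7_cases hy with h1 | h1
      · exact mul_mem (inv_mem h1) (inv_Fr α y trivial h1)
      rcases Z7_cases (aut_Z7 α y trivial hy) with h2 | h2
      · exact mul_mem (inv_mem (equivFun_inv_apply α (mem_top y) ▸ inv_Fr α⁻¹ _ trivial h2)) h2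
      · simpa [mul_assoc] using mul_mem (inv_mem h1) h2)
  exact ⟨k + 1, by rw [pow_succ', pow_mul, hk]⟩

theorem exists_par (γ : MulAut (⊤ : Subgroup (US K))) : ∃ (a b : Kˣ) (σ : K ≃+* K), ∀ x,
    (equivFun γ x).a8 = a * σ x.a8 ∧ (equivFun γ x).a1 = b * σ x.a1 := by
  have key : ∀ {U : Subgroup (US K)}, Inv γ U → ∀ x y, y⁻¹ * x ∈ U →
      (equivFun γ y)⁻¹ * equivFun γ x ∈ U := fun hi x y h => by
    have := hi _ trivial h
    rwa [ef_mul γ trivial trivial, ef_inv γ trivial] at this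
  have back : ∀ {U : Subgroup (US K)}, Inv γ⁻¹ U → ∀ x, equivFun γ x ∈ U → x ∈ U :=
    fun hi x h => equivFun_inv_apply γ (mem_top x) ▸ hi _ trivial h
  obtain ⟨A, hA⟩ : ∃ A : K → K, ∀ x, (equivFun γ x).a1 = A x.a1 :=
    ⟨fun α => (equivFun γ (x1 α 0)).a1, fun x => by
      have := mem_AQ.1 (key (aut_AQ γ) x (x1 x.a1 0) (by simp [mem_AQ, CharTwo.add_self_eq_zero]))
      simp at this
      grind⟩
  obtain ⟨B, hB⟩ : ∃ B : K → K, ∀ x, (equivFun γ x).a8 = B x.a8 :=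
    ⟨fun β => (equivFun γ (x8 β)).a8, fun x => by
      have := mem_Q2.1 (key (aut_Q2 γ) x (x8 x.a8) (by simp [mem_Q2, CharTwo.add_self_eq_zero]))
      simp at this
      grind⟩
  have hz : ∀ δ : K, x7 δ 0 ∈ Z7 K := fun δ => ⟨rfl, rfl⟩
  obtain ⟨D, hD⟩ : ∃ D : K → K, ∀ x ∈ Z7 K, (equivFun γ x).a7 = D x.a7 :=
    ⟨fun δ => (equivFun γ (x7 δ 0)).a7, fun x hx => by
      have := (key (aut_XX γ) x (x7 x.a7 0)
        (by simp [mem_XX, mem_Z7.1 hx, CharTwo.add_self_eq_zero])).2.2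
      simp [mem_Z7.1 (aut_Z7 γ _ trivial (hz x.a7))] at this
      grind⟩
  have d1 : ∀ x y, D (x + y) = D x + D y := fun x y => by
    have := hD _ (mul_mem (hz x) (hz y))
    rw [ef_mul γ trivial trivial] at this
    simpa [hD _ (hz _), (aut_Z7 γ _ trivial (hz x)).1] using this.symm
  have d2 : ∀ x, D x = 0 → x = 0 := fun x hx => by
    have h1 := aut_Z7 γ _ trivial (hz x)
    exact (back (aut_XX γ⁻¹) _ ⟨h1.1, h1.2, (hD _ (hz x)).trans hx⟩).2.2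
  have a1 : A 1 ≠ 0 := fun e => one_ne_zero (back (aut_AQ γ⁻¹) (x1 (1 : K) 0) ((hA _).trans e) :)
  have rel : ∀ β α, D (β * α) = B β * A α := fun β α => by
    have := hD ⁅x8 β, x1 α 0⁆ (by simp [mem_Z7, commutatorElement_def, CharTwo.add_self_eq_zero])
    rw [ef_ce γ trivial trivial] at this
    have h1 := mem_Q2.1 (aut_Q2 γ (x1 α 0) trivial rfl)
    have h2 := hA (x1 α 0)
    have h3 := hB (x8 β)
    have h4 := mem_AQ.1 (aut_AQ γ (x8 β) trivial rfl)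
    simp only [x1_a1, x8_a8] at h2 h3
    simp [commutatorElement_def, h1, h2, h3, h4, CharTwo.add_self_eq_zero] at this
    grind
  obtain ⟨σ, hσ⟩ := isotopy d1 d2 a1 fun β => ⟨B β, rel β⟩
  have d3 : D 1 ≠ 0 := fun e => one_ne_zero (d2 1 e)
  refine ⟨Units.mk0 _ (div_ne_zero d3 a1), Units.mk0 _ a1, σ, fun x => ⟨?_, ?_⟩⟩
  · have := rel x.a8 1
    rw [mul_one, (hσ _).1] at this
    rw [hB]
    simp only [Units.val_mk0]
    field_simp
    linear_combination -this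
  · rw [hA x, (hσ _).2]; rfl

end Cfsg.Agent.RF
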