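import Cfsg.Agent.Lib.LT.Mod2

/-!
# S5262: certificates for the Sylow `2`-subgroup of `²F₄(q)` in coordinates
-/

set_option autoImplicit false
set_option linter.unusedSectionVars false
set_option linter.unusedVariables false

namespace Cfsg.Agent.RF

open Cfsg.Agent.LT Mat Cfsg.Lie

noncomputable section

/-- variables `2 k` and `2 k + 1` are `t` and `φ t` -/
def sb (i : ℕ) : List ℕ :=
  bif Nat.beq (Nat.mod i 2) 0 then [Nat.succ i] else [Nat.pred i, Nat.pred i]

def w1 (a b : ℕ) (s : MP) : List (ℕ × MP) := [(a, s), (b, msub sb s)]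

def w2 (a b c d : ℕ) (s u : MP) : List (ℕ × MP) :=
  [(a, s), (b, msub sb s), (c, mmul s (msub sb s) ++ u), (d, msub sb u)]

def wP (Z : ℕ → MP) : List (ℕ × MP) := w2 27 25 28 30 (Z 0) (Z 1) ++ w1 37 32 (Z 2) ++
  w2 35 31 40 46 (Z 3) (Z 4) ++ w1 39 45 (Z 5) ++ w2 29 41 44 47 (Z 6) (Z 7) ++ w1 38 43 (Z 8) ++
  w2 34 26 36 42 (Z 9) (Z 10) ++ w1 33 24 (Z 11)

def vX (k : ℕ) : MP := [(false, [2 * k])]
def vY (k : ℕ) : MP := [(false, [24 + 2 * k])]

def s1 (a b : ℕ) (s : MP) : List (ℕ × MP) := [(b, msub sb s), (a, s)]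

def s2 (a b c d : ℕ) (s u : MP) : List (ℕ × MP) :=
  [(b, msub sb s), (a, s), (d, msub sb (mmul s (msub sb s) ++ u)), (c, u)]

/-- the image of `wP vX` under the twisting endomorphism -/
def wS : List (ℕ × MP) := s2 27 25 28 30 (vX 0) (vX 1) ++ s1 37 32 (vX 2) ++
  s2 35 31 40 46 (vX 3) (vX 4) ++ s1 39 45 (vX 5) ++ s2 29 41 44 47 (vX 6) (vX 7) ++
  s1 38 43 (vX 8) ++ s2 34 26 36 42 (vX 9) (vX 10) ++ s1 33 24 (vX 11)

def wN1 : List (ℕ × MP) := w1 33 24 (vX 2) ++ w2 34 26 36 42 (vX 3) (vX 4) ++ w1 38 43 (vX 5) ++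
  w2 29 41 44 47 (vX 6) (vX 7) ++ w1 39 45 (vX 8) ++ w2 35 31 40 46 (vX 9) (vX 10) ++
  w1 37 32 (vX 11)

def wN2 : List (ℕ × MP) := w2 34 26 36 42 (vX 0) (vX 1) ++ w1 38 43 (vX 2) ++
  w2 29 41 44 47 (vX 3) (vX 4) ++ w1 39 45 (vX 5) ++ w2 35 31 40 46 (vX 6) (vX 7) ++
  w1 37 32 (vX 8) ++ w2 27 25 28 30 (vX 9) (vX 10)

def zM : List MP := [
  [(false, [0]), (false, [24])],
  [(false, [2]), (false, [26]), (false, [0, 25])],
  [(false, [4]), (false, [28]), (false, [6, 24]), (false, [18, 26]), (false, [22, 27]), (false,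
    [18, 24, 25]), (false, [22, 24, 26]), (false, [22, 24, 24, 25])],
  [(false, [6]), (false, [30]), (false, [18, 25]), (false, [22, 26])],
  [(false, [8]), (false, [32]), (false, [6, 31]), (false, [10, 24]), (false, [12, 28]), (false,
    [16, 26]), (false, [18, 29]), (false, [20, 27]), (false, [6, 23, 27]), (false, [12, 18, 26]),
    (false, [12, 22, 27]), (false, [16, 24, 25]), (false, [18, 25, 31]), (false, [19, 24, 28]),
    (false, [20, 24, 26]), (false, [22, 24, 29]), (false, [22, 26, 31]), (false, [23, 26, 28]),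
    (false, [6, 19, 24, 24]), (false, [12, 18, 24, 25]), (false, [12, 22, 24, 26]), (false, [18,
    19, 24, 26]), (false, [18, 23, 26, 26]), (false, [19, 22, 24, 27]), (false, [20, 24, 24, 25]),
    (false, [22, 23, 26, 27]), (false, [23, 24, 25, 28]), (false, [12, 22, 24, 24, 25]), (false,
    [18, 19, 24, 24, 25]), (false, [19, 22, 24, 24, 26]), (false, [22, 23, 24, 25, 27]), (false,
    [22, 23, 24, 26, 26]), (false, [18, 23, 24, 24, 25, 25]), (false, [19, 22, 24, 24, 24, 25]),
    (false, [22, 23, 24, 24, 24, 25, 25])],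
  [(false, [10]), (false, [34]), (false, [12, 30]), (false, [16, 25]), (false, [19, 28]), (false,
    [20, 26]), (false, [22, 29]), (false, [12, 18, 25]), (false, [12, 22, 26]), (false, [18, 19,
    26]), (false, [19, 22, 27]), (false, [19, 24, 30]), (false, [23, 25, 28]), (false, [23, 26,
    30]), (false, [22, 23, 25, 27]), (false, [22, 23, 26, 26]), (false, [23, 24, 25, 30]), (false,
    [19, 22, 24, 24, 25]), (false, [22, 23, 24, 24, 25, 25])],
  [(false, [12]), (false, [36]), (false, [19, 24]), (false, [23, 26]), (false, [23, 24, 25])],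
  [(false, [14]), (false, [38]), (false, [12, 37]), (false, [16, 30]), (false, [17, 24]), (false,
    [18, 34]), (false, [20, 28]), (false, [21, 26]), (false, [22, 32]), (false, [16, 18, 25]),
    (false, [16, 22, 26]), (false, [18, 20, 26]), (false, [18, 22, 29]), (false, [19, 24, 37]),
    (false, [20, 22, 27]), (false, [20, 24, 30]), (false, [21, 24, 25]), (false, [22, 24, 34]),
    (false, [22, 30, 31]), (false, [23, 26, 37]), (false, [23, 28, 30]), (false, [12, 18, 18, 25]),
    (false, [12, 22, 22, 27]), (false, [18, 18, 19, 26]), (false, [18, 23, 25, 28]), (false, [18,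
    23, 26, 30]), (false, [22, 22, 24, 29]), (false, [22, 23, 26, 28]), (false, [22, 23, 27, 30]),
    (false, [23, 24, 25, 37]), (false, [18, 22, 23, 25, 27]), (false, [18, 22, 23, 26, 26]),
    (false, [18, 23, 24, 25, 30]), (false, [19, 22, 22, 24, 27]), (false, [20, 22, 24, 24, 25]),
    (false, [22, 23, 24, 26, 30]), (false, [12, 22, 22, 24, 24, 25]), (false, [22, 22, 23, 24, 25,
    27]), (false, [22, 22, 23, 24, 26, 26]), (false, [22, 23, 24, 24, 25, 30]), (false, [18, 22,
    23, 24, 24, 25, 25]), (false, [19, 22, 22, 24, 24, 24, 25]), (false, [22, 22, 23, 24, 24, 24,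
    25, 25])],
  [(false, [16]), (false, [40]), (false, [18, 36]), (false, [20, 24]), (false, [22, 31]), (false,
    [23, 28]), (false, [18, 23, 26]), (false, [22, 23, 27]), (false, [22, 24, 36]), (false, [18,
    23, 24, 25]), (false, [22, 23, 24, 26]), (false, [22, 23, 24, 24, 25])],
  [(false, [18]), (false, [42]), (false, [22, 24])],
  [(false, [20]), (false, [44]), (false, [18, 43]), (false, [22, 36]), (false, [23, 30]), (false,
    [18, 23, 25]), (false, [22, 23, 26]), (false, [22, 24, 43])],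
  [(false, [22]), (false, [46])]]

def zI : List MP := [
  [(false, [0])],
  [(false, [2]), (false, [0, 1])],
  [(false, [4]), (false, [0, 6]), (false, [2, 18]), (false, [3, 22]), (false, [0, 2, 22]), (false,
    [0, 0, 1, 22])],
  [(false, [6]), (false, [1, 18]), (false, [2, 22]), (false, [0, 1, 22])],
  [(false, [8]), (false, [0, 10]), (false, [2, 16]), (false, [3, 20]), (false, [4, 12]), (false,
    [5, 18]), (false, [6, 7]), (false, [0, 2, 20]), (false, [0, 4, 19]), (false, [0, 5, 22]),
    (false, [0, 6, 12]), (false, [2, 4, 23]), (false, [2, 7, 22]), (false, [3, 18, 19]), (false,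
    [0, 0, 1, 20]), (false, [0, 0, 6, 19]), (false, [0, 2, 6, 23]), (false, [0, 3, 19, 22]),
    (false, [2, 2, 18, 23]), (false, [2, 3, 22, 23]), (false, [0, 0, 1, 18, 19]), (false, [0, 0, 2,
    19, 22]), (false, [0, 2, 2, 22, 23]), (false, [0, 0, 0, 1, 19, 22]), (false, [0, 0, 1, 2, 22,
    23])],
  [(false, [10]), (false, [1, 16]), (false, [2, 20]), (false, [4, 19]), (false, [5, 22]), (false,
    [6, 12]), (false, [0, 1, 20]), (false, [1, 4, 23]), (false, [1, 7, 22]), (false, [2, 6, 23]),
    (false, [3, 19, 22]), (false, [0, 1, 6, 23]), (false, [1, 3, 22, 23]), (false, [2, 2, 22, 23]),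
    (false, [0, 0, 1, 1, 22, 23])],
  [(false, [12]), (false, [0, 19]), (false, [2, 23])],
  [(false, [14]), (false, [0, 17]), (false, [2, 21]), (false, [4, 20]), (false, [6, 16]), (false,
    [8, 22]), (false, [10, 18]), (false, [12, 13]), (false, [0, 13, 19]), (false, [1, 16, 18]),
    (false, [2, 13, 23]), (false, [2, 16, 22]), (false, [2, 18, 20]), (false, [3, 20, 22]), (false,
    [4, 6, 23]), (false, [4, 12, 22]), (false, [4, 18, 19]), (false, [5, 18, 22]), (false, [6, 12,
    18]), (false, [0, 1, 16, 22]), (false, [0, 1, 18, 20]), (false, [0, 5, 22, 22]), (false, [0, 6,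
    6, 23]), (false, [1, 4, 18, 23]), (false, [1, 7, 18, 22]), (false, [2, 4, 22, 23]), (false, [2,
    6, 18, 23]), (false, [2, 18, 18, 19]), (false, [3, 6, 22, 23]), (false, [3, 18, 19, 22]),
    (false, [0, 1, 4, 22, 23]), (false, [0, 1, 6, 18, 23]), (false, [0, 1, 7, 22, 22]), (false, [0,
    3, 19, 22, 22]), (false, [1, 3, 18, 22, 23]), (false, [2, 2, 18, 22, 23]), (false, [0, 1, 3,
    22, 22, 23]), (false, [0, 2, 2, 22, 22, 23]), (false, [0, 0, 1, 1, 18, 22, 23]), (false, [0, 0,
    0, 1, 1, 22, 22, 23])],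
  [(false, [16]), (false, [0, 20]), (false, [4, 23]), (false, [7, 22]), (false, [12, 18]), (false,
    [0, 6, 23]), (false, [0, 12, 22]), (false, [0, 18, 19]), (false, [2, 18, 23]), (false, [3, 22,
    23]), (false, [0, 2, 22, 23]), (false, [0, 0, 1, 22, 23])],
  [(false, [18]), (false, [0, 22])],
  [(false, [20]), (false, [6, 23]), (false, [12, 22]), (false, [18, 19]), (false, [1, 18, 23]),
    (false, [2, 22, 23]), (false, [0, 1, 22, 23])],
  [(false, [22])]]

def z1 : List MP := [
  [],
  [],
  [(false, [22])],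
  [(false, [18])],
  [(false, [20]), (false, [6, 23]), (false, [12, 22])],
  [(false, [16]), (false, [4, 23]), (false, [7, 22]), (false, [12, 18])],
  [(false, [12])],
  [(false, [14]), (false, [4, 20]), (false, [6, 16]), (false, [8, 22]), (false, [10, 18]), (false,
    [4, 6, 23]), (false, [4, 12, 22]), (false, [4, 18, 19]), (false, [5, 18, 22]), (false, [6, 12,
    18])],
  [(false, [10]), (false, [4, 19]), (false, [5, 22]), (false, [6, 12])],
  [(false, [6])],
  [(false, [8]), (false, [4, 12]), (false, [5, 18])],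
  [(false, [4])]]

def z2 : List MP := [
  [(false, [18])],
  [(false, [20])],
  [(false, [16]), (false, [0, 20]), (false, [12, 18]), (false, [0, 18, 19])],
  [(false, [12]), (false, [0, 19])],
  [(false, [14]), (false, [0, 17]), (false, [2, 21]), (false, [4, 20]), (false, [6, 16]), (false,
    [10, 18]), (false, [1, 16, 18]), (false, [2, 18, 20]), (false, [4, 18, 19]), (false, [6, 12,
    18]), (false, [0, 1, 18, 20]), (false, [1, 12, 18, 18]), (false, [2, 18, 18, 19]), (false, [0,
    1, 18, 18, 19])],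
  [(false, [10]), (false, [1, 16]), (false, [2, 20]), (false, [4, 19]), (false, [6, 12]), (false,
    [0, 1, 20])],
  [(false, [6]), (false, [1, 18])],
  [(false, [8]), (false, [0, 10]), (false, [2, 16]), (false, [3, 20]), (false, [4, 12]), (false,
    [5, 18]), (false, [0, 2, 20]), (false, [0, 4, 19]), (false, [0, 6, 12]), (false, [1, 7, 18]),
    (false, [3, 18, 19]), (false, [0, 0, 1, 20])],
  [(false, [4]), (false, [0, 6]), (false, [2, 18])],
  [(false, [0])],
  [(false, [2])],
  []]

/-- all four columns -/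
def cE (w w' : List (ℕ × MP)) : Prop := ((w ++ w').all fun a => posN chevF4 cF4 a.1) = true ∧
  ∀ i < chevF4.rank, colEq chevF4 cF4 2 w w' i = true

theorem cE_of {w w' : List (ℕ × MP)} (h : ((w ++ w').all fun a => posN chevF4 cF4 a.1) = true)
    (h0 : colEq chevF4 cF4 2 w w' 0 = true) (h1 : colEq chevF4 cF4 2 w w' 1 = true)
    (h2 : colEq chevF4 cF4 2 w w' 2 = true) (h3 : colEq chevF4 cF4 2 w w' 3 = true) : cE w w' :=
  ⟨h, fun i (hi : i < 4) => by interval_cases i <;> assumption⟩

theorem cM0 : colEq chevF4 cF4 2 (wP vX ++ wP vY) (wP fun k => zM.getD k []) 0 = true := by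
  decide +kernel

theorem cM1 : colEq chevF4 cF4 2 (wP vX ++ wP vY) (wP fun k => zM.getD k []) 1 = true := by
  decide +kernel

theorem cM2 : colEq chevF4 cF4 2 (wP vX ++ wP vY) (wP fun k => zM.getD k []) 2 = true := by
  decide +kernel

theorem cM3 : colEq chevF4 cF4 2 (wP vX ++ wP vY) (wP fun k => zM.getD k []) 3 = true := by
  decide +kernel

theorem cM : cE (wP vX ++ wP vY) (wP fun k => zM.getD k []) :=
  cE_of (by decide +kernel) cM0 cM1 cM2 cM3

theorem cI : cE (wP vX).reverse (wP fun k => zI.getD k []) :=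
  cE_of (by decide +kernel) (by decide +kernel) (by decide +kernel) (by decide +kernel)
    (by decide +kernel)

theorem cS : cE wS (wP vX) :=
  cE_of (by decide +kernel) (by decide +kernel) (by decide +kernel) (by decide +kernel)
    (by decide +kernel)

theorem c1 : cE wN1 (wP fun k => z1.getD k []) :=
  cE_of (by decide +kernel) (by decide +kernel) (by decide +kernel) (by decide +kernel)
    (by decide +kernel)

theorem c2 : cE wN2 (wP fun k => z2.getD k []) :=
  cE_of (by decide +kernel) (by decide +kernel) (by decide +kernel) (by decide +kernel)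
    (by decide +kernel)

end

end Cfsg.Agent.RF
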