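import Cfsg.Agent.Lib.RF.Sub

/-!
# S5262: locating an involution (see notes/RF.md, section PartA)
-/

set_option autoImplicit false
set_option linter.unusedSectionVars false
set_option linter.unusedVariables false
set_option linter.unusedSimpArgs false
set_option linter.unnecessarySeqFocus false
set_option maxHeartbeats 1600000

namespace Cfsg.Agent.RF

open Subgroup Cfsg Cfsg.FusionSystem U5
open scoped commutatorElement

variable {K : Type*} [Field K] [TF K] {R N : Subgroup (US K)} {M A : Subgroup (MulAut R)}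
  {w x y : US K} {g : MulAut R}

/-- The data used to locate an involution. -/
structure CfgG {W : Type*} [Group W] (Z : Subgroup W) (w : W) (R N : Subgroup W) : Prop where
  ww : w * w = 1
  sq : ∀ x ∈ R, x * x ∈ N
  cm : ∀ x ∈ R, ∀ y ∈ R, x⁻¹ * (y * x * y⁻¹) ∈ N
  k4 : ∀ t, (∀ x ∈ R, x⁻¹ * (t * x * t⁻¹) ∈ N) → t ∈ R
  k5 : ∀ t, (∀ x ∈ R, ∀ r ∈ R, x⁻¹ * (t * x * t⁻¹) * r = r * (x⁻¹ * (t * x * t⁻¹))) →
    (∀ x, (∀ r ∈ R, x * r = r * x) → x * t = t * x) → t ∈ R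
  d1 : ∀ x, x * w = w * x → x ∈ R
  d2 : ∀ r ∈ R, w⁻¹ * (r * w * r⁻¹) ∈ Z

theorem CfgG.conj {W : Type*} [Group W] {Z R N : Subgroup W} [hZ : Z.Normal] {w : W}
    (h : CfgG Z w R N) (y : W) : CfgG Z (y⁻¹ * w * y)
    (R.comap (MulAut.conj y).toMonoidHom) (N.comap (MulAut.conj y).toMonoidHom) := by
  have e : ∀ x, y * (y⁻¹ * x * y) * y⁻¹ = x := fun x => by group
  have i : ∀ {a b : W}, y * a * y⁻¹ = y * b * y⁻¹ → a = b := fun h => by simpa using h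
  refine ⟨?_, fun x hx => ?_, fun x hx z hz => ?_, fun t ht => h.k4 _ fun x hx => ?_,
    fun t h1 h2 => h.k5 _ (fun x hx r hr => ?_) fun x hx => ?_, fun x hx => h.d1 _ ?_,
    fun r hr => ?_⟩
  · calc _ = y⁻¹ * (w * w) * y := by group
      _ = 1 := by rw [h.ww]; group
  · simpa [mul_assoc] using h.sq _ hx
  · simpa [mul_assoc] using h.cm _ hx _ hz
  · simpa [mul_assoc] using ht (y⁻¹ * x * y) (by simpa [mul_assoc] using hx)
  · have := congrArg (fun a => y * a * y⁻¹) (h1 (y⁻¹ * x * y) (by simpa [mul_assoc] using hx)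
      (y⁻¹ * r * y) (by simpa [mul_assoc] using hr))
    simpa [mul_assoc] using this
  · have := congrArg (fun a => y * a * y⁻¹) (h2 (y⁻¹ * x * y) fun r hr => i (by
      simpa [mul_assoc] using hx _ hr))
    simpa [mul_assoc] using this
  · simpa [mul_assoc] using congrArg (fun a => y * a * y⁻¹) hx
  · simpa [mul_assoc] using hZ.conj_mem _ (h.d2 _ hr) y⁻¹

theorem cfgG {W : Type*} [Group W] [Finite W] {Z R : Subgroup W} {M A : Subgroup (MulAut R)} {w : W}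
    (h : Loc 2 R M A) (hw : w * w = 1) (d1 : ∀ x, x * w = w * x → x ∈ R)
    (d2 : ∀ r ∈ R, w⁻¹ * (r * w * r⁻¹) ∈ Z) : CfgG Z w R (Fr R) :=
  ⟨hw, fun x => sq_mem_Fr h.hW, fun x hx y => cm_mem_Fr h.hW hx,
    fun t => mem_of_fr h, fun t => mem_of_cent h, d1, d2⟩

abbrev Cfg (w : US K) (R N : Subgroup (US K)) : Prop := CfgG (Z1 K) w R N

theorem Z3_le (h1 : ∀ s, x4 s ∈ N) (h2 : ∀ s, x3 0 s ∈ N) (h3 : ∀ s, x5 0 s ∈ N) : Z3 K ≤ N :=
  fun z hz => by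
    rw [show z = x4 z.a4 * x3 0 z.u3 * x5 0 z.u5 by ext <;> simp [mem_Z3.1 hz]]
    exact mul_mem (mul_mem (h1 _) (h2 _)) (h3 _)

theorem CfgG.x3_mem (h : Cfg w R N) (h1 : ∀ s, x3 s 0 ∈ R) (s : K) : x3 0 s ∈ N := by
  obtain ⟨r, rfl⟩ := exists_mul_phi s
  convert h.sq _ (h1 r) using 1
  ext <;> simp [CharTwo.add_self_eq_zero]

theorem CfgG.caseA0 (h : Cfg w R N) (hu : w.u1 ≠ 0) (h3 : w.a3 = 0) (h2 : w.a2 = 0) : False := by
  obtain ⟨h8, h1, h7⟩ := invol_XX h.ww (invol_u1 h.ww hu)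
  have k1 := congrArg US.a4 h.ww
  have k2 := congrArg US.u3 h.ww
  have k3 := congrArg US.u5 h.ww
  simp [h8, h1, h7, h3, h2] at k1 k2 k3
  have h9 : w.u7 = 0 := by grind
  have h6 : w.a6 = 0 := by grind
  have h5 : w.a5 = 0 := mul_phi (by grind)
  have d : ∀ s, x3 s 0 ∈ R := fun s => h.d1 _ (by
    ext <;> simp [h8, h1, h7, h3, h2, h9, h6, h5])
  have e : ∀ s, x5 s 0 ∈ R := fun s => h.d1 _ (by
    ext <;> simp [h8, h1, h7, h3, h2, h9, h6, h5])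
  have hZ : Z3 K ≤ N := Z3_le (fun s => by
    convert h.cm _ (d s) _ (e 1) using 1
    ext <;> simp <;> grind) (h.x3_mem d) fun s => by
    obtain ⟨r, rfl⟩ := exists_mul_phi s
    convert h.sq _ (e r) using 1
    ext <;> simp [CharTwo.add_self_eq_zero]
  have := (h.d2 _ (h.k4 (x6 1) fun x _ => hZ (cm_symm (cm_Z4 (by simp [mem_Z4]) x)))).2.2.2.2.2.2.2.2.2.2
  simp [h8, h1, h7, h3, h2, h9, h6, h5] at this
  grind

theorem CfgG.caseA (h : Cfg w R N) (hu : w.u1 ≠ 0) : False := by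
  have key : ∀ {w : US K} {R N}, Cfg w R N → w.u1 ≠ 0 → w.a3 = 0 → False := fun {w R N} h hu h3 => by
    obtain ⟨h8, h1, h7⟩ := invol_XX h.ww (invol_u1 h.ww hu)
    refine (h.conj (x7 (w.a2 / w.u1) 0)).caseA0 ?_ ?_ ?_ <;> simp [h8, h1, h7, h3, hu] <;> grind
  obtain ⟨h8, h1, h7⟩ := invol_XX h.ww (invol_u1 h.ww hu)
  refine key (h.conj (x8 (w.a3 / w.u1))) ?_ ?_ <;> simp [h8, h1, h7, hu] <;> grind

theorem CfgG.caseC0 (h : Cfg w R N) (hw : w ∈ Z5 K) (h2 : w.a2 ≠ 0) (h9 : w.u7 = 0) (h6 : w.a6 = 0)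
    (h4 : w.a4 = 0) : False := by
  have d : ∀ s, x3 s 0 ∈ R := fun s => h.d1 _ (by ext <;> simp [mem_Z5.1 hw, h9, h6, h4, add_comm])
  have e : ∀ s, x6 s ∈ R := fun s => h.d1 _ (by ext <;> simp [mem_Z5.1 hw, h9, h6, h4, add_comm])
  have a : x1 1 0 ∈ R := h.d1 _ (by ext <;> simp [mem_Z5.1 hw, h9, h6, h4, add_comm])
  have k : ∀ s, x5 0 s ∈ N := fun s => by
    convert h.cm _ (d 1) _ (e s) using 1
    ext <;> simp <;> grind
  have hZ : Z3 K ≤ N := Z3_le (fun s => by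
    convert mul_mem (mul_mem (h.cm _ a _ (e s)) (k (φ s))) (h.x3_mem d s) using 1
    ext <;> simp <;> grind) (h.x3_mem d) k
  have := (h.d2 _ (h.k4 (x5 1 0) fun x hx => hZ (by
    obtain ⟨-, -, -, -, -, -, -, -, k1, k2, -⟩ := h.d2 x hx
    simp [mem_Z5.1 hw, h9, h6, h4] at k1 k2
    have k3 : φ x.a8 = 0 := by grind
    have k4 : x.a8 = 0 := by simpa using k3
    have k5 : φ x.a7 = 0 := by grind
    have k6 : x.a7 = 0 := by simpa using k5
    simp [mem_Z3, k4, k6]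
    (repeat' apply And.intro) <;> grind))).2.2.2.2.2.2.2.2.2.2
  simp [mem_Z5.1 hw, h9, h6, h4] at this
  grind

theorem CfgG.caseC (h : Cfg w R N) (hw : w ∈ Z5 K) (h2 : w.a2 ≠ 0) (h9 : w.u7 = 0) : False := by
  have key : ∀ {w : US K} {R N}, Cfg w R N → w ∈ Z5 K → w.a2 ≠ 0 → w.u7 = 0 → w.a6 = 0 → False :=
    fun {w R N} h hw h2 h9 h6 => by
    obtain ⟨s, hs⟩ := exists_phi (w.a4 / w.a2)
    refine (h.conj (x7 s 0)).caseC0 ?_ ?_ ?_ ?_ ?_ <;>
      simp [mem_Z5, mem_Z5.1 hw, h2, h9, h6, hs] <;> grind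
  obtain ⟨s, hs⟩ := exists_phi (w.a6 / w.a2)
  refine key (h.conj (x8 s)) ?_ ?_ ?_ ?_ <;> simp [mem_Z5, mem_Z5.1 hw, h2, h9, hs] <;> grind

theorem CfgG.caseB0 (h : Cfg w R N) (h8 : w.a8 ≠ 0) (h7 : w.a7 = 0) (h3 : w.a3 = 0) : False := by
  have h1 := invol_a1 h.ww
  have hu : w.u1 = 0 := by_contra fun e => h8 (invol_u1 h.ww e)
  have k1 := congrArg US.u7 h.ww
  have k2 := congrArg US.a6 h.ww
  have k3 := congrArg US.u5 h.ww
  have h8' : φ w.a8 ≠ 0 := by simpa using h8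
  simp [h1, hu, h7, h3] at k1 k2 k3
  have h5 : w.a5 = 0 := by grind
  have h2 : w.a2 = 0 := by grind
  have h0 : w.u3 = 0 := by grind
  have a4 : ∀ s, x4 s ∈ R := fun s => h.d1 _ (by ext <;> simp [h1, hu, h7, h3, h5, h2, h0, add_comm])
  have a7 : x7 1 0 * x3 0 (w.a4 / w.a8) ∈ R := h.d1 _ (by
    ext <;> simp [h1, hu, h7, h3, h5, h2, h0, h8] <;> grind)
  have a3 : x3 0 1 ∈ R := h.k4 _ fun x _ => by
    have := cm_symm (cm_Z2 (x := x3 0 1) (by simp [mem_Z2]) x)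
    convert h.cm _ a7 _ (a4 (x⁻¹ * (x3 0 1 * x * (x3 0 1)⁻¹)).u5) using 1
    generalize x⁻¹ * (x3 0 1 * x * (x3 0 1)⁻¹) = z at this
    ext <;> simp [mem_Z1.1 this] <;> grind
  have key : ∀ r ∈ R, r.a1 = 0 ∧ r.u1 = 0 ∧ r.a2 = 0 ∧ r.a3 = 0 := fun r hr => by
    obtain ⟨-, -, m1, -, m2, -, -, -, m3, m4, -⟩ := h.d2 r hr
    have n1 : r.a1 = 0 := by simp [h1] at m1; grind
    have n2 : r.u1 = 0 := by simp [h1, hu, h7, n1] at m2; grind
    simp [h1, hu, h7, h3, h5, h2, h0, n1, n2] at m3 m4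
    have n3 : φ r.a2 = 0 := by grind
    have n4 : r.a2 = 0 := by simpa using n3
    have n5 : φ r.a3 = 0 := by grind
    exact ⟨n1, n2, n4, by simpa using n5⟩
  have := (h.d2 _ (h.k5 (x5 1 0) (fun x hx r hr => by
    ext <;> simp [key x hx, key r hr] <;> grind) fun x hx => by
    have m8 := a8_of_comm one_ne_zero (hx _ a3)
    have m1 := congrArg US.u3 (hx _ (a4 1))
    have m2 := congrArg US.u5 (hx _ (a4 1))
    have m3 := hx (x6 1) (h.d1 _ (by ext <;> simp [h1, hu, h7, h3, h5, h2, h0, add_comm]))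
    have m4 := congrArg US.u5 (hx (x7 0 1) (h.d1 _ (by ext <;> simp [h1, hu, h7, h3, h5, h2, h0, add_comm])))
    have m5 := congrArg US.u7 (hx w (h.d1 _ rfl))
    have m6 := congrArg US.u3 m3
    have m7 := congrArg US.u5 m3
    simp [m8] at m1 m2
    have n1 : x.a1 = 0 := by grind
    have n7 : x.a7 = 0 := by grind
    simp [m8, n1, n7, h1, hu, h7, h3, h5] at m4 m5 m6 m7
    have n2 : x.u1 = 0 := by grind
    have n3 : x.a3 = 0 := by grind
    have n4 : x.a2 = 0 := by grind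
    have n5 : x.a5 = 0 := by grind
    exact comm_VV ⟨m8, n1, n7, n2, n3, n5, n4⟩ (by simp [mem_WV]))).2.2.2.2.2.2.2.1
  simp [h1, hu, h7, h3, h5] at this
  grind

theorem CfgG.mem_VV (h : Cfg w R N) : w ∈ VV K := by
  have hu : ∀ {w : US K} {R N}, Cfg w R N → w.u1 = 0 := fun h => by_contra h.caseA
  have key : ∀ {w : US K} {R N}, Cfg w R N → w.a8 ≠ 0 → w.a7 = 0 → False := fun {w R N} h h8 h7 => by
    refine (h.conj (x1 0 (w.a3 / w.a8))).caseB0 ?_ ?_ ?_ <;>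
      simp [invol_a1 h.ww, hu h, h8, h7] <;> grind
  have h8 : w.a8 = 0 := by_contra fun h8 => by
    refine key (h.conj (x1 (w.a7 / w.a8) 0)) ?_ ?_ <;> simp [invol_a1 h.ww, hu h, h8] <;> grind
  obtain ⟨hw, e⟩ := invol_Z5 h.ww h8 (hu h)
  obtain ⟨k1, k2, k3, k4, k5, k6⟩ := id hw
  exact ⟨k1, k2, k3, k4, k5, k6, by_contra fun h2 => h.caseC hw h2 (by simpa [h2] using e)⟩

end Cfsg.Agent.RF
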