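import Mathlib.Algebra.CharP.Two
import Mathlib.Algebra.Module.Equiv.Basic
import Mathlib.Algebra.Module.Prod
import Mathlib.Data.Fintype.Card
import Mathlib.Tactic

/-!
# S5262: semilinear maps; additive groups on `K × K` permuting the lines (after U5/Lin2)
-/

set_option autoImplicit false
set_option linter.unusedSectionVars false
set_option linter.unusedVariables false
set_option linter.unnecessarySeqFocus false
set_option linter.unusedSimpArgs false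

namespace Cfsg.Agent.RF

variable {K : Type*} [Field K] [Finite K]

/-- An additive map `K → K` with trivial kernel is onto. -/
theorem surj_of_ker {f : K → K} (ha : ∀ x y, f (x + y) = f x + f y) (h : ∀ x, f x = 0 → x = 0) :
    Function.Surjective f :=
  Finite.surjective_of_injective (f := f)
    ((injective_iff_map_eq_zero (AddMonoidHom.mk' f ha)).2 h)

/-- An additive map that is compatible with the scalars up to isotopy is semilinear. -/
theorem semilin {V : Type*} [AddCommGroup V] [Module K V] {P R : V → V} {J : K → K}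
    (hJ : ∀ s t, J (s + t) = J s + J t) (h1 : J 1 ≠ 0) {v₀ : V} (h0 : P v₀ ≠ 0)
    (h : ∀ (s : K) v, R (s • v) = J s • P v) :
    ∃ τ : K ≃+* K, ∀ (s : K) v, P (s • v) = τ s • P v := by
  have key : ∀ (s : K) v, P (s • v) = (J s / J 1) • P v := fun s v => by
    have e := h 1 (s • v)
    rw [one_smul, h] at e
    rw [div_eq_inv_mul, mul_smul, e, inv_smul_smul₀ h1]
  have j0 : J 0 = 0 := by have := hJ 0 0; simpa using this
  let τ : K →+* K :=
    { toFun := fun x => J x / J 1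
      map_one' := div_self h1
      map_mul' := fun x y => by
        have e := key (x * y) v₀
        rw [mul_smul, key, key, smul_smul] at e
        exact (smul_left_injective K h0 e).symm
      map_zero' := by simp [j0]
      map_add' := fun x y => by rw [hJ, add_div] }
  exact ⟨RingEquiv.ofBijective τ ⟨τ.injective, Finite.surjective_of_injective τ.injective⟩, key⟩


/-- the transvections fixing the line `{(0, d)}` -/
def tt (β : K) (v : K × K) : K × K := (v.1, v.2 + β * v.1)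

variable {X : Subgroup ((K × K) ≃ₗ[ℤ] (K × K))}
  (hL : ∀ γ ∈ X, ∀ d d' : K, (γ (0, d)).1 * (γ (0, d')).2 = (γ (0, d)).2 * (γ (0, d')).1)
  (hT : ∀ β : K, ∃ γ ∈ X, ∀ v, γ v = tt β v)
  (hex : ∃ γ ∈ X, ∃ d : K, (γ (0, d)).1 ≠ 0)

theorem lb_add2 (γ : (K × K) ≃ₗ[ℤ] (K × K)) (x y : K) : γ (0, x + y) = γ (0, x) + γ (0, y) := by
  rw [← map_add]; simp

theorem lb_conj {γ u : (K × K) ≃ₗ[ℤ] (K × K)} {β : K} (hu : ∀ v, u v = tt β v) (v : K × K) :
    (γ * u * γ⁻¹) v = v + γ (0, β * (γ⁻¹ v).1) := by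
  have e : γ (γ⁻¹ v) = v := γ.apply_symm_apply v
  rw [LinearEquiv.mul_apply, LinearEquiv.mul_apply, hu]
  conv_rhs => rw [← e, ← map_add]
  congr 1
  rw [e]; ext <;> simp [tt]

include hL in
theorem lin2_move {γ : (K × K) ≃ₗ[ℤ] (K × K)} (hγ : γ ∈ X) (h : ∃ d : K, (γ (0, d)).1 ≠ 0) :
    ∃ β : K, ∀ d : K, (tt β (γ (0, d))).2 = 0 := by
  obtain ⟨d₀, h⟩ := h
  refine ⟨-((γ (0, d₀)).2 / (γ (0, d₀)).1), fun d => ?_⟩
  simp only [tt]
  field_simp
  linear_combination hL γ hγ d₀ d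

include hL hT hex

theorem lb_one : ∃ γ ∈ X, (∀ d, (γ (0, d)).2 = 0) ∧ (∀ d, (γ (0, d)).1 = 0 → d = 0) ∧
    Function.Surjective fun d => (γ (0, d)).1 := by
  obtain ⟨γ, hγ, h⟩ := hex
  obtain ⟨β, h1⟩ := lin2_move hL hγ h
  obtain ⟨u, hu, h2⟩ := hT β
  have h3 : ∀ d, ((u * γ) (0, d)).2 = 0 := fun d => by rw [LinearEquiv.mul_apply, h2, h1]
  have h4 : ∀ d, ((u * γ) (0, d)).1 = 0 → d = 0 := fun d h =>
    congrArg (·.2) ((u * γ).map_eq_zero_iff.1 (Prod.ext h (h3 d)))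
  exact ⟨u * γ, X.mul_mem hu hγ, h3, h4, surj_of_ker (fun x y => by rw [lb_add2]; rfl) h4⟩

theorem lb_low (μ : K) : ∃ γ ∈ X, ∀ v, γ v = (v.1 + μ * v.2, v.2) := by
  obtain ⟨γ, hγ, h1, h2, h3⟩ := lb_one hL hT hex
  have e : ∀ v, γ (γ⁻¹ v) = v := γ.apply_symm_apply
  have h4 : ∀ α, (γ⁻¹ (α, 0)).1 = 0 := fun α => by
    obtain ⟨d, hd⟩ := h3 α
    rw [show (α, (0 : K)) = γ (0, d) from Prod.ext hd.symm (h1 d).symm]
    exact congrArg (·.1) (γ.symm_apply_apply _)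
  have h5 : (γ⁻¹ (0, 1)).1 ≠ 0 := fun h => by
    have := h1 (γ⁻¹ (0, 1)).2
    rw [show ((0 : K), (γ⁻¹ (0, 1)).2) = γ⁻¹ (0, 1) from Prod.ext h.symm rfl, e] at this
    exact one_ne_zero this
  obtain ⟨d₀, hd⟩ := h3 μ
  obtain ⟨u, hu, h6⟩ := hT (d₀ / (γ⁻¹ (0, 1)).1)
  have hm := X.mul_mem (X.mul_mem hγ hu) (X.inv_mem hγ)
  refine ⟨_, hm, fun v => ?_⟩
  have h7 := hL _ hm v.2 1
  have h8 : (γ * u * γ⁻¹) v = (γ * u * γ⁻¹) (v.1, 0) + (γ * u * γ⁻¹) (0, v.2) := by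
    rw [← map_add]; simp
  simp only [lb_conj h6, div_mul_cancel₀ _ h5, Prod.fst_add, Prod.snd_add, h1, hd, h4, mul_zero,
    show ((0 : K), (0 : K)) = 0 from rfl, map_zero] at h7 h8
  rw [lb_conj h6, h8]
  ext
  · simp only [Prod.fst_add, Prod.fst_zero]; linear_combination h7
  · simp [h1]

theorem lin2_w {ν : K} (hν : ν ≠ 0) : ∃ γ ∈ X, ∀ v, γ v = (-(ν⁻¹ * v.2), ν * v.1) := by
  obtain ⟨u, hu, h1⟩ := hT ν
  obtain ⟨l, hl, h2⟩ := lb_low hL hT hex (-ν⁻¹)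
  refine ⟨u * l * u, X.mul_mem (X.mul_mem hu hl) hu, fun v => ?_⟩
  rw [LinearEquiv.mul_apply, LinearEquiv.mul_apply, h1, h2, h1]
  ext <;> simp only [tt] <;> field_simp <;> ring

theorem lin2_h {ν : K} (hν : ν ≠ 0) : ∃ γ ∈ X, ∀ v, γ v = (ν⁻¹ * v.1, ν * v.2) := by
  obtain ⟨u, hu, h1⟩ := lin2_w hL hT hex hν
  obtain ⟨w, hw, h2⟩ := lin2_w hL hT hex (neg_ne_zero.2 (one_ne_zero (α := K)))
  refine ⟨u * w, X.mul_mem hu hw, fun v => ?_⟩
  rw [LinearEquiv.mul_apply, h2, h1]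
  ext <;> simp

theorem lin2_fix {γ : (K × K) ≃ₗ[ℤ] (K × K)} (hγ : γ ∈ X) (h : ∀ d : K, (γ (0, d)).1 = 0) (β : K) :
    ∃ β' : K, ∀ v, γ (tt β v) = tt β' (γ v) := by
  obtain ⟨w, hw, h1⟩ := lin2_w hL hT hex (neg_ne_zero.2 (one_ne_zero (α := K)))
  have h3 := surj_of_ker (f := fun d => (γ (0, d)).2) (fun x y => by rw [lb_add2]; rfl)
    fun d h' => congrArg (·.2) (γ.map_eq_zero_iff.1 (Prod.ext (h d) h'))
  have h4 : ∀ d, (γ⁻¹ (0, d)).1 = 0 := fun d => by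
    obtain ⟨d', hd⟩ := h3 d
    rw [show ((0 : K), d) = γ (0, d') from Prod.ext (h d').symm hd.symm]
    exact congrArg (·.1) (γ.symm_apply_apply _)
  obtain ⟨u, hu, h6⟩ := hT β
  have hm := X.mul_mem (X.mul_mem (X.mul_mem hγ hu) (X.inv_mem hγ)) hw
  refine ⟨(γ (0, β * (γ⁻¹ (1, 0)).1)).2, fun v => ?_⟩
  have e : γ (tt β v) = (γ * u * γ⁻¹) (γ v) := by
    rw [LinearEquiv.mul_apply, LinearEquiv.mul_apply, show γ⁻¹ (γ v) = v from γ.symm_apply_apply v,
      h6]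
  rw [e]
  generalize γ v = v
  have h7 := hL _ hm v.1 1
  have h8 : (γ * u * γ⁻¹) v = (γ * u * γ⁻¹) (v.1, 0) + (γ * u * γ⁻¹) (0, v.2) := by
    rw [← map_add]; simp
  rw [LinearEquiv.mul_apply _ w, LinearEquiv.mul_apply _ w, h1, h1] at h7
  simp only [lb_conj h6, Prod.fst_add, Prod.snd_add, h, h4, mul_zero, inv_neg, inv_one, neg_mul,
    one_mul, neg_neg, neg_zero, show ((0 : K), (0 : K)) = 0 from rfl, map_zero] at h7 h8
  rw [lb_conj h6, h8]
  ext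
  · simp [tt, h]
  · simp only [tt, Prod.snd_add, Prod.snd_zero]; linear_combination -h7

end Cfsg.Agent.RF
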