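import Cfsg.Agent.Lib.U5.QB
import Cfsg.Agent.Lib.RF.Lin2
import Cfsg.Agent.Lib.H1.Critical
import Cfsg.Agent.Lib.H1.SchurZassenhaus

/-!
# S5262: generic tools (see notes/RF.md)
-/

set_option autoImplicit false
set_option linter.unusedSectionVars false
set_option linter.unusedVariables false

namespace Cfsg.Agent.RF

open Subgroup Cfsg Cfsg.FusionSystem U5
open scoped commutatorElement Pointwise

section Field

variable {K : Type*} [Field K] [Finite K]

/-- The isotopy lemma. -/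
theorem isotopy {R S : K → K} (hR : ∀ x y, R (x + y) = R x + R y)
    (hR0 : ∀ x, R x = 0 → x = 0) (hS0 : S 1 ≠ 0) (h : ∀ α, ∃ μ, ∀ ξ, R (α * ξ) = μ * S ξ) :
    ∃ σ : K ≃+* K, ∀ x, R x = R 1 * σ x ∧ S x = S 1 * σ x := by
  have r1 : R 1 ≠ 0 := fun h => one_ne_zero (hR0 1 h)
  have key : ∀ α ξ, R (α * ξ) * S 1 = R α * S ξ := fun α ξ => by
    obtain ⟨μ, hμ⟩ := h α
    have := hμ 1
    rw [mul_one] at this
    rw [hμ, this]; ring
  have k1 : ∀ ξ, R ξ * S 1 = R 1 * S ξ := fun ξ => by simpa using key 1 ξ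
  have r0 : R 0 = 0 := by have := hR 0 0; simpa using this
  let τ : K →+* K :=
    { toFun := fun x => R x / R 1
      map_one' := div_self r1
      map_mul' := fun x y => by
        field_simp
        apply mul_right_cancel₀ hS0
        linear_combination R 1 * key x y - R x * k1 y
      map_zero' := by simp [r0]
      map_add' := fun x y => by rw [hR, add_div] }
  refine ⟨RingEquiv.ofBijective τ ⟨τ.injective, Finite.surjective_of_injective τ.injective⟩,
    fun x => ⟨?_, ?_⟩⟩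
  · show R x = R 1 * (R x / R 1)
    field_simp
  · show S x = S 1 * (R x / R 1)
    field_simp
    linear_combination -k1 x

end Field

variable {W : Type*} [Group W] [Finite W] {R C : Subgroup W} {γ δ : MulAut R} {x y : W}
  {p : ℕ} [hp : Fact p.Prime] {M A : Subgroup (MulAut R)}

/-- the Frattini subgroup in the ambient group -/
def Fr (R : Subgroup W) : Subgroup W := (frattini R).map R.subtype

theorem Fr_le : Fr R ≤ R := map_subtype_le _

theorem ce_mem_Fr (hW : IsPGroup p W) (hx : x ∈ R) (hy : y ∈ R) : ⁅x, y⁆ ∈ Fr R :=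
  H1.commutator_le_map_frattini (hW.to_subgroup R) (commutator_mem_commutator hx hy)

theorem cm_mem_Fr (hW : IsPGroup p W) (hx : x ∈ R) (hy : y ∈ R) : x⁻¹ * (y * x * y⁻¹) ∈ Fr R := by
  simpa [commutatorElement_def, mul_assoc] using ce_mem_Fr hW (inv_mem hx) hy

theorem sq_mem_Fr (hW : IsPGroup 2 W) (hx : x ∈ R) : x * x ∈ Fr R :=
  pow_two x ▸ H1.pow_mem_map_frattini (hW.to_subgroup R) hx

theorem inv_Fr (γ : MulAut R) : Inv γ (Fr R) := by
  rintro _ hx ⟨y, hy, rfl⟩
  exact ⟨γ y, (characteristic_iff_le_comap.1 inferInstance γ hy :), (equivFun_coe γ y).symm⟩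

/-- the chain `Φ(R) ≤ Y ≤ ⊤` -/
def chF (R Y : Subgroup W) : ℕ → Subgroup W
  | 0 => Fr R
  | 1 => Fr R ⊔ Y
  | _ + 2 => ⊤

theorem chF_mono (R Y : Subgroup W) : Monotone (chF R Y) := monotone_nat_of_le_succ fun n =>
  match n with
  | 0 => le_sup_left
  | 1 => le_top
  | _ + 2 => le_rfl

/-- the chain `Φ(R) ≤ ⊤` -/
def chF1 (R : Subgroup W) : ℕ → Subgroup W
  | 0 => Fr R
  | _ + 1 => ⊤

theorem chF1_mono (R : Subgroup W) : Monotone (chF1 R) := monotone_nat_of_le_succ fun n =>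
  match n with
  | 0 => le_top
  | _ + 1 => le_rfl

/-- the automorphisms trivial on `R / Φ(R)` -/
def frStab (R : Subgroup W) : Subgroup (MulAut R) := H7.chainStab R (chF1 R) (chF1_mono R)

theorem mem_frStab : γ ∈ frStab R ↔ ∀ x ∈ R, x⁻¹ * equivFun γ x ∈ Fr R :=
  ⟨fun h x hx => h 0 x hx trivial, fun h i x hx _ =>
    match i with
    | 0 => h x hx
    | _ + 1 => trivial⟩

instance : (frStab R).Normal := ⟨fun δ hδ γ => conj_mem_chainStab _
  (fun i => match i with | 0 => inv_Fr γ | _ + 1 => Inv.top) hδ⟩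

/-- Burnside -/
theorem isPGroup_frStab (hW : IsPGroup p W) : IsPGroup p (frStab R) := by
  rw [H1.isPGroup_iff_forall_mem]
  intro α hα
  obtain ⟨k, m, hm, e⟩ := Nat.exists_eq_pow_mul_and_not_dvd (orderOf_pos α).ne' p hp.out.ne_one
  refine ⟨k, H1.mulAut_eq_one_of_trivial_on_frattini_quotient (hW.to_subgroup R) ?_ fun x => ?_⟩
  · rw [orderOf_pow' _ (pow_ne_zero _ hp.out.ne_zero), e, Nat.gcd_mul_right_left,
      Nat.mul_div_cancel_left _ (pow_pos hp.out.pos _)]
    exact ((Nat.Prime.coprime_iff_not_dvd hp.out).2 hm).symm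
  · obtain ⟨y, hy, e⟩ := mem_frStab.1 (pow_mem hα (p ^ k)) x x.2
    rw [equivFun_coe] at e
    exact (Subtype.ext e : y = x⁻¹ * (α ^ p ^ k) x) ▸ hy

/-- An automorphism in `A` trivial on `R / Φ(R)` is inner. -/
theorem inn_of_fr (h : Loc p R M A) (hγ : γ ∈ A) (hs : ∀ x ∈ R, x⁻¹ * equivFun γ x ∈ Fr R) :
    γ ∈ Inn R :=
  h.data.le_of_normalIn (N := frStab R ⊓ A)
    ⟨inf_le_right, fun a ha b hb => ⟨Normal.conj_mem inferInstance _ hb.1 a,
      A.mul_mem (A.mul_mem ha hb.2) (A.inv_mem ha)⟩⟩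
    (isPGroup_frStab h.hW).to_inf_left ⟨mem_frStab.2 hs, hγ⟩

/-- (K4) What centralizes `R / Φ(R)` lies in `R`. -/
theorem mem_of_fr (h : Loc p R M A) {t : W} (hs : ∀ x ∈ R, x⁻¹ * (t * x * t⁻¹) ∈ Fr R) : t ∈ R :=
  have ht : t ∈ normalizer (R : Set W) := mem_norm_of_cm fun x hx => Fr_le (hs x hx)
  h.cj_inn ht (inn_of_fr h (h.cj_A ht) fun x hx => by rw [equivFun_conjAut ht hx]; exact hs x hx)

/-- (K5) What centralizes `Z(R)` and `R / Z(R)` lies in `R`. -/
theorem mem_of_cent (h : Loc p R M A) {t : W}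
    (h1 : ∀ x ∈ R, ∀ r ∈ R, x⁻¹ * (t * x * t⁻¹) * r = r * (x⁻¹ * (t * x * t⁻¹)))
    (h2 : ∀ x, (∀ r ∈ R, x * r = r * x) → x * t = t * x) : t ∈ R := by
  obtain ⟨g, hg, hb⟩ := h.data.exists_not_mem
  refine h.chain hg hb (H7.chain2_monotone (centralizer R)) rfl (n := 2) rfl
    (fun i => match i with
      | 0 => Inv.bot
      | 1 => fun x hx hc r hr => (ef_comm g hx hr (hc _ (equivFun_mem _ hr)).symm).symm
      | _ + 2 => Inv.top)
    (mem_norm_of_cm fun x hx => h.cent _ fun r hr => (h1 x hx r hr).symm) fun i x hx hi =>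
    match i, hi with
    | 0, hi => cm_eq_one (h2 x fun r hr => (hi r hr).symm)
    | 1, _ => fun r hr => (h1 x hx r hr).symm
    | _ + 2, _ => trivial

/-- Lifting along a coprime group `H` without fixed points. -/
theorem mem_of_tor {G : Type*} [Group G] [Finite G] {I C H : Subgroup G} [I.Normal] [hCn : C.Normal]
    (hC : IsPGroup p C) (hIC : I ≤ C) (hH : (Nat.card H).Coprime p)
    (hf : ∀ y ∈ C, (∀ k ∈ H, y * k = k * y) → y = 1) {c : G} (hc : c ∈ C)
    (h : ∀ k ∈ H, c * k * c⁻¹ * k⁻¹ ∈ I) : c ∈ I := by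
  have hI := H1.coprime_card_of_isPGroup (hC.to_le hIC) hH
  obtain ⟨i, hi, e⟩ := H1.exists_conj_le_of_coprime (A := H) (K := I) le_normalizer_of_normal hI
    (B := MulAut.conj c • H) (fun x hx => by
      obtain ⟨k, hk, rfl⟩ := (mem_smul_pointwise_iff_exists _ _ _).1 hx
      simpa using mul_mem (mem_sup_left (h k hk)) (mem_sup_right hk : k ∈ I ⊔ H))
    (by rwa [Nat.card_congr (equivSMul (MulAut.conj c) H).toEquiv.symm])
    (Or.inr (by have := (hC.to_le hIC).isNilpotent; infer_instance))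
  have hy : i * c ∈ C := mul_mem (hIC hi) hc
  have hd := disjoint_of_coprime_natCard (H1.coprime_card_of_isPGroup hC hH)
  have := hf _ hy fun k hk => by
    have h1 : i * c * k * (i * c)⁻¹ ∈ H := by
      simpa [mul_assoc] using e (smul_mem_pointwise_smul _ _ _ (smul_mem_pointwise_smul _ _ _ hk))
    have h2 : i * c * (k * (i * c)⁻¹ * k⁻¹) ∈ C := mul_mem hy (hCn.conj_mem _ (inv_mem hy) k)
    have h3 := disjoint_def.1 hd (mul_mem h1 (inv_mem hk)) (by simpa only [mul_assoc] using h2)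
    rwa [mul_inv_eq_one, mul_inv_eq_iff_eq_mul] at h3
  rw [eq_inv_of_mul_eq_one_right this]
  exact inv_mem hi

end Cfsg.Agent.RF
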