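import Cfsg.Agent.Lib.RF.Two

set_option autoImplicit false
set_option linter.unusedSectionVars false
set_option linter.unusedVariables false

namespace Cfsg.Agent.RF

open Subgroup Cfsg Cfsg.FusionSystem

universe u

variable {K : Type u} [Field K] [TF K] {F : FusionSystem (⊤ : Subgroup (US K))}

theorem two_twist (hq : ∀ s : K, s = 0 ∨ s = 1) (hF : F.IsSaturated 2)
    (h1 : F.IsEssential 2 (Q1 K)) (h2 : F.IsEssential 2 (Q2 K)) :
    ∃ (E : FusionSystem (⊤ : Subgroup (US K))) (t s : US K → US K), F.IsoVia E t s ∧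
      E.IsMor (Q1 K) n1 ∧ E.IsMor (Q2 K) n2 := two_twist' hq hF h1 h2

end Cfsg.Agent.RF
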