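import Cfsg.Agent.Lib.RF.Lin2

/-!
# S5262: additive groups on `K⁴` preserving the Suzuki–Tits structure
-/

set_option autoImplicit false
set_option linter.unusedSectionVars false
set_option linter.unusedVariables false
set_option linter.unnecessarySeqFocus false
set_option linter.unusedSimpArgs false

namespace Cfsg.Agent.RF

variable {K : Type*} [Field K] [Finite K] [CharP K 2]

/-- `K⁴`, coordinates `(a8, a7, a3, a2)` -/
abbrev V4 (K : Type*) := K × K × K × K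

variable (φ : K →+* K)

/-- the squaring map -/
def qq (v : V4 K) (g : K) : V4 K :=
  (v.1 * g + φ v.1 * v.2.2.1 + v.2.1 * φ v.2.1,
    v.1 * φ v.2.2.1 + φ v.1 * v.2.2.2 + v.2.1 * g,
    v.1 * φ v.2.2.2 + φ v.2.1 * v.2.2.2 + v.2.2.1 * g,
    v.2.1 * φ v.2.2.2 + v.2.2.1 * φ v.2.2.1 + v.2.2.2 * g)

/-- its polar form -/
def cc (v : V4 K) (g : K) (w : V4 K) (g' : K) : V4 K :=
  qq φ (v + w) (g + g') + qq φ v g + qq φ w g'

/-- conjugation by the element `(t, u)` of the Suzuki root group -/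
def uu (t u : K) (v : V4 K) : V4 K :=
  (v.1, v.2.1 + v.1 * t, v.2.2.1 + v.1 * u + v.2.1 * φ t + v.1 * t * φ t,
    v.2.2.2 + v.1 * φ u + v.2.1 * u + v.2.2.1 * t + v.1 * t * u + v.1 * t ^ 2 * φ t)

/-- the Weyl element -/
def nn (v : V4 K) : V4 K := (v.2.2.2, v.2.2.1, v.2.1, v.1)

/-- the torus of the Suzuki group -/
def hh (ν : K) (v : V4 K) : V4 K :=
  ((ν * φ ν)⁻¹ * v.1, ν⁻¹ * v.2.1, ν * v.2.2.1, ν * φ ν * v.2.2.2)

/-- the monomial maps -/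
def dd (α l : K) (τ : K ≃+* K) (v : V4 K) : V4 K :=
  (α * τ v.1, α * l * τ v.2.1, α * (l * φ l) * τ v.2.2.1, α * (l ^ 2 * φ l) * τ v.2.2.2)

/-- `P` is compatible with the squaring map. -/
def Good (P : V4 K ≃ₗ[ℤ] V4 K) : Prop := ∃ (μ : V4 K → K) (J : K → K) (R : V4 K → V4 K),
  (∀ v w, μ (v + w) = μ v + μ w) ∧ (∀ s t, J (s + t) = J s + J t) ∧
  (∀ v w, R (v + w) = R v + R w) ∧ (∀ v, R v = 0 → v = 0) ∧
  ∀ v g, qq φ (P v) (μ v + J g) = R (qq φ v g)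

/-- `P` fixes the point `⟨(0, 0, 0, 1)⟩` of the ovoid. -/
def FixP (P : V4 K ≃ₗ[ℤ] V4 K) : Prop := ∀ f : K, ∃ f' : K, P (0, 0, 0, f) = (0, 0, 0, f')

variable {φ} (hφ : ∀ t, φ (φ t) = t ^ 2) {P : V4 K ≃ₗ[ℤ] V4 K}

theorem nn_nn (v : V4 K) : nn (nn v) = v := rfl

include hφ in
theorem uu_uu (t u t' u' : K) (v : V4 K) :
    uu φ t u (uu φ t' u' v) = uu φ (t + t') (u + u' + t * φ t') v := by
  ext <;> simp only [uu, map_add, map_mul, hφ] <;> grind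

theorem uu_zero (v : V4 K) : uu φ 0 0 v = v := by ext <;> simp [uu]

include hφ in
theorem uu_inv (t u : K) (v : V4 K) : uu φ t (u + t * φ t) (uu φ t u v) = v := by
  rw [uu_uu hφ, show t + t = 0 by grind, show u + t * φ t + u + t * φ t = 0 by grind, uu_zero]

theorem uu_smul (t u s : K) (v : V4 K) : uu φ t u (s • v) = s • uu φ t u v := by
  ext <;> simp [uu] <;> ring

theorem mul_phi_eq_zero {t : K} (h : t * φ t = 0) : t = 0 := by simpa using h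

include hφ in
theorem ovoid_eq {a d e f g : K} (h : qq φ (a, d, e, f) g = 0) (ha : a ≠ 0) :
    f / a = φ (e / a) + d / a * (e / a) + (d / a) ^ 2 * φ (d / a) := by
  simp only [qq, Prod.ext_iff, Prod.fst_zero, Prod.snd_zero] at h
  have h1 : φ a ≠ 0 := by simpa using ha
  simp only [map_div₀]
  field_simp
  grind

include hφ in
theorem ovoid_cases {v : V4 K} {g : K} (h : qq φ v g = 0) :
    (∃ f, v = (0, 0, 0, f)) ∨ ∃ t u a, a ≠ 0 ∧ v = uu φ t u (a, 0, 0, 0) := by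
  obtain ⟨a, d, e, f⟩ := v
  by_cases ha : a = 0
  · subst ha
    simp only [qq, Prod.ext_iff, Prod.fst_zero, Prod.snd_zero, map_zero, zero_mul, zero_add] at h
    obtain rfl := mul_phi_eq_zero h.1
    have : e = 0 := by
      by_contra he
      have hg : g = 0 := by simpa [he] using h.2.2.1
      exact he (mul_phi_eq_zero (φ := φ) (by simpa [hg] using h.2.2.2))
    exact .inl ⟨f, by rw [this]⟩
  · refine .inr ⟨d / a, e / a + d / a * φ (d / a), a, ha, ?_⟩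
    have h1 := ovoid_eq hφ h ha
    have e1 : d = a * (d / a) := by field_simp
    have e2 : e = a * (e / a) := by field_simp
    have e3 : f = a * (f / a) := by field_simp
    rw [h1] at e3
    generalize d / a = x at *
    generalize e / a = y at *
    ext <;> simp only [uu, map_add, map_mul, hφ] <;> grind

include hφ in
theorem ovoid_mem (d e : K) :
    qq φ (1, d, e, φ e + d * e + d ^ 2 * φ d) (e + d * φ d) = 0 := by
  ext <;> simp only [qq, map_add, map_mul, map_pow, map_one, hφ, Prod.fst_zero, Prod.snd_zero] <;>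
    grind

theorem add_self4 (v : V4 K) : v + v = 0 := by ext <;> simp <;> grind

theorem cc_zero (g : K) (w : V4 K) (g' : K) : cc φ 0 g w g' = g • w := by
  ext <;> simp [cc, qq] <;> grind

/-- The consequences of `Good` used below. -/
theorem Good.ex (h : Good φ P) : ∃ (μ : V4 K → K) (j : K) (τ : K ≃+* K), j ≠ 0 ∧
    (∀ (s : K) v, P (s • v) = τ s • P v) ∧
    (∀ v g, qq φ v g = 0 → ∃ g', qq φ (P v) g' = 0) ∧
    (∀ v, qq φ v 0 = 0 → qq φ (P v) (μ v) = 0) ∧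
    ∀ v w, cc φ (P v) (μ v) (P w) (μ w) = j • P (cc φ v 0 w 0) := by
  obtain ⟨μ, J, R, h1, h2, h3, h4, h5⟩ := h
  have m0 : μ 0 = 0 := by have := h1 0 0; simpa using this
  have j0 : J 0 = 0 := by have := h2 0 0; simpa using this
  have r0 : R 0 = 0 := by have := h3 0 0; simpa using this
  have hc : ∀ v g w g', cc φ (P v) (μ v + J g) (P w) (μ w + J g') = R (cc φ v g w g') :=
    fun v g w g' => by
      rw [cc, cc, h3, h3, ← h5, ← h5, ← h5, map_add, h1, h2, add_add_add_comm]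
  have hs : ∀ (s : K) v, R (s • v) = J s • P v := fun s v => by
    have := hc 0 s v 0
    rw [map_zero, cc_zero, cc_zero, m0, zero_add] at this
    exact this.symm
  have j1 : J 1 ≠ 0 := fun e => by
    have := hs 1 (1, 0, 0, 0)
    rw [e, zero_smul, one_smul] at this
    simpa using h4 _ this
  obtain ⟨τ, hτ⟩ := semilin h2 j1 (v₀ := (1, 0, 0, 0)) (by simp) hs
  refine ⟨μ, J 1, τ, j1, hτ, fun v g e => ⟨_, by rw [h5, e, r0]⟩,
    fun v e => by rw [← add_zero (μ v), ← j0, h5, e, r0], fun v w => ?_⟩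
  have := hc v 0 w 0
  rwa [j0, add_zero, add_zero, ← one_smul K (cc φ v 0 w 0), hs] at this

theorem smul4 (f : K) : ((0, 0, 0, f) : V4 K) = f • (0, 0, 0, 1) := by simp

include hφ in
theorem Good.move (h : Good φ P) (hn : ¬ FixP P) :
    ∃ t u, ∀ f, ∃ a, P (0, 0, 0, f) = uu φ t u (a, 0, 0, 0) := by
  obtain ⟨μ, j, τ, -, h1, -, h2, -⟩ := h.ex
  rcases ovoid_cases hφ (h2 (0, 0, 0, 1) (by simp [qq])) with ⟨f, e⟩ | ⟨t, u, a, -, e⟩
  · exact absurd (fun s => ⟨τ s * f, by rw [smul4, h1, e]; simp⟩) hn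
  · exact ⟨t, u, fun s => ⟨τ s * a, by rw [smul4, h1, e, ← uu_smul]; simp⟩⟩

theorem FixP.inv (h : Good φ P) (hf : FixP P) : FixP P⁻¹ := fun f => by
  obtain ⟨μ, j, τ, -, h1, -⟩ := h.ex
  obtain ⟨f₁, e⟩ := hf 1
  have h0 : f₁ ≠ 0 := by
    rintro rfl
    simpa using P.map_eq_zero_iff.1 e
  refine ⟨τ.symm (f / f₁), P.injective ?_⟩
  rw [show P (P⁻¹ (0, 0, 0, f)) = (0, 0, 0, f) from P.apply_symm_apply _, smul4 (τ.symm _), h1, e]
  simp [h0]

include hφ in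
theorem Good.mono (h : Good φ P) {α f₁ : K} (e1 : P (1, 0, 0, 0) = (α, 0, 0, 0))
    (e4 : P (0, 0, 0, 1) = (0, 0, 0, f₁)) : ∃ (l : K) (τ : K ≃+* K), α ≠ 0 ∧ l ≠ 0 ∧
      (∀ x, τ (φ x) = φ (τ x)) ∧ ∀ v, P v = dd φ α l τ v := by
  obtain ⟨μ, j, τ, hj, h1, h2, h3, h4⟩ := h.ex
  have a0 : α ≠ 0 := by
    rintro rfl
    simpa using P.map_eq_zero_iff.1 e1
  have f0 : f₁ ≠ 0 := by
    rintro rfl
    simpa using P.map_eq_zero_iff.1 e4
  have a0' : φ α ≠ 0 := by simpa using a0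
  have f0' : φ f₁ ≠ 0 := by simpa using f0
  have m1 : μ (1, 0, 0, 0) = 0 := by
    have := h3 (1, 0, 0, 0) (by simp [qq])
    rw [e1] at this
    simpa [qq, a0] using this
  have m4 : μ (0, 0, 0, 1) = 0 := by
    have := h3 (0, 0, 0, 1) (by simp [qq])
    rw [e4] at this
    simpa [qq, f0] using this
  have k1 := h4 (1, 0, 0, 0) (0, 1, 0, 0)
  have k2 := h4 (0, 0, 0, 1) (0, 0, 1, 0)
  have k3 := h4 (0, 0, 0, 1) (0, 1, 0, 0)
  have k4 := h4 (1, 0, 0, 0) (0, 0, 1, 0)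
  rw [show cc φ (1, 0, 0, 0) 0 (0, 1, 0, 0) 0 = 0 by ext <;> simp [cc, qq] <;> grind, map_zero] at k1
  rw [show cc φ (0, 0, 0, 1) 0 (0, 0, 1, 0) 0 = 0 by ext <;> simp [cc, qq] <;> grind, map_zero] at k2
  rw [show cc φ (0, 0, 0, 1) 0 (0, 1, 0, 0) 0 = (0, 0, 1, 0) + (0, 0, 0, 1) by
    ext <;> simp [cc, qq] <;> grind, map_add] at k3
  rw [show cc φ (1, 0, 0, 0) 0 (0, 0, 1, 0) 0 = (1, 0, 0, 0) + (0, 1, 0, 0) by
    ext <;> simp [cc, qq] <;> grind, map_add] at k4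
  have hv : ∀ v : V4 K, P v = τ v.1 • P (1, 0, 0, 0) + τ v.2.1 • P (0, 1, 0, 0) +
      τ v.2.2.1 • P (0, 0, 1, 0) + τ v.2.2.2 • P (0, 0, 0, 1) := fun v => by
    rw [← h1, ← h1, ← h1, ← h1, ← map_add, ← map_add, ← map_add]; simp
  rw [e1, m1] at k1 k4
  rw [e4, m4] at k2 k3
  rw [e1, e4] at hv
  generalize μ (0, 1, 0, 0) = g2 at *
  generalize μ (0, 0, 1, 0) = g3 at *
  generalize P (0, 1, 0, 0) = x at *
  generalize P (0, 0, 1, 0) = y at *
  obtain ⟨x1, x2, x3, x4⟩ := x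
  obtain ⟨y1, y2, y3, y4⟩ := y
  simp only [cc, qq, Prod.ext_iff, Prod.fst_add, Prod.snd_add, map_add, map_zero, smul_zero,
    Prod.fst_zero, Prod.snd_zero, Prod.smul_fst, Prod.smul_snd, smul_eq_mul] at k1 k2 k3 k4
  have hx4 : x4 = 0 := by simpa using (mul_eq_zero.1 (show α * φ x4 = 0 by grind)).resolve_left a0
  have hx3 : x3 = 0 := by
    simpa using (mul_eq_zero.1 (show α * φ x3 = 0 by grind)).resolve_left a0
  have hy1 : y1 = 0 := by simpa using (mul_eq_zero.1 (show f₁ * φ y1 = 0 by grind)).resolve_left f0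
  have hy2 : y2 = 0 := by
    simpa using (mul_eq_zero.1 (show f₁ * φ y2 = 0 by grind)).resolve_left f0
  have hx1 : x1 = 0 := by simpa using (mul_eq_zero.1 (show f₁ * φ x1 = 0 by grind)).resolve_left f0
  have hy4 : y4 = 0 := by simpa using (mul_eq_zero.1 (show α * φ y4 = 0 by grind)).resolve_left a0
  subst hx1 hx3 hx4 hy1 hy2 hy4
  have key : ∀ d e, f₁ / α * τ (φ e + d * e + d ^ 2 * φ d) = φ (y3 / α * τ e) +
      x2 / α * τ d * (y3 / α * τ e) + (x2 / α * τ d) ^ 2 * φ (x2 / α * τ d) := fun d e => by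
    obtain ⟨g, hg⟩ := h2 _ _ (ovoid_mem hφ d e)
    rw [hv] at hg
    simp only [Prod.smul_mk, smul_eq_mul, mul_zero, Prod.mk_add_mk, add_zero, zero_add, map_one,
      one_mul] at hg
    have := ovoid_eq hφ hg a0
    simpa only [mul_comm (τ _), ← div_mul_eq_mul_div] using this
  have b1 := key 0 1
  have b2 := key 1 0
  have b3 := key 1 1
  have b4 := key 0
  have c1 : f₁ = α * (f₁ / α) := by field_simp
  have c2 : x2 = α * (x2 / α) := by field_simp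
  have c3 : y3 = α * (y3 / α) := by field_simp
  generalize f₁ / α = r at *
  generalize x2 / α = l at *
  generalize y3 / α = m at *
  simp only [map_zero, map_one, map_add, map_mul, mul_zero, mul_one, add_zero, zero_add,
    one_pow, zero_mul, ne_eq, OfNat.ofNat_ne_zero, not_false_eq_true, zero_pow] at b1 b2 b3 b4
  have r0 : r ≠ 0 := by rintro rfl; exact f0 (by simpa using c1)
  have l0 : l ≠ 0 := by rintro rfl; exact r0 (by simpa using b2)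
  have hm : m = l * φ l := mul_left_cancel₀ l0 (by grind)
  refine ⟨l, τ, a0, l0, fun x => mul_left_cancel₀ r0 (by rw [b4, b1]), fun v => ?_⟩
  rw [hv, c1, c2, c3, b2, hm]
  ext <;> simp [dd] <;> ring

theorem dd_uu {α l : K} {τ : K ≃+* K} (h : ∀ x, τ (φ x) = φ (τ x)) (hφ : ∀ t, φ (φ t) = t ^ 2)
    (t u : K) (v : V4 K) :
    dd φ α l τ (uu φ t u v) = uu φ (l * τ t) (l * φ l * τ u) (dd φ α l τ v) := by
  ext <;> simp only [dd, uu, map_add, map_mul, map_pow, h, hφ] <;> ring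

variable {Γ X : Subgroup (V4 K ≃ₗ[ℤ] V4 K)} (hΓ : ∀ γ ∈ Γ, Good φ γ)
  (hU : ∀ t u, ∃ γ ∈ Γ, ∀ v, γ v = uu φ t u v)
include hφ hΓ hU

/-- The stabilizer of the point consists of unipotent times monomial maps. -/
theorem lin1_fix (hP : P ∈ Γ) (hf : FixP P) : ∃ (t u α l : K) (τ : K ≃+* K), α ≠ 0 ∧ l ≠ 0 ∧
    (∀ x, τ (φ x) = φ (τ x)) ∧ ∀ v, P v = uu φ t u (dd φ α l τ v) := by
  obtain ⟨μ, j, τ, -, -, -, h2, -⟩ := (hΓ P hP).ex
  rcases ovoid_cases hφ (h2 (1, 0, 0, 0) (by simp [qq])) with ⟨f, e⟩ | ⟨t, u, a, -, e⟩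
  · obtain ⟨f', e'⟩ := FixP.inv (hΓ P hP) hf f
    rw [← e, show P⁻¹ (P (1, 0, 0, 0)) = (1, 0, 0, 0) from P.symm_apply_apply _] at e'
    simp at e'
  · obtain ⟨γ, hγ, e1⟩ := hU t (u + t * φ t)
    obtain ⟨f₁, e2⟩ := hf 1
    obtain ⟨l, τ, h3, h4, h5, h6⟩ := (hΓ _ (Γ.mul_mem hγ hP)).mono hφ (α := a) (f₁ := f₁)
      (by rw [LinearEquiv.mul_apply, e1, e, uu_inv hφ])
      (by rw [LinearEquiv.mul_apply, e1, e2]; simp [uu])
    refine ⟨t, u, a, l, τ, h3, h4, h5, fun v => ?_⟩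
    rw [← h6, LinearEquiv.mul_apply, e1]
    have := uu_inv hφ t (u + t * φ t) (P v)
    rw [show u + t * φ t + t * φ t = u by grind] at this
    exact this.symm

/-- The stabilizer of the point normalizes the root group. -/
theorem lin1_norm (hP : P ∈ Γ) (hf : FixP P) (t u : K) :
    ∃ t' u', ∀ v, P (uu φ t u v) = uu φ t' u' (P v) := by
  obtain ⟨t₀, u₀, α, l, τ, -, -, h1, h2⟩ := lin1_fix hφ hΓ hU hP hf
  refine ⟨l * τ t, l * φ l * τ u + t₀ * φ (l * τ t) + l * τ t * φ t₀, fun v => ?_⟩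
  rw [h2, h2, dd_uu h1 hφ, uu_uu hφ, uu_uu hφ]
  congr 1 <;> grind

variable (hX : X ≤ Γ) (hN : ∃ γ ∈ Γ, ∀ v, γ v = nn v)
  (hUX : ∀ t u, ∃ γ ∈ X, ∀ v, γ v = uu φ t u v) (hex : ∃ γ ∈ X, ¬ FixP γ)
include hX hN hUX hex

theorem lin1_opp (t u : K) : ∃ γ ∈ X, ∀ v, γ v = nn (uu φ t u (nn v)) := by
  obtain ⟨γ, hγ, hn⟩ := hex
  obtain ⟨N, hN, eN⟩ := hN
  obtain ⟨t₀, u₀, e⟩ := (hΓ γ (hX hγ)).move hφ hn
  obtain ⟨δ, hδ, e1⟩ := hUX t₀ (u₀ + t₀ * φ t₀)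
  have h1 := X.mul_mem hδ hγ
  have h2 := Γ.mul_mem hN (hX h1)
  have h3 : FixP (N * (δ * γ)) := fun f => by
    obtain ⟨a, e2⟩ := e f
    exact ⟨a, by rw [LinearEquiv.mul_apply, LinearEquiv.mul_apply, e2, e1, uu_inv hφ, eN]; rfl⟩
  obtain ⟨t', u', e3⟩ := lin1_norm hφ hΓ hU (Γ.inv_mem h2) (FixP.inv (hΓ _ h2) h3) t u
  obtain ⟨w, hw, e4⟩ := hUX t' u'
  refine ⟨_, X.mul_mem (X.mul_mem h1 hw) (X.inv_mem h1), fun v => ?_⟩
  generalize δ * γ = β at *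
  have e5 : ∀ v, (N * β)⁻¹ (nn v) = β⁻¹ v := fun v => by
    rw [← eN, mul_inv_rev, LinearEquiv.mul_apply]
    exact congrArg _ (N.symm_apply_apply v)
  rw [LinearEquiv.mul_apply, LinearEquiv.mul_apply, e4, ← e5, ← e3,
    ← nn_nn (uu φ t u (nn v)), e5, nn_nn]
  exact β.apply_symm_apply _

theorem lin1_nh {ν : K} (hν : ν ≠ 0) : ∃ γ ∈ X, ∀ v, γ v = nn (hh φ ν v) := by
  obtain ⟨r, rfl⟩ := Finite.surjective_of_injective φ.injective ν⁻¹⁻¹ |>.imp fun r h => (inv_inv ν ▸ h : φ r = ν)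
  have r0 : r ≠ 0 := by simpa using hν
  obtain ⟨γ₁, h1, e1⟩ := hUX r⁻¹ 0
  obtain ⟨γ₂, h2, e2⟩ := lin1_opp hφ hΓ hU hX hN hUX hex 0 (r * φ r)
  obtain ⟨γ₃, h3, e3⟩ := hUX r⁻¹ (r⁻¹ * φ r⁻¹)
  refine ⟨_, X.mul_mem (X.mul_mem h1 h2) h3, fun v => ?_⟩
  rw [LinearEquiv.mul_apply, LinearEquiv.mul_apply, e1, e2, e3]
  ext <;> simp only [nn, uu, hh, map_mul, map_inv₀, map_zero, hφ] <;> field_simp <;> grind

theorem lin1_n : ∃ γ ∈ X, ∀ v, γ v = nn v := by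
  obtain ⟨γ, h, e⟩ := lin1_nh hφ hΓ hU hX hN hUX hex one_ne_zero
  exact ⟨γ, h, fun v => by rw [e]; simp [hh]⟩

theorem lin1_h {ν : K} (hν : ν ≠ 0) : ∃ γ ∈ X, ∀ v, γ v = hh φ ν v := by
  obtain ⟨γ, h, e⟩ := lin1_nh hφ hΓ hU hX hN hUX hex hν
  obtain ⟨δ, h', e'⟩ := lin1_n hφ hΓ hU hX hN hUX hex
  exact ⟨_, X.mul_mem h' h, fun v => by rw [LinearEquiv.mul_apply, e, e', nn_nn]⟩

end Cfsg.Agent.RF
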