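import Cfsg.Agent.Lib.RF.Par

/-!
# S5262: the groups `²F₄(q) ⋊ H`
-/

set_option autoImplicit false
set_option linter.unusedSectionVars false
set_option linter.unusedVariables false
set_option maxRecDepth 8000

namespace Cfsg.Agent.RF

open Cfsg.Agent.LT Mat Cfsg.Lie Subgroup US

universe u

variable {K : Type u} [Field K] [hK : TF K]

/-- the inverse of `φ` -/
noncomputable def θ : K →+* K :=
  (RingEquiv.ofBijective φ (Finite.injective_iff_bijective.1 (φ (K := K)).injective)).symm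

theorem φ_θ (t : K) : φ (θ t) = t := (RingEquiv.ofBijective φ _).apply_symm_apply t

theorem θ_φ (t : K) : θ (φ t) = t := (RingEquiv.ofBijective φ _).symm_apply_apply t

theorem θ_sq (t : K) : θ t ^ 2 = φ t := by rw [← phi_phi, φ_θ]

variable {σ : chevF4.group K →* chevF4.group K} (hσ : ∀ r t, σ (okF4.xG K r t) =
  okF4.xG K (tf (n := 48) roF4 r) (if shortF4 r then θ t ^ 2 else θ t))
include hσ

theorem σ_emb (x : US K) : σ (emb x) = emb x := by
  refine (okF4.map_wN (ρ := fun r => roF4.getD r 0 % 48) (τ := fun r t =>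
    if Sig.shortF4L.getD r false then θ t ^ 2 else θ t) (fun r t => (hσ r t).trans
      (okF4.xN_val _ _).symm) (l := wU x) (show ∀ a ∈ wU x, a.1 < 48 by simp [wU])).trans ?_
  refine Eq.trans (congrArg okF4.wN ?_) ((cS.eq (cU x ++ []) (by simp [dbl, cU])).trans
    (congrArg okF4.wN (wU_X x [])))
  simp only [wS, s1, s2, List.map_append, List.map_cons, List.map_nil, ev_append, ev_mmul, ev_sb,
    vX, ev_var, θ_sq]
  simp [wU, cU, roF4, Sig.shortF4L, θ_φ]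

theorem mem_range {g : chevF4.group K} (hg : g ∈ LT.US (okF4.xG K) {r | 0 ≤ okF4.rs.rt r})
    (h : σ g = g) : g ∈ (emb (K := K)).range := by
  refine BN.peel' (I := Fin 48) (L := Fin 4) (rt := tr rtF4) (ρ := tf roF4) (okF4.bn 2) rtF4_eq hσ
    (fun r t ht => by split_ifs <;> simpa using ht) (by rintro _ ⟨x, rfl⟩; exact σ_emb hσ x)
    (κ := fun _ => 0) (i := 0) ![2, 4, 5, 3] [24, 25, 26, 27, 28, 29, 30, 31, 32, 33, 34, 35, 36, 37,
      38, 39, 40, 41, 42, 43, 44, 45, 46, 47] [27, 28, 37, 35, 40, 39, 29, 44, 38, 34, 36, 33]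
    (by decide +kernel) (by decide +kernel) (fun r hr t => ?_) g
    (US_mono (fun r hr => And.intro hr fun j hj => (hj rfl).elim) hg) h
  have k : ∀ (x : US K) (l : List (Fin 48 × K)), emb x = okF4.wN (l.map fun q => (q.1.val, q.2)) →
      wd (okF4.xG K) l ∈ (emb (K := K)).range := fun x l e => ⟨x, e.trans (okF4.wN_wd l)⟩
  simp only [List.mem_cons, List.not_mem_nil, or_false] at hr
  rcases hr with h | h | h | h | h | h | h | h | h | h | h | h <;> subst h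
  · refine ⟨[(25, φ t), (28, t * φ t)], [25, 28], rfl, k (x1 t 0) _ ?_, by decide +kernel⟩
    simp [emb, emb0, wU, okF4.wN_cons, okF4.xN_zero, okF4.wN_nil]
  · refine ⟨[(30, φ t)], [30], rfl, k (x1 0 t) _ ?_, by decide +kernel⟩
    simp [emb, emb0, wU, okF4.wN_cons, okF4.xN_zero, okF4.wN_nil]
  · refine ⟨[(32, φ t)], [32], rfl, k (x2 t) _ ?_, by decide +kernel⟩
    simp [emb, emb0, wU, okF4.wN_cons, okF4.xN_zero, okF4.wN_nil]
  · refine ⟨[(31, φ t), (40, t * φ t)], [31, 40], rfl, k (x3 t 0) _ ?_, by decide +kernel⟩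
    simp [emb, emb0, wU, okF4.wN_cons, okF4.xN_zero, okF4.wN_nil]
  · refine ⟨[(46, φ t)], [46], rfl, k (x3 0 t) _ ?_, by decide +kernel⟩
    simp [emb, emb0, wU, okF4.wN_cons, okF4.xN_zero, okF4.wN_nil]
  · refine ⟨[(45, φ t)], [45], rfl, k (x4 t) _ ?_, by decide +kernel⟩
    simp [emb, emb0, wU, okF4.wN_cons, okF4.xN_zero, okF4.wN_nil]
  · refine ⟨[(41, φ t), (44, t * φ t)], [41, 44], rfl, k (x5 t 0) _ ?_, by decide +kernel⟩
    simp [emb, emb0, wU, okF4.wN_cons, okF4.xN_zero, okF4.wN_nil]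
  · refine ⟨[(47, φ t)], [47], rfl, k (x5 0 t) _ ?_, by decide +kernel⟩
    simp [emb, emb0, wU, okF4.wN_cons, okF4.xN_zero, okF4.wN_nil]
  · refine ⟨[(43, φ t)], [43], rfl, k (x6 t) _ ?_, by decide +kernel⟩
    simp [emb, emb0, wU, okF4.wN_cons, okF4.xN_zero, okF4.wN_nil]
  · refine ⟨[(26, φ t), (36, t * φ t)], [26, 36], rfl, k (x7 t 0) _ ?_, by decide +kernel⟩
    simp [emb, emb0, wU, okF4.wN_cons, okF4.xN_zero, okF4.wN_nil]
  · refine ⟨[(42, φ t)], [42], rfl, k (x7 0 t) _ ?_, by decide +kernel⟩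
    simp [emb, emb0, wU, okF4.wN_cons, okF4.xN_zero, okF4.wN_nil]
  · refine ⟨[(24, φ t)], [24], rfl, k (x8 t) _ ?_, by decide +kernel⟩
    simp [emb, emb0, wU, okF4.wN_cons, okF4.xN_zero, okF4.wN_nil]

theorem σ_nl (l : List (Fin 4)) :
    σ (nl okF4.rs (okF4.xG K) l) = nl okF4.rs (okF4.xG K) (l.map Fin.rev) := by
  have k : ∀ i : Fin 4, tf (n := 48) roF4 (okF4.rs.sa i) = okF4.rs.sa i.rev ∧
      tf (n := 48) roF4 (okF4.rs.ng (okF4.rs.sa i)) = okF4.rs.ng (okF4.rs.sa i.rev) := by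
    rw [saF4_eq]
    exact (by decide +kernel : ∀ i : Fin 4, let s : Fin 4 → Fin 48 := tf [33, 27, 25, 24]
      (tf roF4 (s i) : Fin 48) = s i.rev ∧ (tf roF4 (s i).rev : Fin 48) = (s i.rev).rev)
  have k' : ∀ i : Fin 4, σ (nt okF4.rs (okF4.xG K) i 1) = nt okF4.rs (okF4.xG K) i.rev 1 := by
    intro i
    simp only [nt, map_mul, hσ, (k i).1, (k i).2, inv_one, CharTwo.neg_eq, map_one, one_pow,
      ite_self]
  induction l with
  | nil => exact map_one σ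
  | cons i l ih => exact (map_mul σ _ _).trans (congrArg₂ _ (k' i) ih)

omit hσ

/-- the value of a character on a root -/
def ch (χ : Fin 4 → Kˣ) (r : ℕ) : K := (χ 0 : K) ^ (rtF4.getD r []).getD 0 0 *
  (χ 1 : K) ^ (rtF4.getD r []).getD 1 0 * (χ 2 : K) ^ (rtF4.getD r []).getD 2 0 *
  (χ 3 : K) ^ (rtF4.getD r []).getD 3 0

theorem chr_eq (χ : Fin 4 → Kˣ) (r : Fin chevF4.nroots) :
    (chr (L := Fin chevF4.rank) χ (okF4.rs.rt r) : K) = ch χ r := by
  rw [rtF4_eq]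
  change ((∏ i : Fin 4, χ i ^ (rtF4.getD r []).getD i 0 : Kˣ) : K) = _
  simp [ch, Fin.prod_univ_four]

/-- the character of a parameter -/
def χP (t : Par K) : Fin 4 → Kˣ := ![t.a, t.b, φu t.b, φu t.a]

theorem φ_ch (t : Par K) {r s : ℕ} (h : (rtF4.getD s []).getD 0 0 = 2 * (rtF4.getD r []).getD 3 0 ∧
    (rtF4.getD s []).getD 1 0 = 2 * (rtF4.getD r []).getD 2 0 ∧
    (rtF4.getD s []).getD 2 0 = (rtF4.getD r []).getD 1 0 ∧
    (rtF4.getD s []).getD 3 0 = (rtF4.getD r []).getD 0 0) : φ (ch (χP t) r) = ch (χP t) s := by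
  simp only [ch, h, χP, zpow_mul, map_mul, map_zpow₀]
  simp
  ring

theorem exists_act : ∃ α : Par K →* MulAut (chevF4.group K), (∀ s r t,
    α s (okF4.xG K r t) = okF4.xG K r (ch (χP s) r * s.σ t)) ∧
    ∀ t w, α t (emb w) = emb (tauF t w) := by
  obtain ⟨α, hα⟩ := okF4.exists_act (p := 2) (χP (K := K)) ⟨⟨Par.σ, rfl⟩, fun _ _ => rfl⟩
    fun s t (i : Fin 4) => by fin_cases i <;> simp [χP]
  simp only [chr_eq] at hα
  refine ⟨α, hα, fun t w => (okF4.map_wN (α := (α t).toMonoidHom) (ρ := id)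
    (τ := fun r u => ch (χP t) r * t.σ u) (fun r u => (hα t r u).trans (okF4.xN_val _ _).symm)
    (l := wU w) (show ∀ a ∈ wU w, a.1 < 48 by simp [wU])).trans (congrArg okF4.wN ?_)⟩
  simp only [wU, List.map_cons, List.map_nil, List.cons.injEq, Prod.mk.injEq, id, true_and, and_true]
  and_intros <;> simp [ch, χP, rtF4, -mul_eq_mul_left_iff, -mul_eq_mul_right_iff] <;> ring

theorem exists_tw {e : ℕ} (hφ : ∀ t : K, φ t = t ^ (2 * e)) :
    ∃ σ : chevF4.group K →* chevF4.group K, (∀ r t, σ (okF4.xG K r t) =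
      okF4.xG K (tf (n := 48) roF4 r) (if shortF4 r then θ t ^ 2 else θ t)) ∧
      twistedF4 K e ≤ chevF4.group K ∧ ∃ ρL J, Tw okF4.rs (okF4.xG K) cG σ (tf (n := 48) roF4) ρL J
        ((twistedF4 K e).subgroupOf (chevF4.group K)) ∧ (emb (K := K)).range =
        LT.US (okF4.xG K) {r | 0 ≤ okF4.rs.rt r} ⊓ (twistedF4 K e).subgroupOf (chevF4.group K) := by
  obtain ⟨σ, hσ, h1, ρL, J, T⟩ := exists_twF4 (θ (K := K)) e (fun t => (frobenius K 2).injective (by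
    rw [frobenius_def, frobenius_def, θ_sq, hφ, mul_comm, pow_mul])) fun t => by rw [θ_sq, φ_θ]
  refine ⟨σ, hσ, h1, ρL, J, T, le_antisymm ?_ fun g hg => mem_range hσ hg.1 (T.fix g hg.2)⟩
  rintro _ ⟨x, rfl⟩
  exact ⟨emb_mem x, T.U_le (okF4.bn 2) (emb_mem x) (σ_emb hσ x)⟩

theorem exists_model (H : Subgroup (Par K)) (hH : ¬ 2 ∣ Nat.card H)
    (hh : ∀ ν, hpar ν ∈ H) (hk : ∀ ν, kpar ν ∈ H) :
    ∃ (G : Type u) (_ : Group G) (_ : Finite G) (ι : US K →* G), Function.Injective ι ∧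
      H7.SylowIn 2 ι.range ⊤ ∧ (∀ t ∈ H, ∃ g : G, ∀ x, ι (tauF t x) = g * ι x * g⁻¹) ∧
      (∃ g : G, ∀ x ∈ Q1 K, ι (n1 x) = g * ι x * g⁻¹) ∧
      (∃ g : G, ∀ x ∈ Q2 K, ι (n2 x) = g * ι x * g⁻¹) ∧
      ∀ (g : G) (f : US K → US K), (∀ x, ι (f x) = g * ι x * g⁻¹) →
        ∃ s : US K, ∃ t ∈ H, ∀ x, f x = s * tauF t x * s⁻¹ := by
  obtain ⟨m, -, hm⟩ := hK.ex
  obtain ⟨σ, hσ, -, ρL, J, T, hr⟩ := exists_tw (K := K) (e := 2 ^ m) fun t => by rw [hm, pow_succ']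
  obtain ⟨α, h1, h2⟩ := exists_act (K := K)
  have hb := okF4.bn (F := K) 2
  obtain ⟨G, i1, i2, ι, k1, k2, k3, k4, k5⟩ := T.model hb emb emb_inj hr tauF α
    (fun t => DFunLike.congr_fun (hb.hom_ext (α := σ.comp (α t).toMonoidHom)
      (β := (α t).toMonoidHom.comp σ) fun r u => by
        change σ (α t _) = α t (σ _)
        rw [h1, hσ, hσ]
        refine Eq.trans (congrArg _ ?_) (h1 _ _ _).symm
        split_ifs with h
        · rw [θ_sq, θ_sq, map_mul, phi_map, 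
            φ_ch t (s := tf (n := 48) roF4 r) (by revert r; decide +kernel)]
        · rw [← φ_ch t (r := tf (n := 48) roF4 r) (s := r) (by revert r; decide +kernel), map_mul,
            θ_φ, ← θ_φ (t.σ (θ u)), phi_map, φ_θ])) h2 H hH fun n hn e => by
      obtain ⟨χ : Fin 4 → Kˣ, hχ⟩ := okF4.conj_H hn
      replace hχ := fun r t => (hχ r t).trans (congrArg (fun a => okF4.xG K r (a * t)) (chr_eq χ r))
      have k : ∀ r : Fin chevF4.nroots, shortF4 r = true → φ (ch χ r) = ch χ (tf (n := 48) roF4 r) :=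
        fun r hr => by
          have := congrArg σ (hχ r 1)
          rw [map_mul, map_mul, map_inv, e, hσ, hσ, if_pos hr, if_pos hr, θ_sq, θ_sq] at this
          simpa using (hb.x_inj ((hχ _ _).symm.trans this)).symm
      have e1 : χP ⟨χ 0, χ 1, 1⟩ = χ := by
        have a : φ (ch χ 33) = ch χ 24 := k (33 : Fin 48) (by decide +kernel)
        have b : φ (ch χ 27) = ch χ 25 := k (27 : Fin 48) (by decide +kernel)
        ext i
        fin_cases i
        exacts [rfl, rfl, by simpa [ch, rtF4, χP] using b, by simpa [ch, rtF4, χP] using a]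
      obtain ⟨ν, μ, e2⟩ := diag_eq (K := K) (χ 0) (χ 1)
      refine ⟨_, e2 ▸ mul_mem (hh ν) (hk μ), fun w => Eq.trans ?_ (h2 _ w)⟩
      exact DFunLike.congr_fun (hb.hom_ext (α := (MulAut.conj n).toMonoidHom)
        (β := (α ⟨χ 0, χ 1, 1⟩).toMonoidHom) fun r u => (hχ r u).trans (by
          rw [← e1]; exact (h1 _ r u).symm)) (emb w)
  obtain ⟨a, ha⟩ := k4 g1 ((σ_nl hσ _).trans (nl_eq (by decide +kernel)))
  obtain ⟨b, hb⟩ := k4 g2 ((σ_nl hσ _).trans (nl_eq (by decide +kernel)))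
  exact ⟨G, i1, i2, ι, k1, k2, k3, ⟨a, fun x hx => ha _ _ (emb_n1 hx.1 hx.2)⟩,
    ⟨b, fun x hx => hb _ _ (emb_n2 hx)⟩, k5⟩

theorem sylow_RF {e : ℕ} (hφ : ∀ t : K, φ t = t ^ (2 * e)) (T : Sylow 2 (twistedF4 K e)) :
    Nonempty ((T : Subgroup (twistedF4 K e)) ≃* US K) := by
  obtain ⟨σ, -, h1, ρL, J, h2, hr⟩ := exists_tw hφ
  exact sylow_iso emb emb_inj (hr ▸ h2.syl (okF4.bn 2)) (subgroupOfEquivOfLe h1) T

omit hK in
theorem exists_TF [Fintype K] {m : ℕ} (h : Fintype.card K = 2 ^ (2 * m + 1)) :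
    ∃ h : TF K, ∀ t : K, h.φ t = t ^ (2 * 2 ^ m) := by
  obtain ⟨l, hl⟩ := CharP.exists K
  obtain ⟨n, h1, h2⟩ := FiniteField.card K l
  obtain rfl : l = 2 := (Nat.prime_dvd_prime_iff_eq h1 Nat.prime_two).1 (h1.dvd_of_dvd_pow
    (h ▸ h2 ▸ dvd_pow_self l n.ne_zero : l ∣ 2 ^ (2 * m + 1)))
  exact ⟨⟨iterateFrobenius K 2 (m + 1), inferInstance, m, Nat.card_eq_fintype_card.trans h,
    iterateFrobenius_def 2 _⟩, fun t => (iterateFrobenius_def 2 _ t).trans (by rw [pow_succ'])⟩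

end Cfsg.Agent.RF
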