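import Cfsg.Agent.Lib.RF.Aut
import Cfsg.Agent.Lib.RF.Iface
import Cfsg.Agent.Lib.RF.Model
import Cfsg.Agent.Lib.U5.Main

/-!
# S5262: assembly (see notes/RF.md)
-/

set_option autoImplicit false
set_option linter.unusedSectionVars false
set_option linter.unusedVariables false

namespace Cfsg.Agent.RF

open Subgroup Cfsg Cfsg.FusionSystem
open U5 (isRealizable_of_isoVia)

universe u

variable {K : Type u} [Field K] [TF K] {F : FusionSystem (⊤ : Subgroup (US K))}

theorem realizable_of_normal (hF : F.IsSaturated 2) {Q : Subgroup (US K)}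
    (h : ∀ P, F.IsEssential 2 P → P = Q) (hi : ∀ f, F.IsIso ⊤ ⊤ f → ∀ x ∈ Q, f x ∈ Q)
    (hc : centralizerIn ⊤ Q ≤ Q) : F.IsRealizable 2 := by
  have hQ : F.IsNormal Q := hF.isNormal_of_essential isPGroup_top fun P hP => by
    rcases hP with rfl | hP
    · exact ⟨le_top, hi⟩
    · rw [h P hP]; exact ⟨le_rfl, fun g hg => hg.mapsTo⟩
  obtain ⟨G, _, ι, h1, h2, h3, -⟩ := Lead.exists_model_of_normal_centric isPGroup_top hF hQ hc
  exact ⟨G, _, h1, ι, h2, h3⟩

/-- the standard automorphisms in the system -/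
def parOf (F : FusionSystem (⊤ : Subgroup (US K))) : Subgroup (Par K) where
  carrier := {t | F.IsIso ⊤ ⊤ (tauF t)}
  one_mem' := (F.isIso_id le_rfl).congr fun x _ => (tauF_one x).symm
  mul_mem' := fun {s t} hs ht => (IsIso.comp' hs ht).congr fun x _ => (tauF_tauF s t x).symm
  inv_mem' := fun {t} ht => IsIso.symm_of_left_inv ht fun x _ => tauF_inv_left t x

theorem not_dvd_parOf (hF : F.IsSaturated 2) : ¬ 2 ∣ Nat.card (parOf F) := fun hd => by
  obtain ⟨⟨t, ht⟩, ho⟩ := exists_prime_orderOf_dvd_card' 2 hd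
  obtain ⟨α, hα, e⟩ := IsIso.exists_aut ht
  have h1 : t ^ 2 = 1 := congrArg Subtype.val (ho ▸ pow_orderOf_eq_one (⟨t, ht⟩ : parOf F) :)
  have h2 : ∀ n : ℕ, ∀ x, equivFun (α ^ n) x = tauF (t ^ n) x := fun n => by
    induction n with
    | zero => intro x; rw [pow_zero, pow_zero, equivFun_one (mem_top x), tauF_one]
    | succ n ih => intro x; rw [pow_succ', equivFun_mul _ _ (mem_top x), ih, e _ trivial, pow_succ', tauF_tauF]
  have h3 : α ^ 2 ^ 1 = 1 := mulEquiv_ext_equivFun fun x hx => by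
    rw [pow_one, h2, h1, tauF_one, equivFun_one hx]
  obtain ⟨s, -, hs⟩ := mem_inn_iff.1 ((hF.sylowIn_top isPGroup_top).mem_of_mem_normalizer hα
    (le_normalizer_inn ⊤ (mem_top _)) h3)
  have h4 : ∀ x, tauF t x = s * x * s⁻¹ := fun x => by
    rw [← e x trivial, equivFun_of_mem _ (mem_top x)]; exact hs ⟨x, trivial⟩
  have h5 : t = 1 := eq_one_of_tauF
    (fun x => by have := congrArg US.a8 (h4 (x8 x)); simp at this; grind)
    (fun x => by have := congrArg US.a1 (h4 (x1 x 0)); simp at this; grind)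
  subst h5
  exact Nat.one_lt_two.ne (orderOf_one.symm.trans ho)

theorem Std.mor (hs : Std F) {E : FusionSystem (⊤ : Subgroup (US K))}
    (h : ∀ t ∈ parOf F, E.IsMor ⊤ (tauF t)) {f : US K → US K} (hf : F.IsIso ⊤ ⊤ f) :
    E.IsMor ⊤ f := by
  obtain ⟨s, t, e⟩ := hs f hf
  have ht : t ∈ parOf F := (((F.isMor_conj le_rfl (mem_top s⁻¹)).comp' hf.mor
    fun _ _ => trivial).congr fun x _ => by rw [e]; group).isIso_top
  exact ((E.isMor_conj le_rfl (mem_top s)).comp' (h t ht) fun _ _ => trivial).congr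
    fun x _ => (e x).symm

theorem realizable_core (hF : F.IsSaturated 2) (hs : Std F) (hh : ∀ ν, hpar ν ∈ parOf F)
    (hk : ∀ ν, kpar ν ∈ parOf F) (hn1 : F.IsMor (Q1 K) n1) (hn2 : F.IsMor (Q2 K) n2) :
    F.IsRealizable 2 := by
  obtain ⟨G, _, _, ι, hι, hS, g0, ⟨g1, e1⟩, ⟨g2, e2⟩, hN⟩ :=
    exists_model (parOf F) (not_dvd_parOf hF) hh hk
  let ι' : (⊤ : Subgroup (US K)) →* G := ι.comp (Subgroup.subtype ⊤)
  have hr : ι'.range = ι.range := by rw [MonoidHom.range_comp, range_subtype, ← MonoidHom.range_eq_map]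
  have he : ∀ x, homFun ι' x = ι x := fun x => homFun_of_mem _ (mem_top x)
  obtain ⟨s, hs'⟩ := exists_grpIso_of_injective (ι := ι') (hι.comp Subtype.val_injective)
  obtain ⟨E, hE⟩ := (groupFusionSystem ι'.range).exists_isoVia hs'.symm
  have hR : E.IsRealizedBy ι' := hE.symm.isRealizedBy
  have hEs : E.IsSaturated 2 := hR.isSaturated (hr ▸ hS)
  have mor : ∀ {P : Subgroup (US K)} {f : US K → US K} (g : G), IsHomOn P f →
      (∀ x ∈ P, ι (f x) = g * ι x * g⁻¹) → E.IsMor P f := fun {P f} g h e =>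
    hR.isMor_iff.2 ⟨le_top, h, fun _ _ => trivial, g, fun x hx => by rw [he, he, e x hx]⟩
  have top : ∀ f, E.IsIso ⊤ ⊤ f → ∃ s : US K, ∃ t ∈ parOf F, ∀ x, f x = s * tauF t x * s⁻¹ :=
    fun f hf => by
      obtain ⟨-, -, -, g, e⟩ := hR.isMor_iff.1 hf.mor
      exact hN g f fun x => by rw [← he, ← he, e x trivial]
  have m1 : E.IsMor (Q1 K) n1 := mor g1 hn1.isHomOn e1
  have m2 : E.IsMor (Q2 K) n2 := mor g2 hn2.isHomOn e2
  have t1 : ∀ f, F.IsIso ⊤ ⊤ f → E.IsMor ⊤ f := fun f hf => hs.mor (fun t ht =>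
    let ⟨g, e⟩ := g0 t ht; mor g (IsIso.mor ht).isHomOn fun x _ => e x) hf
  have t2 : ∀ f, E.IsIso ⊤ ⊤ f → F.IsMor ⊤ f := fun f hf => by
    obtain ⟨s, t, ht, e⟩ := top f hf
    exact ((F.isMor_conj le_rfl (mem_top s)).comp' (IsIso.mor ht) fun _ _ => trivial).congr
      fun x _ => (e x).symm
  have : E = F := by
    refine le_antisymm' (le_iff_isSubsystemOf.2 (hEs.isSubsystemOf_of_essential isPGroup_top ?_))
      (le_iff_isSubsystemOf.2 (hF.isSubsystemOf_of_essential isPGroup_top ?_))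
    · rintro P (rfl | hP) f hf
      · exact t2 f hf
      · rcases ess_cases hEs hP with rfl | rfl
        · exact q1_gen hEs hP m1 t2 hn1 hf
        · exact q2_gen hEs hP m2 t2 hn2 hf
    · rintro P (rfl | hP) f hf
      · exact t1 f hf
      · rcases ess_cases hF hP with rfl | rfl
        · exact q1_gen hF hP hn1 t1 m1 hf
        · exact q2_gen hF hP hn2 t1 m2 hf
  obtain ⟨T, hT⟩ := H7.sylowIn_top_iff.1 hS
  exact GL.isRealizable_of (this ▸ hR) T (hT.trans hr.symm)

theorem realizable_std (hF : F.IsSaturated 2) (hs : Std F) : F.IsRealizable 2 := by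
  by_cases h1 : F.IsEssential 2 (Q1 K); swap
  · refine realizable_of_normal hF (Q := Q2 K)
      (fun P hP => (ess_cases hF hP).resolve_left fun e => h1 (e ▸ hP)) (fun f hf x hx => ?_)
      fun x hx => a8_of_comm one_ne_zero ((mem_centralizerIn'.1 hx).2 _ (by simp [mem_Q2])).symm
    obtain ⟨s, t, e⟩ := hs f hf
    rw [e]
    exact Normal.conj_mem inferInstance _ (by simp [mem_Q2, mem_Q2.1 hx]) s
  by_cases h2 : F.IsEssential 2 (Q2 K); swap
  · refine realizable_of_normal hF (Q := Q1 K)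
      (fun P hP => (ess_cases hF hP).resolve_right fun e => h2 (e ▸ hP)) (fun f hf x hx => ?_)
      fun x hx => VV_le_Q1 (Z1_le_VV (mem_Z1_of_comm fun z hz =>
        (mem_centralizerIn'.1 hx).2 z hz |>.symm))
    obtain ⟨s, t, e⟩ := hs f hf
    rw [e]
    exact Normal.conj_mem inferInstance _ (by simp [mem_Q1, mem_Q1.1 hx]) s
  by_cases hq : ∀ s : K, s = 0 ∨ s = 1
  · obtain ⟨E, t, s, hE, m1, m2⟩ := two_twist hq hF h1 h2
    have hu : ∀ ν : Kˣ, (ν : K) = 1 := fun ν => (hq ν).resolve_left ν.ne_zero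
    have hp : ∀ t : Par K, (∀ x, t.σ x = x) → t ∈ parOf E := fun t ht =>
      eq_one_of_tauF (t := t) (fun x => by simp [hu, ht]) (fun x => by simp [hu, ht]) ▸ one_mem _
    exact isRealizable_of_isoVia hE (realizable_core (hE.isSaturated hF)
      (std_of_two hq (hE.isSaturated hF)) (fun ν => hp _ fun _ => rfl) (fun ν => hp _ fun _ => rfl)
      m1 m2)
  push Not at hq
  have hT : ∀ a b : Kˣ, F.IsIso ⊤ ⊤ (tauF ⟨a, b, 1⟩) := fun a b => by
    obtain ⟨ν, μ, e⟩ := diag_eq a b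
    exact e ▸ (parOf F).mul_mem (q2_h hF hs h2 ν) (q1_k hF hs h1 μ)
  exact realizable_core hF hs (q2_h hF hs h2) (q1_k hF hs h1) (q1_n hF h1 hq hT)
    (q2_n hF h2 hq hT)

theorem realizable {Ω : Type*} [Group Ω] {S : Subgroup Ω} {F : FusionSystem S}
    (hF : F.IsSaturated 2) (e : S ≃* US K) : F.IsRealizable 2 := by
  obtain ⟨E, hE⟩ := F.exists_isoVia (GrpIso.of_equiv (e.trans topEquiv.symm))
  obtain ⟨D, t, s, hD, hs⟩ := exists_std (hE.isSaturated hF)
  exact isRealizable_of_isoVia hE (isRealizable_of_isoVia hD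
    (realizable_std (hD.isSaturated (hE.isSaturated hF)) hs))

end Cfsg.Agent.RF
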