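import Cfsg.Agent.Lib.RF.Cfg

/-!
# S5262: the essential subgroups are `Q1` and `Q2` (see notes/RF.md, section PartA)
-/

set_option autoImplicit false
set_option linter.unusedSectionVars false
set_option linter.unusedVariables false
set_option linter.unusedSimpArgs false
set_option linter.unnecessarySeqFocus false
set_option maxHeartbeats 1600000
set_option maxRecDepth 8000

namespace Cfsg.Agent.RF

open Subgroup Cfsg Cfsg.FusionSystem U5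
open scoped commutatorElement

variable {K : Type*} [Field K] [TF K] {R : Subgroup (US K)} {M A : Subgroup (MulAut R)}
  {w x y : US K} {g : MulAut R}

theorem Z1_le (h : Loc 2 R M A) : Z1 K ≤ R := fun x hx =>
  h.cent x fun r _ => (comm_Z1 hx r).symm

theorem le_of_inv (h : Loc 2 R M A) (hg : g ∈ A) (hb : g ∉ M) (n : ℕ)
    (hi : ∀ i ≤ n, Inv g (ZZ K i)) : ZZ K (n + 1) ≤ R := by
  induction n with
  | zero => exact Z1_le h
  | succ n ih =>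
    have e := ih fun i hi' => hi i (hi'.trans (Nat.le_succ n))
    intro t ht
    refine h.chain hg hb (C := fun i => if i ≤ n + 1 then ZZ K i else ⊤) (fun i j hij => ?_) rfl
      (n := n + 2) (by simp) (fun i => ?_)
      (mem_norm_of_cm fun x _ => e (cm_symm (ZZ_cm x _ t ht))) fun i x _ hx => ?_
    · dsimp only
      split_ifs
      exacts [ZZ_mono hij, le_top, by omega, le_rfl]
    · split_ifs with h1
      exacts [hi i h1, Inv.top]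
    · by_cases h1 : i ≤ n + 1; swap
      · rw [if_neg h1]; trivial
      rw [if_pos h1]
      by_cases h2 : i + 1 ≤ n + 1
      · rw [if_pos h2] at hx
        exact ZZ_cm t i x hx
      · obtain rfl : i = n + 1 := by omega
        exact cm_symm (ZZ_cm x _ t ht)

theorem step (h : Loc 2 R M A) (hg : g ∈ A) (hb : g ∉ M) (n : ℕ) (hi : ∀ i ≤ n, Inv g (ZZ K i)) :
    ∃ g ∈ A, g ∉ M ∧ (∀ i ≤ n, Inv g (ZZ K i)) ∧ (Inv g (ZZ K (n + 1)) ∨ ∃ U : Subgroup (US K),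
      ZZ K n ≤ U ∧ U ≤ ZZ K (n + 1) ∧ (∃ z ∈ ZZ K (n + 1), z ∉ U) ∧ ∀ z ∈ ZZ K (n + 1), z ∉ U →
        ∀ x, (equivFun g z)⁻¹ * (x * equivFun g z * x⁻¹) ∈ U → x ∈ R) := by
  have e := le_of_inv h hg hb n hi
  have hP : ∀ γ, γ ∈ A ⊓ ⨅ i, ⨅ _ : i ≤ n, invS R (ZZ K i) ↔ γ ∈ A ∧ ∀ i ≤ n, Inv γ (ZZ K i) :=
    fun γ => by simp only [mem_inf, mem_iInf, mem_invS]
  obtain ⟨U, hU1, hU2, ⟨g, hg, hb, hi⟩, hmax⟩ := exists_max (M := M)
    (P := A ⊓ ⨅ i, ⨅ _ : i ≤ n, invS R (ZZ K i)) (ZZ_mono (Nat.le_succ n)) e ((hP g).2 ⟨hg, hi⟩) hb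
    (hi n le_rfl)
  have := normal_of_ZZ hU1 hU2
  refine ⟨g, hg.1, hb, ((hP g).1 hg).2, ?_⟩
  by_cases hz : ∃ z ∈ ZZ K (n + 1), z ∉ U
  · exact Or.inr ⟨U, hU1, hU2, hz, fun z hz hzU x hx => mem_of_max h.hW h.se inf_le_left
      (fun t ht => (hP _).2 ⟨h.cj_A ht, fun i _ => inv_conjAut' ht⟩) (hU2.trans e) (e hz)
      (hmax z hz hzU) hg hb hi (fun r _ => hU1 (ZZ_cm r n z hz)) hx⟩
  · push Not at hz
    exact Or.inl fun x hx h1 => hU2 (hi x hx (hz x h1))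

theorem cm_of_comm {W : Type*} [Group W] {N : Subgroup W} {x t : W} (h : t * x = x * t) :
    x⁻¹ * (t * x * t⁻¹) ∈ N := bot_le (a := N) (cm_eq_one h.symm)

theorem stepB (h : Loc 2 R M A) (hg : g ∈ A) (hb : g ∉ M) (hi : ∀ i ≤ 2, Inv g (ZZ K i)) :
    ∃ g ∈ A, g ∉ M ∧ ∀ i ≤ 3, Inv g (ZZ K i) := by
  obtain ⟨g, hg, hb, hi, h3 | ⟨U, hU, -, ⟨z, hz, hzU⟩, C⟩⟩ := step h hg hb 2 hi
  · exact ⟨g, hg, hb, fun i e => (Nat.le_succ_iff.1 e).elim (hi i) fun e => e ▸ h3⟩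
  exfalso
  have e3 : Z3 K ≤ R := le_of_inv h hg hb 2 hi
  have e2 := Z2_le_Z3.trans e3
  have hQ := inv_Q2 e2 (hi 2 le_rfl)
  have C1 := fun x hx => C z hz hzU x (hU hx)
  have ww := ef_sq g (e3 hz) (sq_VV (Z3_le_VV hz))
  have h8 := hQ z (e3 hz) (XX_le_Q2 (VV_le_XX (Z3_le_VV hz)))
  have key : ∀ x, x * x = 1 → x.a8 = 0 → (equivFun g z)⁻¹ * (x * equivFun g z * x⁻¹) ∈ Z2 K →
      equivFun g z * x = x * equivFun g z := fun x h1 h2 h3 =>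
    ef_comm g (e3 hz) (C1 x h3) (comm_Z3 hz (invol_XX (ef_sq _ (C1 x h3) h1)
      (hQ.inv x (C1 x h3) h2)))
  generalize equivFun g z = w at C1 ww h8 key
  have hX := invol_XX ww h8
  have k1 := congrArg US.u3 (key (x6 1) (sq_VV (by simp [mem_VV])) rfl
    (cm_symm (cm_Z4' (by simp [mem_Z4]) hX.2.1)))
  simp [mem_XX.1 hX] at k1
  have h5 := (invol_Z5 ww h8 (by grind)).1
  have k2 := congrArg US.u5 (key (x2 1) (by ext <;> simp [CharTwo.add_self_eq_zero]) rfl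
    (by simp [mem_Z2, mem_Z5.1 h5, CharTwo.add_self_eq_zero]; grind))
  have k3 := congrArg US.u5 (key (x7 0 1) (sq_VV (by simp [mem_VV])) rfl
    (by simp [mem_Z2, mem_Z5.1 h5, CharTwo.add_self_eq_zero]; grind))
  simp [mem_Z5.1 h5] at k2 k3
  have h9 : w.u7 = 0 := by grind
  have h4 : w ∈ Z4 K := by simp [mem_Z4, mem_Z5.1 h5, h9]; grind
  have k4 := congrArg US.u3 (key (x1 0 1) (by ext <;> simp [CharTwo.add_self_eq_zero]) rfl
    (cm_Z4' h4 rfl))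
  simp [mem_Z4.1 h4] at k4
  exact h.ne_top (eq_top_iff.2 fun x _ => C1 x (cm_Z3 (by simp [mem_Z3, mem_Z4.1 h4]; grind) x))

theorem stepC (h : Loc 2 R M A) (hg : g ∈ A) (hb : g ∉ M) (hi : ∀ i ≤ 3, Inv g (ZZ K i)) :
    ∃ g ∈ A, g ∉ M ∧ ∀ i ≤ 4, Inv g (ZZ K i) := by
  obtain ⟨g, hg, hb, hi, h3 | ⟨U, hU, -, ⟨z, hz, hzU⟩, C⟩⟩ := step h hg hb 3 hi
  · exact ⟨g, hg, hb, fun i e => (Nat.le_succ_iff.1 e).elim (hi i) fun e => e ▸ h3⟩
  exfalso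
  have e4 : Z4 K ≤ R := le_of_inv h hg hb 3 hi
  have hX := inv_XX (Z3_le_Z4.trans e4) (hi 3 le_rfl)
  have C1 := fun x hx => C z hz hzU x (hU hx)
  have ww := ef_sq g (e4 hz) (sq_VV (Z4_le_VV hz))
  have hw := hX z (e4 hz) (VV_le_XX (Z4_le_VV hz))
  have key : ∀ x ∈ XX K, (equivFun g z)⁻¹ * (x * equivFun g z * x⁻¹) ∈ Z2 K := fun x hx =>
    have h1 := C1 x (cm_XX hw hx)
    (hi 2 (by omega)).cm (e4 hz) h1 (cm_Z4' hz (hX.inv x h1 hx).2.1)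
  have a1 : x7 0 1 ∈ XX K := by simp [mem_XX]
  have a2 := C1 _ (cm_XX hw a1)
  have fin : (equivFun g z)⁻¹ * (x7 0 1 * equivFun g z * (x7 0 1)⁻¹) ∈ Z1 K →
      equivFun g z * x7 0 1 = x7 0 1 * equivFun g z := fun h1 => by
    have k1 := (hi 1 (by omega)).inv.cm (equivFun_mem g (e4 hz)) (equivFun_mem g⁻¹ a2)
      (by rwa [inv_inv, equivFun_apply_inv _ a2])
    rw [equivFun_inv_apply _ (e4 hz)] at k1
    have k2 := hX.inv _ a2 a1
    have k3 := ef_sq g⁻¹ a2 (sq_VV (by simp [mem_VV]))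
    refine ef_comm g (e4 hz) a2 ?_
    generalize equivFun g⁻¹ (x7 0 1) = v at k1 k2 k3
    have k4 := k1.2.2.2.2.2.2.2.2.2.2
    have k5 : z.a6 ≠ 0 := fun e => hzU (hU (show z ∈ Z3 K by simp [mem_Z3, mem_Z4.1 hz, e]))
    simp [mem_Z4.1 hz, mem_XX.1 k2] at k4
    exact comm_Z4 hz (Z5_le_X4 (invol_Z5 k3 k2.1 (by grind)).1)
  generalize equivFun g z = w at C1 ww hw key fin
  have k1 := (key _ a1).2.2.2.2.2.2.2.2.2
  have k2 := (key (x1 0 1) (by simp [mem_XX])).2.2.2.2.2.2.2.2.2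
  simp [mem_XX.1 hw] at k1 k2
  have h5 := (invol_Z5 ww hw.1 (by grind)).1
  have k3 := congrArg US.u5 (fin (by simp [mem_Z1, mem_Z5.1 h5, CharTwo.add_self_eq_zero]; grind))
  simp [mem_Z5.1 h5] at k3
  exact h.ne_top (eq_top_iff.2 fun x _ => C1 x (cm_Z4 (by simp [mem_Z4, mem_Z5.1 h5]; grind) x))

/-- L3: what normalizes `Z1` and `Z2` lies in `M`. -/
theorem mem_of_inv (h : Loc 2 R M A) (hg : g ∈ A) (h1 : Inv g (Z1 K)) (h2 : Inv g (Z2 K)) :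
    g ∈ M := by
  by_contra hb
  obtain ⟨g, hg, hb, hi⟩ := stepB h hg hb fun i hi =>
    match i, hi with | 0, _ => Inv.bot | 1, _ => h1 | 2, _ => h2
  obtain ⟨g, hg, hb, hi⟩ := stepC h hg hb hi
  have e5 : Z5 K ≤ R := le_of_inv h hg hb 4 hi
  have e4 := Z4_le_Z5.trans e5
  have k1 := hi 1 (by omega)
  have k3 := hi 3 (by omega)
  have k4 := hi 4 le_rfl
  exact h.ne_top (eq_top_iff.2 (le_of_inv h hg hb 7 fun i e =>
    match i, e with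
    | 0, _ => Inv.bot | 1, _ => k1 | 2, _ => hi 2 (by omega) | 3, _ => k3 | 4, _ => k4
    | 5, _ => inv_Z5 e5 k4 | 6, _ => inv_Z6 e4 k1 k3 k4
    | 7, _ => inv_Z7 (Z3_le_Z4.trans e4) k1 (hi 2 (by omega)) k3))

theorem mem_Q1_of_cm (hw : w ∈ VV K) (h : w ∉ Z3 K) (hx : w⁻¹ * (x * w * x⁻¹) ∈ Z1 K) :
    x ∈ Q1 K := by
  obtain ⟨-, -, -, -, -, -, -, -, k1, k2, k3⟩ := hx
  simp [mem_VV.1 hw] at k1 k2 k3
  by_cases h9 : w.u7 = 0
  · have h6 : w.a6 ≠ 0 := fun e => h (by simp [mem_Z3, mem_VV.1 hw, h9, e])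
    have k4 : φ x.a1 = 0 := by grind
    have k5 : x.a1 = 0 := by simpa using k4
    exact ⟨k5, by grind⟩
  · have k5 : x.a1 = 0 := by grind
    exact ⟨k5, by grind⟩

theorem L2 (h : Loc 2 R M A) (hg : g ∈ A) (hb : g ∉ M) (h1 : Inv g (Z1 K)) : R = Q1 K := by
  obtain ⟨g, hg, hb, hi, h3 | ⟨U, hU, -, ⟨z, hz, hzU⟩, C⟩⟩ := step h hg hb 1 fun i hi =>
    match i, hi with | 0, _ => Inv.bot | 1, _ => h1
  · exact absurd (mem_of_inv h hg (hi 1 le_rfl) h3) hb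
  have e2 : Z2 K ≤ R := le_of_inv h hg hb 1 hi
  have h1 : Inv g (Z1 K) := hi 1 le_rfl
  have C1 := fun x hx => C z hz hzU x (hU hx)
  have C2 : ∀ r ∈ R, (equivFun g z)⁻¹ * (r * equivFun g z * r⁻¹) ∈ Z1 K := fun r hr =>
    h1.cm (e2 hz) hr (cm_Z2 hz _)
  have hw := (cfgG h (ef_sq g (e2 hz) (sq_VV (Z2_le_VV hz))) (fun x hx => C1 x (cm_of_comm hx))
    C2).mem_VV
  by_cases h3 : equivFun g z ∈ Z3 K; swap
  · exact le_antisymm (fun r hr => mem_Q1_of_cm hw h3 (C2 r hr)) fun x hx => C1 x (cm_VV hw hx)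
  exfalso
  have fin : (∀ r ∈ R, r.a1 = 0) → ∀ x ∈ R, x * x = 1 → x * equivFun g z = equivFun g z * x →
      x.a8 = 0 := fun hR x hx h4 h5 => by
    have a1 : x3 0 1 ∈ Z2 K := by simp [mem_Z2]
    have k1 := ef_comm g⁻¹ hx (e2 hz) (by rwa [inv_inv])
    have k2 : z = x3 0 z.u3 * x5 0 z.u5 := by ext <;> simp [mem_Z2.1 hz]
    have k3 : (equivFun g⁻¹ x).a8 = 0 := by
      have := congrArg US.u5 k1
      have k4 : z.u3 ≠ 0 := fun e => hzU (hU (show z ∈ Z1 K by simp [mem_Z1, mem_Z2.1 hz, e]))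
      simp [mem_Z2.1 hz] at this
      grind
    have k4 := mem_Z3_of_cm (hR _ (equivFun_mem g⁻¹ (e2 a1))) fun r hr =>
      h1.inv.cm (e2 a1) (C1 r (cm_Z3' h3 hr)) (cm_Z2 a1 _)
    have k5 := ef_comm g (equivFun_mem g⁻¹ hx) (e2 a1)
      (comm_Z3 k4 (invol_XX (ef_sq _ hx h4) k3)).symm
    rw [equivFun_apply_inv _ hx] at k5
    exact a8_of_comm one_ne_zero k5
  generalize equivFun g z = w at C1 C2 h3 fin
  have h4 : w.a4 ≠ 0 := fun e => h.ne_top (eq_top_iff.2 fun x _ =>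
    C1 x (cm_Z2 (by simp [mem_Z2, mem_Z3.1 h3, e]) x))
  have k := fin (fun r hr => by
      have := (C2 r hr).2.2.2.2.2.2.2.2.2.2
      simp [mem_Z3.1 h3] at this
      grind) (x1 (w.u3 / w.a4) 0 * x8 1 * (x1 (w.u3 / w.a4) 0)⁻¹)
    (C1 _ (cm_Z3' h3 (by simp [CharTwo.add_self_eq_zero])))
    (by rw [conj_mul, show x8 (1 : K) * x8 1 = 1 by ext <;> simp [CharTwo.add_self_eq_zero]]; group)
    (by ext <;> simp [mem_Z3.1 h3] <;> grind)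
  simp at k

theorem ce_ce (hx : x ∈ Q1 K) (hy : y ∈ Q1 K) (hw : w ∈ Q1 K) : ⁅⁅w, x⁆, y⁆ ∈ Z1 K := by
  have h1 : ⁅w, x⁆ ∈ VV K := by
    simpa [commutatorElement_def, mul_assoc] using cm_Q1 (inv_mem hw) hx
  simpa [commutatorElement_def (⁅w, x⁆), mul_assoc] using cm_VV (inv_mem h1) hy

theorem L1 (h : Loc 2 R M A) (hno : ∀ g ∈ A, Inv g (Z1 K) → g ∈ M) : R = Q2 K := by
  obtain ⟨g, hg, hb⟩ := h.data.exists_not_mem
  obtain ⟨g, hg, hb, -, h3 | ⟨U, -, hU, ⟨z, hz, hzU⟩, C⟩⟩ := step h hg hb 0 fun i hi =>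
    match i, hi with | 0, _ => Inv.bot
  · exact absurd (hno g hg h3) hb
  have e1 := Z1_le h
  have top : ∀ z ∈ Z1 K, z ∉ U → equivFun g z ∉ Z1 K := fun z hz hzU h1 =>
    h.ne_top (eq_top_iff.2 fun x _ => C z hz hzU x (cm_of_comm (comm_Z1 h1 x).symm))
  have D1 := fun x hx => C z hz hzU x (cm_of_comm hx)
  have D2 : ∀ z ∈ Z1 K, ∀ r ∈ R, equivFun g z * r = r * equivFun g z := fun z hz r hr =>
    ef_comm g (e1 hz) hr (comm_Z1 hz _)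
  have D3 := D2 z hz
  have D4 := C z hz hzU
  have hw := (cfgG (Z := Z1 K) h (ef_sq g (e1 hz) (sq_VV (Z1_le_VV hz))) D1
    fun r hr => cm_of_comm (D3 r hr).symm).mem_VV
  have hn := top z hz hzU
  have E : (∀ r ∈ R, r ∈ Q1 K) → x5 z.u5 0 ∈ R → ∀ x ∈ R, ∀ y ∈ R, z ≠ ⁅⁅x5 z.u5 0, x⁆, y⁆ :=
    fun hR h5 x hx y hy e => hn (by
      rw [e, ef_ce _ (ce_mem h5 hx) hy, ef_ce _ h5 hx]
      exact ce_ce (hR _ (equivFun_mem _ hx)) (hR _ (equivFun_mem _ hy)) (hR _ (equivFun_mem _ h5)))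
  generalize equivFun g z = w at D1 D3 D4 hw hn E
  by_cases h3 : w ∈ Z3 K; swap
  · exfalso
    have E' := E (fun r hr => mem_Q1_of_cm hw h3 (cm_of_comm (D3 r hr).symm))
      (D1 _ (comm_VV hw (by simp [mem_WV])).symm)
    by_cases h9 : w.u7 = 0
    · have h6 : w.a6 ≠ 0 := fun e => h3 (by simp [mem_Z3, mem_VV.1 hw, h9, e])
      refine E' (x3 (w.u3 / w.a6) 0 * x8 1) (D1 _ ?_) (x2 1) (D1 _ ?_) ?_ <;>
        ext <;> simp [commutatorElement_def, mem_VV.1 hw, mem_Z1.1 hz, h9] <;> grind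
    · refine E' (x2 (w.a4 / w.u7) * x7 1 0) (D1 _ ?_) (x2 (w.a6 / w.u7) * x3 1 0) (D1 _ ?_) ?_ <;>
        ext <;> simp [commutatorElement_def, mem_VV.1 hw, mem_Z1.1 hz] <;> grind
  by_cases h4 : w.a4 = 0
  · have h2 : w ∈ Z2 K := by simp [mem_Z2, mem_Z3.1 h3, h4]
    have h0 : w.u3 ≠ 0 := fun e => hn (by simp [mem_Z1, mem_Z2.1 h2, e])
    refine le_antisymm (fun r hr => ?_) fun x hx => D1 x (comm_Z2 h2 hx).symm
    have := congrArg US.u5 (D3 r hr)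
    simp [mem_Z2.1 h2] at this
    exact mem_Q2.2 (by grind)
  exfalso
  have hR : ∀ r ∈ R, r.a1 = 0 ∧ r.a7 = w.u3 / w.a4 * r.a8 := fun r hr => by
    have k1 := congrArg US.u3 (D3 r hr)
    have k2 := congrArg US.u5 (D3 r hr)
    simp [mem_Z3.1 h3] at k1 k2
    exact ⟨by grind, by grind⟩
  have hU0 : ∀ u ∈ U, u = 1 := fun u hu => by
    have k1 := (hR _ (D4 (x7 (u.u5 / w.a4) 0) (by
      convert hu using 1
      ext <;> simp [mem_Z3.1 h3, mem_Z1.1 (hU hu)] <;> grind))).2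
    ext <;> simp [mem_Z1.1 (hU hu)]
    simpa [h4] using k1
  have hX : XX K ≤ R := fun x hx => D1 x (comm_Z3 h3 hx).symm
  have a1 : x3 0 1 ∈ Z2 K := by simp [mem_Z2]
  have a2 : x3 0 1 ∈ R := hX (VV_le_XX (Z2_le_VV a1))
  have a3 : x7 (w.u3 / w.a4) 0 * x8 1 ∈ R := D1 _ (by ext <;> simp [mem_Z3.1 h3] <;> grind)
  have K0 : ∀ r ∈ R, ∃ z ∈ Z1 K, (equivFun g (x3 0 1))⁻¹ * (r * equivFun g (x3 0 1) * r⁻¹) =
      equivFun g z := fun r hr =>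
    ⟨_, cm_Z2 a1 (equivFun g⁻¹ r), by rw [ef_cm _ a2 (equivFun_mem _ hr), equivFun_apply_inv _ hr]⟩
  have yy := ef_sq g a2 (sq_VV (Z2_le_VV a1))
  have hy := hR _ (equivFun_mem g a2)
  have fin : (∀ r ∈ R, equivFun g (x3 0 1) * r = r * equivFun g (x3 0 1)) → False := fun h1 => by
    have := ef_comm g⁻¹ (equivFun_mem g a2) a3 (h1 _ (equivFun_mem _ a3))
    rw [equivFun_inv_apply _ a2] at this
    simpa using a8_of_comm one_ne_zero this.symm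
  generalize equivFun g (x3 0 1) = y at K0 yy hy fin
  have K1 : ∀ r ∈ R, y⁻¹ * (r * y * r⁻¹) ∈ Z3 K := fun r hr => by
    obtain ⟨z, hz, e⟩ := K0 r hr
    exact e ▸ mem_Z3_of_comm fun x hx => D2 z hz x (hX hx)
  have K2 : ∀ r ∈ R, y⁻¹ * (r * y * r⁻¹) ∈ Z1 K → (y⁻¹ * (r * y * r⁻¹)).u5 = 0 := fun r hr h1 => by
    obtain ⟨z, hz, e⟩ := K0 r hr
    by_cases hzU : z ∈ U
    · rw [e, hU0 z hzU, ef_one]; rfl
    · exact absurd (e ▸ h1) (top z hz hzU)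
  have k1 := (K1 (x1 0 1) (hX (by simp [mem_XX]))).2.2.2.2.1
  simp [hy.1] at k1
  have h8 : y.a8 = 0 := by grind
  obtain ⟨-, -, -, -, k2, -, -, -, k3⟩ := K1 _ a3
  have hyX := invol_XX yy h8
  simp [mem_XX.1 hyX] at k2
  have h5 := (invol_Z5 yy h8 (by grind)).1
  simp [mem_Z5.1 h5] at k3
  have hV : y ∈ VV K := by simp [mem_VV, mem_Z5.1 h5]; grind
  have k4 := K2 (x2 1) (hX (by simp [mem_XX])) (cm_VV hV (by simp [mem_Q1]))
  have k5 := K2 (x3 1 0) (hX (by simp [mem_XX])) (cm_VV hV (by simp [mem_Q1]))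
  have k6 := K2 _ a3 (cm_VV hV (by simp [mem_Q1]))
  simp [mem_VV.1 hV] at k4 k5 k6
  have k7 : y.u7 = 0 := by grind
  have k8 : y.a6 = 0 := by grind
  refine fin fun r hr => ?_
  ext <;> simp [mem_VV.1 hV, k7, k8, hR r hr] <;> grind

theorem ess_cases {F : FusionSystem (⊤ : Subgroup (US K))} (hF : F.IsSaturated 2)
    {R : Subgroup (US K)} (hR : F.IsEssential 2 R) : R = Q1 K ∨ R = Q2 K := by
  obtain ⟨M, h⟩ := exists_loc isPGroup_US hF hR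
  by_cases hno : ∀ g ∈ F.autGroup R, Inv g (Z1 K) → g ∈ M
  · exact Or.inr (L1 h hno)
  · push Not at hno
    obtain ⟨g, hg, h1, hb⟩ := hno
    exact Or.inl (L2 h hg hb h1)

end Cfsg.Agent.RF
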