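import Cfsg.Agent.Lib.RF.Tor
import Cfsg.Agent.Lib.H7.Transport

/-!
# S5262: the automizers of `Q1` and `Q2` (see notes/RF.md)
-/

set_option autoImplicit false
set_option linter.unusedSectionVars false
set_option linter.unusedVariables false
set_option linter.unusedSimpArgs false
set_option linter.unnecessarySeqFocus false
set_option maxHeartbeats 1600000
set_option maxRecDepth 8000

namespace Cfsg.Agent.RF

open Subgroup Cfsg Cfsg.FusionSystem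
open U5 (Inv Loc ef_mul ef_inv ef_one exists_loc exists_ext exists_aut_of mem_norm)
open scoped commutatorElement

variable {K : Type*} [Field K] [TF K] {x y : US K} {F : FusionSystem (⊤ : Subgroup (US K))}

theorem isIso_tauF {f : US K → US K} (hf : F.IsIso ⊤ ⊤ f) {s : US K} {t : Par K}
    (e : ∀ x, f x = s * tauF t x * s⁻¹) : F.IsIso ⊤ ⊤ (tauF t) :=
  (((F.isMor_conj le_rfl (mem_top s⁻¹)).comp' hf.mor
    fun _ _ => trivial).congr fun x _ => by rw [e]; group).isIso_top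

/-- restriction of the diagonal automorphisms -/
def resT (R : Subgroup (US K)) (hR : ∀ t, ∀ x ∈ R, tauF t x ∈ R) : Kˣ × Kˣ →* MulAut R :=
  MonoidHom.mk' (fun v => ⟨⟨fun x => ⟨tauF ⟨v.1, v.2, 1⟩ x, hR _ _ x.2⟩,
    fun x => ⟨tauF (⟨v.1, v.2, 1⟩ : Par K)⁻¹ x, hR _ _ x.2⟩, fun x => Subtype.ext (tauF_inv_left _ _),
    fun x => Subtype.ext (tauF_inv_right _ _)⟩, fun x y => Subtype.ext (tauF_mul _ _ _)⟩)
    fun v w => MulEquiv.ext fun x => Subtype.ext ((congrArg (tauF · (x : US K)) (by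
      ext <;> simp)).trans (tauF_tauF ⟨v.1, v.2, 1⟩ ⟨w.1, w.2, 1⟩ x))

theorem ef_resT {R : Subgroup (US K)} (hR : ∀ t, ∀ x ∈ R, tauF t x ∈ R) (v : Kˣ × Kˣ) (hx : x ∈ R) :
    equivFun (resT R hR v) x = tauF ⟨v.1, v.2, 1⟩ x := equivFun_of_mem _ hx

theorem lift_tor {R : Subgroup (US K)} (hR : ∀ t, ∀ x ∈ R, tauF t x ∈ R) {V : Type*} [Group V]
    (vb : MulAut R →* V) (hpg : IsPGroup 2 vb.ker) (hinn : Inn R ≤ vb.ker)
    (hker : ∀ γ ∈ F.autGroup R, vb γ = 1 → γ ∈ Inn R)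
    (hT : ∀ a b : Kˣ, F.IsIso ⊤ ⊤ (tauF ⟨a, b, 1⟩)) {γ N : MulAut R} (hγ : γ ∈ F.autGroup R)
    (e : vb γ = vb N) (hN : ∀ a b : Kˣ, ∃ a' b' : Kˣ, ∀ x ∈ R,
      equivFun N (tauF ⟨a', b', 1⟩ x) = tauF ⟨a, b, 1⟩ (equivFun N x))
    (hf : ∀ y, vb y = 1 → (∀ a b : Kˣ, ∀ x ∈ R,
      equivFun y (tauF ⟨a, b, 1⟩ x) = tauF ⟨a, b, 1⟩ (equivFun y x)) → y = 1) :
    N ∈ F.autGroup R := by
  have : (Inn R).Normal := normalizer_eq_top_iff.1 (eq_top_iff.2 (le_normalizer_inn ⊤))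
  have hA : ∀ v, resT R hR v ∈ F.autGroup R := fun v => by
    obtain ⟨k, hk, e⟩ := (((hT v.1 v.2).mor.mono le_top).isIso_self (hR _)).exists_aut
    rwa [show resT R hR v = k from mulEquiv_ext_equivFun fun x hx => by rw [ef_resT hR v hx, e x hx]]
  have hc : γ * N⁻¹ ∈ vb.ker := by simp [MonoidHom.mem_ker, e]
  have := mem_of_tor (H := (resT R hR).range) hpg hinn (by
    refine Nat.Coprime.coprime_dvd_left (card_range_dvd _) ?_
    obtain ⟨m, h, -⟩ := TF.ex (K := K)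
    rw [Nat.card_prod, Nat.card_units, h, Nat.coprime_mul_iff_left, and_self,
      Nat.coprime_two_right, pow_succ]
    exact Nat.Even.sub_odd (Nat.succ_le_of_lt (by positivity)) (by simp) odd_one)
    (fun y hy h => hf y hy fun a b x hx => by
      have := congrArg (equivFun · x) (h _ ⟨(a, b), rfl⟩)
      simpa only [equivFun_mul _ _ hx, ef_resT hR _ hx, ef_resT hR _ (equivFun_mem _ hx)] using this)
    hc (by
      rintro _ ⟨v, rfl⟩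
      obtain ⟨a, b, h⟩ := hN v.1 v.2
      have k : N * resT R hR (a, b) = resT R hR v * N := mulEquiv_ext_equivFun fun x hx => by
        rw [equivFun_mul _ _ hx, equivFun_mul _ _ hx, ef_resT hR _ hx,
          ef_resT hR _ (equivFun_mem _ hx), h x hx]
      refine hker _ ?_ (MonoidHom.mem_ker.1 (by
        simpa only [mul_assoc] using
          vb.ker.mul_mem hc (vb.normal_ker.conj_mem _ (vb.ker.inv_mem hc) (resT R hR v))))
      rw [show γ * N⁻¹ * resT R hR v * (γ * N⁻¹)⁻¹ = γ * resT R hR (a, b) * γ⁻¹ by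
        rw [← inv_mul_cancel_left N (resT R hR (a, b)), k]; group]
      exact mul_mem (mul_mem (mul_mem hγ (hA _)) (inv_mem hγ)) (inv_mem (hA _)))
  simpa using mul_mem (inv_mem (F.inn_le_autGroup le_top this)) hγ

theorem exists_n1 : ∃ N : MulAut (Q1 K), ∀ x ∈ Q1 K, equivFun N x = n1 x :=
  exists_aut_of (g := n1) (fun x hx y hy => n1_mul hx.1 hx.2 hy.1 hy.2) (fun x _ => n1_mem x)
    fun x hx => n1_n1 hx.1 hx.2

theorem exists_n2 : ∃ N : MulAut (Q2 K), ∀ x ∈ Q2 K, equivFun N x = n2 x :=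
  exists_aut_of (g := n2) (fun x hx y hy => n2_mul hx hy) (fun x _ => n2_mem x)
    fun x hx => n2_n2 hx

theorem vb1_n {vb : MulAut (Q1 K) →* (V4 K ≃ₗ[ℤ] V4 K)}
    (hvb : ∀ γ, ∀ x ∈ Q1 K, vb γ (pi1 x) = pi1 (equivFun γ x)) {N : MulAut (Q1 K)}
    (hN : ∀ x ∈ Q1 K, equivFun N x = n1 x) (v : V4 K) : vb N v = nn v :=
  vb1_ext hvb (fun x hx => by rw [hN x hx]; rfl) v

theorem vb2_n {vb : MulAut (Q2 K) →* ((K × K) ≃ₗ[ℤ] (K × K))}
    (hvb : ∀ γ, ∀ x ∈ Q2 K, vb γ (pi2 x) = pi2 (equivFun γ x)) {N : MulAut (Q2 K)}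
    (hN : ∀ x ∈ Q2 K, equivFun N x = n2 x) (v : K × K) : vb N v = (v.2, v.1) :=
  vb2_ext hvb (f := fun v => (v.2, v.1)) (fun x hx => by rw [hN x hx]; rfl) v

variable (hF : F.IsSaturated 2)
include hF

theorem q1_k (hs : Std F) (hE : F.IsEssential 2 (Q1 K)) (l : Kˣ) :
    F.IsIso ⊤ ⊤ (tauF (kpar l)) := by
  obtain ⟨vb, hvb⟩ := exists_vb1 (K := K)
  obtain ⟨M, h⟩ := exists_loc isPGroup_US hF hE
  obtain ⟨N, hN⟩ := exists_n1 (K := K)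
  obtain ⟨_, ⟨γ, hγ, rfl⟩, e⟩ := lin1_h phi_phi (vb1_hΓ hvb) (vb1_hU hvb) (map_le_range _ _)
    ⟨_, ⟨N, rfl⟩, vb1_n hvb hN⟩ (vb1_hUX hvb h) (vb1_hex hvb h) l.ne_zero
  obtain ⟨f, hf, e1⟩ := exists_ext isPGroup_US hF hγ (vb1_norm hvb h hγ fun f => ⟨_, by
    rw [e]; simp only [hh, mul_zero]; rfl⟩)
  obtain ⟨s, t, e2⟩ := hs f hf
  have k : ∀ x ∈ Q1 K, hh φ (l : K) (pi1 x) = uu φ s.a1 s.u1 (pi1 (tauF t x)) := fun x hx => by
    rw [← pi1_conj s (by simp [mem_Q1, mem_Q1.1 hx]), ← e2, e1 x hx, ← hvb _ _ hx, e]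
  have k1 : ∀ a : K, ((l : K) * φ (l : K))⁻¹ * a = t.a * t.σ a := fun a =>
    congrArg Prod.fst (k (x8 a) ⟨rfl, rfl⟩)
  have k2 : (l : K)⁻¹ = t.a * t.b := by
    simpa [hh, uu, pi1] using congrArg (fun v => v.2.1) (k (x7 1 0) ⟨rfl, rfl⟩)
  have k3 : (t.a : K) = ((l : K) * φ (l : K))⁻¹ := by simpa using (k1 1).symm
  have l0 := l.ne_zero
  have l1 : φ (l : K) ≠ 0 := by simp
  have : t = kpar l := by
    ext
    · simp [k3]
    · rw [k3] at k2; rw [kpar_b]; field_simp at k2; rw [k2]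
    · next x => rw [k3] at k1; exact (mul_left_cancel₀ (by simp) (k1 x)).symm
  exact this ▸ isIso_tauF hf e2

theorem q2_h (hs : Std F) (hE : F.IsEssential 2 (Q2 K)) (ν : Kˣ) :
    F.IsIso ⊤ ⊤ (tauF (hpar ν)) := by
  obtain ⟨vb, hvb⟩ := exists_vb2 (K := K)
  obtain ⟨M, h⟩ := exists_loc isPGroup_US hF hE
  obtain ⟨_, ⟨γ, hγ, rfl⟩, e⟩ := lin2_h (vb2_hL hvb h) (vb2_hT hvb h) (vb2_hex hvb h) ν.ne_zero
  obtain ⟨f, hf, e1⟩ := exists_ext isPGroup_US hF hγ (vb2_norm hvb h hγ fun d => by simp [e])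
  obtain ⟨s, t, e2⟩ := hs f hf
  have k : ∀ x ∈ Q2 K, ((ν : K)⁻¹ * x.a1, ν * x.a7) = pi2 (s * tauF t x * s⁻¹) := fun x hx => by
    rw [← e2, e1 x hx, ← hvb _ _ hx, e]; rfl
  have k1 : ∀ a : K, (ν : K)⁻¹ * a = t.b * t.σ a := fun a => by
    have := congrArg Prod.fst (k (x1 a 0) rfl)
    simp [pi2] at this
    grind
  have k2 : (ν : K) = t.a * t.b := by
    have := congrArg Prod.snd (k (x7 1 0) rfl)
    simp [pi2] at this
    grind
  have k3 : (t.b : K) = (ν : K)⁻¹ := by simpa using (k1 1).symm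
  have : t = hpar ν := by
    ext
    · rw [k3] at k2; field_simp at k2; rw [hpar_a, k2]
    · simp [k3]
    · next x => simpa [k3] using (k1 x).symm
  exact this ▸ isIso_tauF hf e2

theorem q1_n (hE : F.IsEssential 2 (Q1 K)) (hq : ∃ s : K, s ≠ 0 ∧ s ≠ 1)
    (hT : ∀ a b : Kˣ, F.IsIso ⊤ ⊤ (tauF ⟨a, b, 1⟩)) : F.IsMor (Q1 K) n1 := by
  obtain ⟨vb, hvb⟩ := exists_vb1 (K := K)
  obtain ⟨M, h⟩ := exists_loc isPGroup_US hF hE
  obtain ⟨N, hN⟩ := exists_n1 (K := K)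
  obtain ⟨_, ⟨γ, hγ, rfl⟩, e⟩ := lin1_n phi_phi (vb1_hΓ hvb) (vb1_hU hvb) (map_le_range _ _)
    ⟨_, ⟨N, rfl⟩, vb1_n hvb hN⟩ (vb1_hUX hvb h) (vb1_hex hvb h)
  have hR : ∀ t : Par K, ∀ x ∈ Q1 K, tauF t x ∈ Q1 K := fun t x hx => by simp [mem_Q1, mem_Q1.1 hx]
  refine (isMor_of_mem_autGroup le_top (lift_tor hR vb ((isPGroup_frStab isPGroup_US).to_le
    (vb1_ker_le hvb)) (vb1_inn hvb) (fun γ => vb1_ker hvb h) hT hγ
    (LinearEquiv.ext fun v => by rw [e, vb1_n hvb hN]) (fun a b => ⟨a * b ^ 2 * φu b, b⁻¹,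
      fun x hx => ?_⟩) fun y hy h => tor_Q1 (fun x => vb1_triv hvb hy) (fun α => h α 1) hq)).congr hN
  have l1 : φ (b : K) ≠ 0 := by simp
  rw [hN x hx, hN _ (hR _ x hx)]
  ext <;> simp [-mul_eq_mul_right_iff, -mul_eq_mul_left_iff] <;> field_simp

theorem q2_n (hE : F.IsEssential 2 (Q2 K)) (hq : ∃ s : K, s ≠ 0 ∧ s ≠ 1)
    (hT : ∀ a b : Kˣ, F.IsIso ⊤ ⊤ (tauF ⟨a, b, 1⟩)) : F.IsMor (Q2 K) n2 := by
  obtain ⟨vb, hvb⟩ := exists_vb2 (K := K)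
  obtain ⟨M, h⟩ := exists_loc isPGroup_US hF hE
  obtain ⟨N, hN⟩ := exists_n2 (K := K)
  obtain ⟨_, ⟨γ, hγ, rfl⟩, e⟩ := lin2_w (vb2_hL hvb h) (vb2_hT hvb h) (vb2_hex hvb h) one_ne_zero
  have hR : ∀ t : Par K, ∀ x ∈ Q2 K, tauF t x ∈ Q2 K := fun t x hx => by simp [mem_Q2, mem_Q2.1 hx]
  refine (isMor_of_mem_autGroup le_top (lift_tor hR vb (vb2_pg hvb) (vb2_inn hvb)
    (fun γ => vb2_ker hvb h) hT hγ
    (LinearEquiv.ext fun v => by rw [e, vb2_n hvb hN]; simp [CharTwo.neg_eq])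
    (fun a b => ⟨a⁻¹, a * b, fun x hx => ?_⟩) fun y hy h =>
      tor_Q2 (fun x hx => by rw [← hvb _ _ hx, hy]; rfl) h hq)).congr hN
  have l1 : φ (a : K) ≠ 0 := by simp
  rw [hN x hx, hN _ (hR _ x hx)]
  ext <;> simp [-mul_eq_mul_right_iff, -mul_eq_mul_left_iff] <;> field_simp

theorem q1_gen (hE : F.IsEssential 2 (Q1 K)) (hn : F.IsMor (Q1 K) n1)
    {E : FusionSystem (⊤ : Subgroup (US K))}
    (h1 : ∀ f, F.IsIso ⊤ ⊤ f → E.IsMor ⊤ f) (h2 : E.IsMor (Q1 K) n1) {f : US K → US K}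
    (hf : F.IsIso (Q1 K) (Q1 K) f) : E.IsMor (Q1 K) f := by
  obtain ⟨vb, hvb⟩ := exists_vb1 (K := K)
  obtain ⟨M, h⟩ := exists_loc isPGroup_US hF hE
  have key : ∀ γ ∈ F.autGroup (Q1 K), FixP (vb γ) → E.IsMor (Q1 K) (equivFun γ) := fun γ hγ e => by
    obtain ⟨f, hf, e1⟩ := exists_ext isPGroup_US hF hγ (vb1_norm hvb h hγ e)
    exact ((h1 f hf).mono le_top).congr e1
  obtain ⟨γ, hγ, e⟩ := hf.exists_aut
  by_cases hc : FixP (vb γ)
  · exact (key γ hγ hc).congr e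
  obtain ⟨t, u, hβ⟩ := (vb1_good hvb γ).move phi_phi hc
  obtain ⟨N, hN, eN⟩ := (hn.isIso_self fun x _ => n1_mem x).exists_aut
  have k := key (N * (conjAut (Q1 K) (mem_norm (x1 t u)⁻¹) * γ))
    (mul_mem hN (mul_mem (h.cj_A _) hγ)) fun ζ => by
      obtain ⟨ξ, hξ⟩ := hβ ζ
      simp only [map_mul, LinearEquiv.mul_apply, vb1_conj hvb, hξ, vb1_n hvb eN, US.inv_a1,
        US.inv_u1, x1_a1, x1_u1, uu_inv phi_phi]
      exact ⟨ξ, rfl⟩
  refine ((E.isMor_conj le_rfl (mem_top (x1 t u))).comp' (h2.comp' k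
    fun x hx => equivFun_mem _ hx) fun _ _ => trivial).congr fun x hx => ?_
  have hx' := equivFun_mem γ hx
  rw [equivFun_mul _ _ hx, eN _ (equivFun_mem _ hx), n1_n1 (mem_Q1.1 (equivFun_mem _ hx)).1
    (mem_Q1.1 (equivFun_mem _ hx)).2, equivFun_mul _ _ hx, equivFun_conjAut _ hx', e x hx]
  group

theorem q2_gen (hE : F.IsEssential 2 (Q2 K)) (hn : F.IsMor (Q2 K) n2)
    {E : FusionSystem (⊤ : Subgroup (US K))}
    (h1 : ∀ f, F.IsIso ⊤ ⊤ f → E.IsMor ⊤ f) (h2 : E.IsMor (Q2 K) n2) {f : US K → US K}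
    (hf : F.IsIso (Q2 K) (Q2 K) f) : E.IsMor (Q2 K) f := by
  obtain ⟨vb, hvb⟩ := exists_vb2 (K := K)
  obtain ⟨M, h⟩ := exists_loc isPGroup_US hF hE
  have key : ∀ γ ∈ F.autGroup (Q2 K), (∀ d : K, (vb γ (0, d)).1 = 0) →
      E.IsMor (Q2 K) (equivFun γ) := fun γ hγ e => by
    obtain ⟨f, hf, e1⟩ := exists_ext isPGroup_US hF hγ (vb2_norm hvb h hγ e)
    exact ((h1 f hf).mono le_top).congr e1
  obtain ⟨γ, hγ, e⟩ := hf.exists_aut
  by_cases hc : ∀ d : K, (vb γ (0, d)).1 = 0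
  · exact (key γ hγ hc).congr e
  push Not at hc
  obtain ⟨β, hβ⟩ := lin2_move (vb2_hL hvb h) (mem_map_of_mem vb hγ) hc
  obtain ⟨N, hN, eN⟩ := (hn.isIso_self fun x _ => n2_mem x).exists_aut
  have k := key (N * (conjAut (Q2 K) (mem_norm (x8 β)) * γ))
    (mul_mem hN (mul_mem (h.cj_A _) hγ)) fun d => by
      simp only [map_mul, LinearEquiv.mul_apply, vb2_conj hvb, vb2_n hvb eN]
      exact hβ d
  refine ((E.isMor_conj le_rfl (mem_top (x8 β)⁻¹)).comp' (h2.comp' k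
    fun x hx => equivFun_mem _ hx) fun _ _ => trivial).congr fun x hx => ?_
  have hx' := equivFun_mem γ hx
  rw [equivFun_mul _ _ hx, eN _ (equivFun_mem _ hx), n2_n2 (mem_Q2.1 (equivFun_mem _ hx)),
    equivFun_mul _ _ hx, equivFun_conjAut _ hx', e x hx]
  group

end Cfsg.Agent.RF
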