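import Cfsg.Agent.Lib.RF.Sub
import Cfsg.Agent.Lib.RF.Lin1

/-!
# S5262: the action of `Aut Q1` on `Q1 / WV`
-/

set_option autoImplicit false
set_option linter.unusedSectionVars false
set_option linter.unusedVariables false
set_option linter.unnecessarySeqFocus false
set_option linter.unusedSimpArgs false

namespace Cfsg.Agent.RF

open Subgroup Cfsg Cfsg.FusionSystem U5
open scoped commutatorElement

variable {K : Type*} [Field K] [TF K] {x y z t : US K}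

def pi1 (x : US K) : V4 K := (x.a8, x.a7, x.a3, x.a2)

def piV (x : US K) : V4 K := (x.u7, x.a6, x.a4, x.u3)

@[simps] def sQ (v : V4 K) : US K := ⟨0, 0, v.2.2.2, v.2.2.1, 0, 0, 0, 0, 0, v.2.1, 0, v.1⟩

@[simps] def sV (v : V4 K) : US K := ⟨0, 0, 0, 0, v.2.2.2, v.2.2.1, 0, 0, v.2.1, 0, v.1, 0⟩

theorem sQ_mem (v : V4 K) : sQ v ∈ Q1 K := ⟨rfl, rfl⟩

theorem x5_mem (s u : K) : x5 s u ∈ Q1 K := ⟨rfl, rfl⟩

theorem sV_mem (v : V4 K) : sV v ∈ VV K := ⟨rfl, rfl, rfl, rfl, rfl, rfl, rfl⟩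

theorem pi1_iff : pi1 x = pi1 y ↔ x.a8 = y.a8 ∧ x.a7 = y.a7 ∧ x.a3 = y.a3 ∧ x.a2 = y.a2 := by
  simp [pi1]

theorem piV_iff : piV x = piV y ↔ x.u7 = y.u7 ∧ x.a6 = y.a6 ∧ x.a4 = y.a4 ∧ x.u3 = y.u3 := by
  simp [piV]

theorem WV_le_Q1 : WV K ≤ Q1 K := fun x hx => ⟨hx.2.1, hx.2.2.2.1⟩

theorem Z1_le_Q1 : Z1 K ≤ Q1 K := Z1_le_VV.trans VV_le_Q1

theorem mem_VV_of_cm (hx : x ∈ Q1 K) (h : ∀ t ∈ Q1 K, x⁻¹ * (t * x * t⁻¹) ∈ Z1 K) : x ∈ VV K := by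
  obtain ⟨-, -, -, -, -, -, -, k1, k2, k3, k4⟩ := h (x5 1 0) (x5_mem _ _)
  have k5 := (h (x8 1) ⟨rfl, rfl⟩).2.2.2.2.2.2.2.1
  simp [hx.1, hx.2] at k1 k2 k3 k4 k5
  have h8 : x.a8 = 0 := by grind
  have h7 : x.a7 = 0 := by grind
  have h3 : x.a3 = 0 := by grind
  exact ⟨h8, hx.1, h7, hx.2, h3, by grind, by grind⟩

theorem inv_VV_Q1 (γ : MulAut (Q1 K)) : Inv γ (VV K) := fun x hx hV =>
  mem_VV_of_cm (equivFun_mem γ hx) fun t ht =>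
    (inv_Z1 le_rfl γ).cm hx ht (cm_VV hV (equivFun_mem _ ht))

theorem inv_WV_Q1 (γ : MulAut (Q1 K)) : Inv γ (WV K) := inv_WV VV_le_Q1 (inv_VV_Q1 γ)

theorem exists_vb1 : ∃ vb : MulAut (Q1 K) →* (V4 K ≃ₗ[ℤ] V4 K),
    ∀ γ, ∀ x ∈ Q1 K, vb γ (pi1 x) = pi1 (equivFun γ x) :=
  exists_vb pi1 (fun x hx y hy => by simp [pi1, hy.1, hy.2]) (fun v => ⟨sQ v, sQ_mem v, rfl⟩)
    fun γ x hx h => by
      obtain ⟨h1, h2, h3, h4⟩ := (pi1_iff (y := 1)).1 h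
      obtain ⟨k1, -, k2, -, k3, k4⟩ := inv_WV_Q1 γ x hx ⟨h1, hx.1, h2, hx.2, h3, h4⟩
      exact (pi1_iff (y := 1)).2 ⟨k1, k2, k3, k4⟩

theorem inv_mul_mem_VV (hx : x ∈ Q1 K) (hy : y ∈ Q1 K) (h : pi1 y = pi1 x) (h5 : y.a5 = x.a5) :
    x⁻¹ * y ∈ VV K := by
  obtain ⟨a1, a2, a3, a4⟩ := pi1_iff.1 h
  simp [mem_VV, hx.1, hx.2, hy.1, hy.2, a1, a2, a3, a4, h5, CharTwo.add_self_eq_zero]

theorem inv_mul_mem_Z1 (hx : x ∈ VV K) (hy : y ∈ VV K) (h : piV y = piV x) : x⁻¹ * y ∈ Z1 K := by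
  obtain ⟨a1, a2, a3, a4⟩ := piV_iff.1 h
  simp [mem_Z1, mem_VV.1 hx, mem_VV.1 hy, a1, a2, a3, a4, CharTwo.add_self_eq_zero]

theorem a5_mul (hy : y ∈ Q1 K) : (x * y).a5 = x.a5 + y.a5 := by simp [hy.1, hy.2]

theorem piV_mul (hx : x ∈ VV K) (hy : y ∈ VV K) : piV (x * y) = piV x + piV y := by
  simp [piV, mem_VV.1 hx, mem_VV.1 hy]

theorem piV_Z1 (hx : x ∈ Z1 K) : piV x = 0 := by simp [piV, mem_Z1.1 hx]

theorem sq_Q1 (hx : x ∈ Q1 K) : x * x ∈ VV K ∧ piV (x * x) = qq φ (pi1 x) x.a5 :=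
  ⟨by simp [mem_VV, hx.1, hx.2, CharTwo.add_self_eq_zero], by
    ext <;> simp [piV, qq, pi1, hx.1, hx.2] <;> grind⟩

theorem Z1_le_Fr1 : Z1 K ≤ Fr (Q1 K) := fun z hz => by
  obtain ⟨r, hr⟩ := exists_mul_phi z.u5
  rw [show z = x5 r 0 * x5 r 0 by ext <;> simp [mem_Z1.1 hz, hr, CharTwo.add_self_eq_zero]]
  exact sq_mem_Fr isPGroup_US (x5_mem _ _)

theorem ce_sQ (v : V4 K) : ⁅sQ v, x5 1 0⁆ ∈ VV K ∧ piV ⁅sQ v, x5 1 0⁆ = v :=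
  ⟨by simp [mem_VV, commutatorElement_def]; grind, by
    ext <;> simp [piV, commutatorElement_def] <;> grind⟩

theorem VV_le_Fr1 : VV K ≤ Fr (Q1 K) := fun z hz => by
  obtain ⟨h1, h2⟩ := ce_sQ (piV z)
  rw [← mul_inv_cancel_left ⁅sQ (piV z), x5 1 0⁆ z]
  exact mul_mem (ce_mem_Fr isPGroup_US (sQ_mem _) (x5_mem _ _))
    (Z1_le_Fr1 (inv_mul_mem_Z1 h1 hz h2.symm))

theorem good_one {μ : V4 K → K} {J : K → K} {R : V4 K → V4 K}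
    (h1 : ∀ v w, μ (v + w) = μ v + μ w) (h2 : ∀ s t, J (s + t) = J s + J t)
    (h3 : ∀ v w, R (v + w) = R v + R w) (h5 : ∀ v g, qq φ v (μ v + J g) = R (qq φ v g))
    (v : V4 K) (g : K) : μ v + J g = g := by
  have m0 : μ 0 = 0 := by have := h1 0 0; simpa using this
  have j0 : J 0 = 0 := by have := h2 0 0; simpa using this
  have hs : ∀ (s : K) v, R (s • v) = J s • v := fun s v => by
    have : cc φ 0 (μ 0 + J s) v (μ v + J 0) = R (cc φ 0 s v 0) := by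
      rw [cc, cc, h3, h3, ← h5, ← h5, ← h5, h1, h2, add_add_add_comm]
    rw [cc_zero, cc_zero, m0, zero_add] at this
    exact this.symm
  have hR : ∀ v, R v = J 1 • v := fun v => by rw [← hs, one_smul]
  have j1 : J 1 = 1 := by
    have := congrArg Prod.fst (h5 (0, 1, 0, 0) 0)
    rw [hR] at this
    simpa [qq] using this.symm
  have hJ : ∀ s, J s = s := fun s => by
    have := congrArg Prod.fst (hs s (1, 0, 0, 0))
    rw [hR, j1] at this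
    simpa using this.symm
  have := h5 v g
  rw [hR, j1, one_smul, hJ] at this
  rw [hJ, add_eq_right]
  by_contra hm
  obtain ⟨a, d, e, f⟩ := v
  simp only [qq, Prod.ext_iff] at this
  refine hm ?_
  rw [show a = 0 by grind, show d = 0 by grind, show e = 0 by grind, show f = 0 by grind]
  exact m0

theorem pi1_conj (t : US K) (hx : x ∈ Q1 K) : pi1 (t * x * t⁻¹) = uu φ t.a1 t.u1 (pi1 x) := by
  ext <;> simp [pi1, uu, hx.1, hx.2] <;> grind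

section
variable {vb : MulAut (Q1 K) →* (V4 K ≃ₗ[ℤ] V4 K)}
  (hvb : ∀ γ, ∀ x ∈ Q1 K, vb γ (pi1 x) = pi1 (equivFun γ x))
include hvb

theorem vb1_ext {γ : MulAut (Q1 K)} {f : V4 K → V4 K}
    (h : ∀ x ∈ Q1 K, pi1 (equivFun γ x) = f (pi1 x)) (v : V4 K) : vb γ v = f v :=
  (hvb γ (sQ v) (sQ_mem v)).trans (h _ (sQ_mem v))

theorem vb1_conj (t : US K) (v : V4 K) :
    vb (conjAut (Q1 K) (mem_norm t)) v = uu φ t.a1 t.u1 v :=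
  vb1_ext hvb (fun x hx => by rw [equivFun_conjAut _ hx, pi1_conj t hx]) v

theorem vb1_data (γ : MulAut (Q1 K)) : ∃ (μ : V4 K → K) (J : K → K) (R : V4 K → V4 K),
    (∀ v w, μ (v + w) = μ v + μ w) ∧ (∀ s t, J (s + t) = J s + J t) ∧
    (∀ v w, R (v + w) = R v + R w) ∧ (∀ v, R v = 0 → v = 0) ∧
    (∀ v g, qq φ (vb γ v) (μ v + J g) = R (qq φ v g)) ∧
    ∀ x ∈ Q1 K, (equivFun γ x).a5 = μ (pi1 x) + J x.a5 := by
  have c5 : ∀ x ∈ Q1 K, ∀ y ∈ Q1 K, pi1 y = pi1 x → y.a5 = x.a5 →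
      (equivFun γ y).a5 = (equivFun γ x).a5 := fun x hx y hy e e' => by
    have h := inv_mul_mem_VV hx hy e e'
    rw [← mul_inv_cancel_left x y, ef_mul _ hx (VV_le_Q1 h), a5_mul (equivFun_mem _ (VV_le_Q1 h)),
      (inv_VV_Q1 γ _ (VV_le_Q1 h) h).2.2.2.2.2.1, add_zero]
  have m5 : ∀ x ∈ Q1 K, ∀ y ∈ Q1 K, (equivFun γ (x * y)).a5 =
      (equivFun γ x).a5 + (equivFun γ y).a5 := fun x hx y hy => by
    rw [ef_mul _ hx hy, a5_mul (equivFun_mem _ hy)]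
  have iV : ∀ x ∈ VV K, equivFun γ x ∈ VV K := fun x hx => inv_VV_Q1 γ x (VV_le_Q1 hx) hx
  have cV : ∀ x ∈ VV K, piV (equivFun γ (sV (piV x))) = piV (equivFun γ x) := fun x hx => by
    have h := inv_mul_mem_Z1 hx (sV_mem (piV x)) rfl
    have h' := inv_Z1 le_rfl γ _ (Z1_le_Q1 h) h
    rw [← mul_inv_cancel_left x (sV _), ef_mul _ (VV_le_Q1 hx) (Z1_le_Q1 h),
      piV_mul (iV x hx) (Z1_le_VV h'), piV_Z1 h', add_zero]
  have e5 : ∀ x ∈ Q1 K, (equivFun γ x).a5 = (equivFun γ (sQ (pi1 x))).a5 +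
      (equivFun γ (x5 x.a5 0)).a5 := fun x hx => by
    rw [← m5 _ (sQ_mem _) _ (x5_mem _ _)]
    exact c5 _ (mul_mem (sQ_mem _) (x5_mem _ _)) _ hx (by simp [pi1]) (by simp)
  refine ⟨fun v => (equivFun γ (sQ v)).a5, fun g => (equivFun γ (x5 g 0)).a5,
    fun v => piV (equivFun γ (sV v)), fun v w => ?_, fun s t => ?_, fun v w => ?_, fun v h => ?_,
    fun v g => ?_, e5⟩
  · rw [← m5 _ (sQ_mem _) _ (sQ_mem _)]
    exact c5 _ (mul_mem (sQ_mem _) (sQ_mem _)) _ (sQ_mem _) (by simp [pi1]) (by simp)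
  · rw [← m5 _ (x5_mem _ _) _ (x5_mem _ _)]
    exact c5 _ (mul_mem (x5_mem _ _) (x5_mem _ _)) _ (x5_mem _ _) (by simp [pi1]) (by simp)
  · rw [← piV_mul (iV _ (sV_mem _)) (iV _ (sV_mem _)),
      ← ef_mul _ (VV_le_Q1 (sV_mem _)) (VV_le_Q1 (sV_mem _)),
      ← show sV (v + w) = sV v * sV w by ext <;> simp]
  · have h1 := inv_mul_mem_Z1 (one_mem _) (iV _ (sV_mem v)) h
    rw [inv_one, one_mul] at h1
    have h2 := inv_Z1 le_rfl γ⁻¹ _ (Z1_le_Q1 h1) h1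
    rw [equivFun_inv_apply _ (VV_le_Q1 (sV_mem v))] at h2
    obtain ⟨-, -, -, -, -, -, -, k1, k2, k3, k4⟩ := h2
    exact Prod.ext k1 (Prod.ext k2 (Prod.ext k3 k4))
  · have hx := mul_mem (sQ_mem v) (x5_mem g 0)
    have e1 : pi1 (sQ v * x5 g 0) = v := by simp [pi1]
    have e2 : (sQ v * x5 g 0).a5 = g := by simp
    have := cV _ (sq_Q1 hx).1
    rw [(sq_Q1 hx).2, ef_mul _ hx hx, (sq_Q1 (equivFun_mem γ hx)).2, ← hvb _ _ hx, e5 _ hx, e1,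
      e2] at this
    exact this.symm

theorem vb1_good (γ : MulAut (Q1 K)) : Good φ (vb γ) :=
  let ⟨μ, J, R, h1, h2, h3, h4, h5, _⟩ := vb1_data hvb γ
  ⟨μ, J, R, h1, h2, h3, h4, h5⟩

theorem vb1_triv {γ : MulAut (Q1 K)} (e : vb γ = 1) (hx : x ∈ Q1 K) :
    x⁻¹ * equivFun γ x ∈ VV K := by
  obtain ⟨μ, J, R, h1, h2, h3, -, h5, h6⟩ := vb1_data hvb γ
  rw [e] at h5
  exact inv_mul_mem_VV hx (equivFun_mem _ hx) (by rw [← hvb _ _ hx, e]; rfl)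
    ((h6 x hx).trans (good_one h1 h2 h3 h5 _ _))

theorem vb1_ker_le : vb.ker ≤ frStab (Q1 K) := fun γ h =>
  mem_frStab.2 fun x hx => VV_le_Fr1 (vb1_triv hvb h hx)

theorem vb1_inn : Inn (Q1 K) ≤ vb.ker := fun i hi => by
  obtain ⟨t, ht, e⟩ := mem_inn_iff.1 hi
  refine LinearEquiv.ext (vb1_ext hvb (f := id) fun x hx => ?_)
  rw [equivFun_of_mem _ hx, e, pi1_conj t hx, ht.1, ht.2, uu_zero]; rfl

theorem vb1_hΓ : ∀ γ ∈ vb.range, Good φ γ := by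
  rintro _ ⟨γ, rfl⟩
  exact vb1_good hvb γ

theorem vb1_hU (t u : K) : ∃ γ ∈ vb.range, ∀ v, γ v = uu φ t u v :=
  ⟨_, ⟨_, rfl⟩, vb1_conj hvb (x1 t u)⟩

variable {M A : Subgroup (MulAut (Q1 K))} (h : Loc 2 (Q1 K) M A)
include h

theorem vb1_ker {γ : MulAut (Q1 K)} (hγ : γ ∈ A) (e : vb γ = 1) : γ ∈ Inn (Q1 K) :=
  inn_of_fr h hγ (mem_frStab.1 (vb1_ker_le hvb e))

theorem vb1_ker' {γ : MulAut (Q1 K)} (hγ : γ ∈ A) (e : vb γ = 1) :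
    ∃ t ∈ Q1 K, ∀ x ∈ Q1 K, equivFun γ x = t * x * t⁻¹ :=
  let ⟨t, ht, e⟩ := mem_inn_iff.1 (vb1_ker hvb h hγ e)
  ⟨t, ht, fun x hx => by rw [equivFun_of_mem _ hx]; exact e ⟨x, hx⟩⟩

theorem vb1_norm {γ : MulAut (Q1 K)} (hγ : γ ∈ A) (e : FixP (vb γ)) (t : US K) :
    ∃ s : US K, ∀ x ∈ Q1 K, equivFun γ (t * x * t⁻¹) = s * equivFun γ x * s⁻¹ := by
  obtain ⟨a, b, hβ⟩ := lin1_norm phi_phi (vb1_hΓ hvb) (vb1_hU hvb) ⟨γ, rfl⟩ e t.a1 t.u1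
  obtain ⟨r, -, hr⟩ := vb1_ker' hvb h (γ := (conjAut (Q1 K) (mem_norm (x1 a b)))⁻¹ *
    (γ * conjAut (Q1 K) (mem_norm t) * γ⁻¹))
    (A.mul_mem (A.inv_mem (h.cj_A _)) (A.mul_mem (A.mul_mem hγ (h.cj_A _)) (A.inv_mem hγ)))
    (by
      rw [map_mul, map_inv, inv_mul_eq_one, map_mul, map_inv, eq_mul_inv_iff_mul_eq, map_mul]
      exact LinearEquiv.ext fun v => by
        simp only [LinearEquiv.mul_apply, vb1_conj hvb, hβ]; rfl)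
  refine ⟨x1 a b * r, fun x hx => ?_⟩
  have hx' := equivFun_mem γ hx
  have := congrArg (equivFun (conjAut (Q1 K) (mem_norm (x1 a b)))) (hr _ hx')
  rw [← equivFun_mul _ _ hx', mul_inv_cancel_left, ef_conj _ _ hx', equivFun_inv_apply _ hx,
    equivFun_conjAut _ (Normal.conj_mem inferInstance _ hx' r)] at this
  rw [this]; group

theorem vb1_hUX (t u : K) : ∃ γ ∈ A.map vb, ∀ v, γ v = uu φ t u v :=
  ⟨_, mem_map_of_mem vb (h.cj_A (mem_norm (x1 t u))), vb1_conj hvb _⟩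

theorem vb1_hex : ∃ γ ∈ A.map vb, ¬ FixP γ := by
  obtain ⟨g, hg, hb⟩ := h.data.exists_not_mem
  refine ⟨_, mem_map_of_mem vb hg, fun e => hb ?_⟩
  obtain ⟨s, hs⟩ := vb1_norm hvb h hg e (x1 1 0)
  refine h.se (x1 1 0) (mem_norm _) (fun h => one_ne_zero h.1) g hg (h.data.le_M ?_)
  exact mem_autInducedBy_iff'.2 ⟨s, trivial, mem_norm s, fun x hx => by
    rw [ef_conj _ _ hx, hs _ (equivFun_mem _ hx), equivFun_apply_inv _ hx]⟩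

end

end Cfsg.Agent.RF
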