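import Cfsg.Agent.Lib.RF.PartA

/-!
# S5262: the action of `Aut Q2` on `Q2 / XX`
-/

set_option autoImplicit false
set_option linter.unusedSectionVars false
set_option linter.unusedVariables false
set_option linter.unnecessarySeqFocus false
set_option linter.unusedSimpArgs false

namespace Cfsg.Agent.RF

open Subgroup Cfsg Cfsg.FusionSystem U5
open scoped commutatorElement

variable {K : Type*} [Field K] [TF K] {x y z t : US K}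

def pi2 (x : US K) : K × K := (x.a1, x.a7)

@[simps] def sP (v : K × K) : US K := ⟨v.1, 0, 0, 0, 0, 0, 0, 0, 0, v.2, 0, 0⟩

@[simps] def sZ (v : K × K) : US K := ⟨0, 0, 0, 0, v.1, 0, 0, v.2, 0, 0, 0, 0⟩

theorem sP_mem (v : K × K) : sP v ∈ Q2 K := rfl

theorem x4_mem (s : K) : x4 s ∈ Z3 K := by simp [mem_Z3]

theorem Z3_le_Q2 : Z3 K ≤ Q2 K := fun x hx => hx.1

theorem Z2_le_Q2 : Z2 K ≤ Q2 K := fun x hx => hx.1

theorem inv_Z3_Q2 (γ : MulAut (Q2 K)) : Inv γ (Z3 K) := fun x hx hZ => by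
  have h : ∀ t ∈ Q2 K, (equivFun γ x)⁻¹ * (t * equivFun γ x * t⁻¹) ∈ Z2 K := fun t ht =>
    (inv_Z2_Q2 γ).cm hx ht (cm_Z3 hZ _)
  have h8 := mem_Q2.1 (equivFun_mem γ hx)
  generalize equivFun γ x = w at h h8
  obtain ⟨-, -, -, k1, k2, k3, k4, -, k5, -⟩ := h (x1 1 0) rfl
  obtain ⟨-, -, -, -, k6, k7, k8, -, k9, -⟩ := h (x7 1 0) rfl
  simp [h8] at k1 k2 k3 k4 k5 k6 k7 k8 k9
  have h1 : w.a1 = 0 := by grind
  have h7 : w.a7 = 0 := by grind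
  have hu : w.u1 = 0 := by grind
  have h3 : w.a3 = 0 := by grind
  have h5 : w.a5 = 0 := by grind
  have h9 : w.u7 = 0 := by grind
  have k10 := (h (x1 1 0) rfl).2.2.2.2.2.2.2.2.2
  have k11 := (h (x7 1 0) rfl).2.2.2.2.2.2.2.2.2
  simp [h8, h1, h7, hu, h3, h5, h9] at k10 k11
  exact ⟨h8, h1, h7, hu, h3, h5, by grind, h9, by grind⟩

theorem inv_XX_Q2 (γ : MulAut (Q2 K)) : Inv γ (XX K) := inv_XX Z3_le_Q2 (inv_Z3_Q2 γ)

theorem exists_vb2 : ∃ vb : MulAut (Q2 K) →* ((K × K) ≃ₗ[ℤ] (K × K)),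
    ∀ γ, ∀ x ∈ Q2 K, vb γ (pi2 x) = pi2 (equivFun γ x) :=
  exists_vb pi2 (fun x hx y hy => by simp [pi2, mem_Q2.1 hx]) (fun v => ⟨sP v, rfl, rfl⟩)
    fun γ x hx h => by
      have := inv_XX_Q2 γ x hx ⟨hx, congrArg Prod.fst h, congrArg Prod.snd h⟩
      exact Prod.ext this.2.1 this.2.2

theorem inv_mul_mem_XX (hx : x ∈ Q2 K) (hy : y ∈ Q2 K) (h : pi2 y = pi2 x) : x⁻¹ * y ∈ XX K := by
  obtain ⟨a1, a2⟩ := Prod.ext_iff.1 h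
  simp only [pi2] at a1 a2
  simp [mem_XX, mem_Q2.1 hx, mem_Q2.1 hy, a1, a2, CharTwo.add_self_eq_zero]

theorem ce_Z3 (hx : x ∈ Q2 K) (hz : z ∈ Z3 K) : ⁅x, z⁆ = sZ (z.a4 • pi2 x) := by
  ext <;> simp [commutatorElement_def, pi2, mem_Q2.1 hx, mem_Z3.1 hz] <;> grind

theorem mem_of_mod {W : Type*} [Group W] {N U : Subgroup W} {w z : W} (h : N ≤ U) (hw : w ∈ U)
    (hz : w⁻¹ * z ∈ N) : z ∈ U := by simpa using mul_mem hw (h hz)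

theorem isPGroup_of_fr {W : Type*} [Group W] [Finite W] (hW : IsPGroup 2 W) {R Y : Subgroup W}
    {C : Subgroup (MulAut R)} (hY : Y ≤ R) (h1 : ∀ γ ∈ C, ∀ x ∈ R, x⁻¹ * equivFun γ x ∈ Y)
    (h2 : ∀ γ ∈ C, ∀ x ∈ Y, x⁻¹ * equivFun γ x ∈ Fr R) : IsPGroup 2 C := by
  rw [H1.isPGroup_iff_forall_mem]
  intro γ hγ
  obtain ⟨k, hk⟩ := H1.isPGroup_iff_forall_mem.1 (isPGroup_frStab (R := R) hW) (γ * γ)
    (mem_frStab.2 fun x hx => by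
      have h3 := mul_mem (sq_mem_Fr hW (hY (h1 γ hγ x hx))) (h2 γ hγ _ (h1 γ hγ x hx))
      rw [ef_mul _ (inv_mem hx) (equivFun_mem _ hx), ef_inv _ hx] at h3
      rw [equivFun_mul _ _ hx]
      convert h3 using 1
      group)
  exact ⟨k + 1, by rw [pow_succ', pow_mul, pow_two, hk]⟩

theorem Z5_le_Fr2 : Z5 K ≤ Fr (Q2 K) := by
  have h1 : Z1 K ≤ Fr (Q2 K) := fun z hz => by
    obtain ⟨r, hr⟩ := exists_mul_phi z.u5
    rw [show z = x5 r 0 * x5 r 0 by ext <;> simp [mem_Z1.1 hz, hr, CharTwo.add_self_eq_zero]]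
    exact sq_mem_Fr isPGroup_US rfl
  have h2 : Z2 K ≤ Fr (Q2 K) := fun z hz => by
    obtain ⟨r, hr⟩ := exists_mul_phi z.u3
    exact mem_of_mod h1 (sq_mem_Fr (x := x3 r 0) isPGroup_US rfl)
      (by simp [mem_Z1, mem_Z2.1 hz, hr, CharTwo.add_self_eq_zero])
  have h3 : Z3 K ≤ Fr (Q2 K) := fun z hz =>
    mem_of_mod h2 (cm_mem_Fr (x := x3 1 0) (y := x5 z.a4 0) isPGroup_US rfl rfl)
      (by simp [mem_Z2, mem_Z3.1 hz, CharTwo.add_self_eq_zero])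
  have h4 : Z4 K ≤ Fr (Q2 K) := fun z hz =>
    mem_of_mod h3 (cm_mem_Fr (x := x7 1 0) (y := x5 z.a6 0) isPGroup_US rfl rfl)
      (by simp [mem_Z3, mem_Z4.1 hz, CharTwo.add_self_eq_zero])
  have h5 : VV K ≤ Fr (Q2 K) := fun z hz => by
    obtain ⟨r, hr⟩ := exists_mul_phi z.u7
    exact mem_of_mod h4 (sq_mem_Fr (x := x7 r 0) isPGroup_US rfl)
      (by simp [mem_Z4, mem_VV.1 hz, hr, CharTwo.add_self_eq_zero])
  exact fun z hz =>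
    mem_of_mod h5 (cm_mem_Fr (x := x1 1 0) (y := x3 z.a2 0) isPGroup_US rfl rfl)
      (by simp [mem_VV, mem_Z5.1 hz, CharTwo.add_self_eq_zero])

theorem mem_Fr2 (hz : z ∈ XX K) {a b c d e f : K} (h3 : z.a3 = a * φ b + c * φ d + e * φ f)
    (h5 : z.a5 = b * φ a + d * φ c + f * φ e) : z ∈ Fr (Q2 K) := by
  have k : ∀ z ∈ XX K, z.a3 = 0 → z.a5 = 0 → z ∈ Fr (Q2 K) := fun z hz h3 h5 => by
    obtain ⟨r, hr⟩ := exists_mul_phi z.u1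
    exact mem_of_mod Z5_le_Fr2 (sq_mem_Fr (x := x1 r 0) isPGroup_US rfl)
      (by simp [mem_Z5, mem_XX.1 hz, hr, h3, h5, CharTwo.add_self_eq_zero])
  have k' : ∀ z ∈ XX K, ∀ a b : K, ∃ w ∈ XX K, w.a3 = z.a3 + a * φ b ∧ w.a5 = z.a5 + b * φ a ∧
      (w ∈ Fr (Q2 K) → z ∈ Fr (Q2 K)) := fun z hz a b =>
    ⟨(x1 b 0)⁻¹ * (x7 a 0 * x1 b 0 * (x7 a 0)⁻¹) * z, mul_mem (cm_Q2 rfl rfl) hz,
      by simp [mem_XX.1 hz]; grind, by simp [mem_XX.1 hz]; grind,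
      fun h => by
        have := cm_mem_Fr (R := Q2 K) (x := x1 b 0) (y := x7 a 0) isPGroup_US rfl rfl
        generalize (x1 b 0)⁻¹ * (x7 a 0 * x1 b 0 * (x7 a 0)⁻¹) = w at h this
        exact (mul_mem_cancel_left this).1 h⟩
  obtain ⟨w1, m1, a1, b1, c1⟩ := k' z hz a b
  obtain ⟨w2, m2, a2, b2, c2⟩ := k' w1 m1 c d
  obtain ⟨w3, m3, a3, b3, c3⟩ := k' w2 m2 e f
  exact c1 (c2 (c3 (k _ m3 (by grind) (by grind))))

theorem XX_le_Fr2 {l : K} (h0 : l ≠ 0) (h1 : l ≠ 1) : XX K ≤ Fr (Q2 K) := fun z hz => by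
  obtain ⟨t, ht⟩ := exists_phi z.a5
  have h2 : 1 + l ≠ 0 := fun e => h1 (by grind)
  have h3 : φ l ≠ 0 := by simpa using h0
  obtain ⟨s, hs⟩ : ∃ s, z.a3 = t + s + l * s * (l ^ 2)⁻¹ :=
    ⟨(z.a3 + t) * l / (1 + l), by field_simp; grind⟩
  exact mem_Fr2 hz (a := t) (b := 1) (c := s) (d := 1) (e := l * s) (f := (φ l)⁻¹)
    (by simpa using hs) (by rw [map_mul, inv_mul_cancel_left₀ h3]; grind)

theorem fr2_XX (γ : MulAut (Q2 K)) (hx : x ∈ XX K) : x⁻¹ * equivFun γ x ∈ Fr (Q2 K) := by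
  have hQ := XX_le_Q2 hx
  have hy := inv_XX_Q2 γ x hQ hx
  by_cases h : ∀ l : K, l = 0 ∨ l = 1; swap
  · push Not at h
    obtain ⟨l, h0, h1⟩ := h
    exact XX_le_Fr2 h0 h1 (mul_mem (inv_mem hx) hy)
  have k : ∀ z ∈ XX K, z.a3 = z.a5 → z ∈ Fr (Q2 K) := fun z hz e =>
    mem_Fr2 hz (a := z.a3) (b := 1) (c := 0) (d := 0) (e := 0) (f := 0) (by simp)
      (by rw [← e]; rcases h z.a3 with e | e <;> simp [e])
  by_cases h1 : x.a3 = x.a5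
  · exact mul_mem (inv_mem (k x hx h1)) (inv_Fr γ x hQ (k x hx h1))
  by_cases h2 : (equivFun γ x).a3 = (equivFun γ x).a5
  · have := inv_Fr γ⁻¹ _ (equivFun_mem γ hQ) (k _ hy h2)
    rw [equivFun_inv_apply _ hQ] at this
    exact mul_mem (inv_mem this) (k _ hy h2)
  refine k _ (mul_mem (inv_mem hx) hy) ?_
  generalize equivFun γ x = y at hy h2
  simp [mem_XX.1 hx, mem_XX.1 hy]
  rcases h x.a3 with a | a <;> rcases h x.a5 with b | b <;> rcases h y.a3 with c | c <;>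
    rcases h y.a5 with d | d <;> simp_all [CharTwo.add_self_eq_zero]

section
variable {vb : MulAut (Q2 K) →* ((K × K) ≃ₗ[ℤ] (K × K))}
  (hvb : ∀ γ, ∀ x ∈ Q2 K, vb γ (pi2 x) = pi2 (equivFun γ x))
include hvb

theorem vb2_ext {γ : MulAut (Q2 K)} {f : K × K → K × K}
    (h : ∀ x ∈ Q2 K, pi2 (equivFun γ x) = f (pi2 x)) (v : K × K) : vb γ v = f v :=
  (hvb γ (sP v) rfl).trans (h _ rfl)

theorem vb2_conj (t : US K) (v : K × K) : vb (conjAut (Q2 K) (mem_norm t)) v = tt t.a8 v :=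
  vb2_ext hvb (fun x hx => by
    rw [equivFun_conjAut _ hx]; ext <;> simp [pi2, tt, mem_Q2.1 hx] <;> grind) v

theorem vb2_sZ (γ : MulAut (Q2 K)) (s : K) (v : K × K) :
    equivFun γ (sZ (s • v)) = sZ ((equivFun γ (x4 s)).a4 • vb γ v) := by
  have h4 := Z3_le_Q2 (x4_mem s)
  rw [show sZ (s • v) = ⁅sP v, x4 s⁆ from (ce_Z3 (sP_mem v) (x4_mem s)).symm, ef_ce _ (sP_mem v) h4,
    ce_Z3 (equivFun_mem _ (sP_mem v)) (inv_Z3_Q2 γ _ h4 (x4_mem s)), ← hvb _ _ (sP_mem v)]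
  rfl

theorem vb2_line (γ : MulAut (Q2 K)) (d d' : K) :
    (vb γ (0, d)).1 * (vb γ (0, d')).2 = (vb γ (0, d)).2 * (vb γ (0, d')).1 := by
  have h4 : ∀ s : K, equivFun γ (x4 s) ∈ Z3 K := fun s =>
    inv_Z3_Q2 γ _ (Z3_le_Q2 (x4_mem s)) (x4_mem s)
  obtain ⟨τ, hτ⟩ := semilin (P := vb γ) (J := fun s => (equivFun γ (x4 s)).a4)
    (R := fun v => ((equivFun γ (sZ v)).u3, (equivFun γ (sZ v)).u5)) (fun s t => by
      rw [show x4 (s + t) = x4 s * x4 t by ext <;> simp, ef_mul _ (R := Q2 K) rfl rfl]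
      simp [mem_Z3.1 (h4 s), mem_Z3.1 (h4 t)]) (fun e => by
      obtain ⟨a1, a2, a3, a4, a5, a6, a7, a8, a9⟩ := h4 1
      have := inv_Z2_Q2 γ⁻¹ _ a1 ⟨a1, a2, a3, a4, a5, a6, a7, a8, a9, e⟩
      rw [equivFun_inv_apply _ (Z3_le_Q2 (x4_mem 1))] at this
      exact one_ne_zero this.2.2.2.2.2.2.2.2.2) (v₀ := (1, 0)) (by simp)
    fun s v => by rw [vb2_sZ hvb]; rfl
  rw [show ((0 : K), d) = d • (0, 1) by simp, show ((0 : K), d') = d' • (0, 1) by simp, hτ, hτ]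
  simp; ring

theorem vb2_triv {γ : MulAut (Q2 K)} (e : vb γ = 1) (hx : x ∈ Q2 K) :
    x⁻¹ * equivFun γ x ∈ XX K :=
  inv_mul_mem_XX hx (equivFun_mem _ hx) (by rw [← hvb _ _ hx, e]; rfl)

theorem vb2_pg : IsPGroup 2 vb.ker :=
  isPGroup_of_fr isPGroup_US XX_le_Q2 (fun γ hγ x hx => vb2_triv hvb hγ hx) fun γ _ x => fr2_XX γ

theorem vb2_inn : Inn (Q2 K) ≤ vb.ker := fun i hi => by
  obtain ⟨t, ht, e⟩ := mem_inn_iff.1 hi
  refine LinearEquiv.ext (vb2_ext hvb (f := id) fun x hx => ?_)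
  rw [equivFun_of_mem _ hx, e]; ext <;> simp [pi2, mem_Q2.1 ht, mem_Q2.1 hx] <;> grind

variable {M A : Subgroup (MulAut (Q2 K))} (h : Loc 2 (Q2 K) M A)
include h

theorem vb2_ker {γ : MulAut (Q2 K)} (hγ : γ ∈ A) (e : vb γ = 1) : γ ∈ Inn (Q2 K) :=
  h.data.le_of_normalIn (N := vb.ker ⊓ A)
    ⟨inf_le_right, fun a ha b hb => ⟨Normal.conj_mem inferInstance _ hb.1 a,
      A.mul_mem (A.mul_mem ha hb.2) (A.inv_mem ha)⟩⟩ (vb2_pg hvb).to_inf_left ⟨e, hγ⟩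

theorem vb2_ker' {γ : MulAut (Q2 K)} (hγ : γ ∈ A) (e : vb γ = 1) :
    ∃ t ∈ Q2 K, ∀ x ∈ Q2 K, equivFun γ x = t * x * t⁻¹ :=
  let ⟨t, ht, e⟩ := mem_inn_iff.1 (vb2_ker hvb h hγ e)
  ⟨t, ht, fun x hx => by rw [equivFun_of_mem _ hx]; exact e ⟨x, hx⟩⟩

theorem vb2_hL : ∀ γ ∈ A.map vb, ∀ d d' : K,
    (γ (0, d)).1 * (γ (0, d')).2 = (γ (0, d)).2 * (γ (0, d')).1 := by
  rintro _ ⟨γ, -, rfl⟩
  exact vb2_line hvb γ

theorem vb2_hT (β : K) : ∃ γ ∈ A.map vb, ∀ v, γ v = tt β v :=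
  ⟨_, mem_map_of_mem vb (h.cj_A (mem_norm (x8 β))), vb2_conj hvb _⟩

theorem vb2_hex : ∃ γ ∈ A.map vb, ∃ d : K, (γ (0, d)).1 ≠ 0 := by
  obtain ⟨g, hg, hb⟩ := h.data.exists_not_mem
  refine ⟨_, mem_map_of_mem vb hg, 1, fun hc => hb ?_⟩
  refine mem_of_inv h hg (fun z _ hz => ?_) (inv_Z2_Q2 g)
  rw [show z = sZ (z.u5 • (0, 1)) by ext <;> simp [mem_Z1.1 hz], vb2_sZ hvb]
  simp [mem_Z1, hc]

theorem vb2_norm {γ : MulAut (Q2 K)} (hγ : γ ∈ A) (e : ∀ d : K, (vb γ (0, d)).1 = 0) (t : US K) :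
    ∃ s : US K, ∀ x ∈ Q2 K, equivFun γ (t * x * t⁻¹) = s * equivFun γ x * s⁻¹ := by
  obtain ⟨β, hβ⟩ := lin2_fix (vb2_hL hvb h) (vb2_hT hvb h) (vb2_hex hvb h)
    (mem_map_of_mem vb hγ) e t.a8
  obtain ⟨r, -, hr⟩ := vb2_ker' hvb h (γ := conjAut (Q2 K) (mem_norm (x8 β)⁻¹) *
    (γ * conjAut (Q2 K) (mem_norm t) * γ⁻¹))
    (A.mul_mem (h.cj_A _) (A.mul_mem (A.mul_mem hγ (h.cj_A _)) (A.inv_mem hγ)))
    (LinearEquiv.ext fun v => by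
      simp only [map_mul, map_inv, LinearEquiv.mul_apply, vb2_conj hvb, hβ]
      simp [tt, add_assoc, CharTwo.add_self_eq_zero])
  refine ⟨x8 β * r, fun x hx => ?_⟩
  have hx' := equivFun_mem γ hx
  have := hr _ hx'
  rw [equivFun_mul _ _ hx', equivFun_conjAut _ (equivFun_mem _ hx'), ef_conj _ _ hx',
    equivFun_inv_apply _ hx] at this
  calc _ = x8 β * ((x8 β)⁻¹ * equivFun γ (t * x * t⁻¹) * (x8 β)⁻¹⁻¹) * (x8 β)⁻¹ := by group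
    _ = _ := by rw [this]; group

end

end Cfsg.Agent.RF
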