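import Cfsg.Agent.Lib.RF.Cert

/-!
# S5262: the Sylow `2`-subgroup of `²F₄(q)` in coordinates

`⟨a1, u1, a2, …, a8⟩` is `X₁(a1, u1) X₂(a2) X₃(a3, u3) X₄(a4) X₅(a5, u5) X₆(a6) X₇(a7, u7) X₈(a8)`.
-/

set_option autoImplicit false
set_option linter.unusedSectionVars false
set_option linter.unusedVariables false
set_option maxRecDepth 8000

namespace Cfsg.Agent.RF

open Cfsg.Agent.LT Mat Cfsg.Lie Subgroup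

/-- A field with `2 ^ (2 m + 1)` elements and its Tits endomorphism. -/
class TF (K : Type*) [Field K] where
  φ : K →+* K
  fin : Finite K
  ex : ∃ m : ℕ, Nat.card K = 2 ^ (2 * m + 1) ∧ ∀ t, φ t = t ^ 2 ^ (m + 1)

export TF (φ)

variable {K : Type*} [Field K] [hK : TF K]

instance : Finite K := hK.fin

instance : CharP K 2 := by
  obtain ⟨m, h, -⟩ := hK.ex
  letI := Fintype.ofFinite K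
  obtain ⟨l, hl⟩ := CharP.exists K
  obtain ⟨n, h1, h2⟩ := FiniteField.card K l
  rw [Nat.card_eq_fintype_card] at h
  obtain rfl : l = 2 := (Nat.prime_dvd_prime_iff_eq h1 Nat.prime_two).1 (h1.dvd_of_dvd_pow
    (h ▸ h2 ▸ dvd_pow_self l n.ne_zero : l ∣ 2 ^ (2 * m + 1)))
  exact hl

@[simp] theorem phi_phi (t : K) : φ (φ t) = t ^ 2 := by
  obtain ⟨m, h, h'⟩ := hK.ex
  letI := Fintype.ofFinite K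
  rw [Nat.card_eq_fintype_card] at h
  rw [h', h', ← pow_mul, ← pow_add, show m + 1 + (m + 1) = 2 * m + 1 + 1 by ring, pow_succ, pow_mul,
    ← h, FiniteField.pow_card]

@[simp] theorem phi_map (σ : K ≃+* K) (t : K) : φ (σ t) = σ (φ t) := by
  obtain ⟨m, -, h⟩ := hK.ex
  rw [h, h, map_pow]

@[ext] structure US (K : Type*) [Field K] [TF K] where
  a1 : K
  u1 : K
  a2 : K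
  a3 : K
  u3 : K
  a4 : K
  a5 : K
  u5 : K
  a6 : K
  a7 : K
  u7 : K
  a8 : K

namespace US

instance : One (US K) := ⟨⟨0, 0, 0, 0, 0, 0, 0, 0, 0, 0, 0, 0⟩⟩

instance : Mul (US K) := ⟨fun x y => ⟨
    x.a1 + y.a1,
    x.u1 + y.u1 + x.a1 * φ y.a1,
    x.a2 + y.a2 + x.a3 * y.a1 + x.a7 * y.u1 + x.a8 * φ y.u1 + x.a7 * y.a1 * φ y.a1 + x.a8 * y.a1 *
      y.u1 + x.a8 * y.a1 ^ 2 * φ y.a1,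
    x.a3 + y.a3 + x.a7 * φ y.a1 + x.a8 * y.u1,
    x.u3 + y.u3 + x.a3 * φ y.a3 + x.a4 * y.a1 + x.a5 * y.a2 + x.a6 * y.u1 + x.a7 * φ y.a2 + x.u7 *
      φ y.u1 + x.a3 * φ x.a8 * φ y.u1 + x.a5 * x.a7 * y.u1 + x.a5 * x.a8 * φ y.u1 + x.a6 * y.a1 * φ
      y.a1 + x.a7 * φ y.a1 * φ y.a3 + φ x.a7 * y.a1 * y.a2 + x.u7 * y.a1 * y.u1 + x.a8 * y.a1 * φ
      y.a2 + x.a8 * y.u1 * φ y.a3 + φ x.a8 * y.u1 * y.a2 + x.a3 * φ x.a7 * y.a1 ^ 2 + x.a5 * x.a7 *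
      y.a1 * φ y.a1 + x.a5 * x.a8 * y.a1 * y.u1 + x.a7 * φ x.a7 * y.a1 * y.u1 + x.a7 * φ x.a8 *
      y.u1 ^ 2 + φ x.a7 * x.a8 * y.a1 * φ y.u1 + x.u7 * y.a1 ^ 2 * φ y.a1 + x.a8 * φ x.a8 * y.u1 *
      φ y.u1 + φ x.a8 * y.a1 * φ y.a1 * y.a2 + x.a5 * x.a8 * y.a1 ^ 2 * φ y.a1 + x.a7 * φ x.a7 *
      y.a1 ^ 2 * φ y.a1 + φ x.a7 * x.a8 * y.a1 ^ 2 * y.u1 + x.a8 * φ x.a8 * y.a1 * φ y.a1 * φ y.u1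
      + x.a8 * φ x.a8 * y.a1 * y.u1 ^ 2 + x.a7 * φ x.a8 * y.a1 ^ 2 * φ y.a1 ^ 2 + φ x.a7 * x.a8 *
      y.a1 ^ 3 * φ y.a1 + x.a8 * φ x.a8 * y.a1 ^ 3 * φ y.a1 ^ 2,
    x.a4 + y.a4 + x.a5 * y.a3 + x.a6 * φ y.a1 + φ x.a7 * y.a2 + x.u7 * y.u1 + x.a8 * φ y.a2 + x.a5
      * x.a7 * φ y.a1 + x.a5 * x.a8 * y.u1 + x.a7 * φ x.a7 * y.u1 + φ x.a7 * x.a8 * φ y.u1 + φ x.a7
      * y.a1 * y.a3 + φ x.a8 * φ y.a1 * y.a2 + φ x.a8 * y.u1 * y.a3 + x.a8 * φ x.a8 * φ y.a1 * φ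
      y.u1 + x.a8 * φ x.a8 * y.u1 ^ 2 + φ x.a8 * y.a1 * φ y.a1 * y.a3 + φ x.a7 * x.a8 * y.a1 ^ 2 *
      φ y.a1 + x.a8 * φ x.a8 * y.a1 ^ 2 * φ y.a1 ^ 2,
    x.a5 + y.a5 + φ x.a7 * y.a1 + φ x.a8 * y.u1 + φ x.a8 * y.a1 * φ y.a1,
    x.u5 + y.u5 + x.a5 * φ y.a5 + x.a6 * y.a3 + φ x.a6 * y.a1 + x.a7 * y.a4 + x.u7 * y.a2 + φ x.u7
      * y.u1 + x.a8 * y.u3 + x.a6 * x.a7 * φ y.a1 + x.a6 * x.a8 * y.u1 + x.a7 * x.u7 * y.u1 + x.a7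
      * x.a8 * φ y.a2 + φ x.a7 * y.a1 * φ y.a5 + x.u7 * x.a8 * φ y.u1 + x.u7 * y.a1 * y.a3 + φ x.u7
      * y.a1 * φ y.a1 + x.a8 * y.a1 * y.a4 + x.a8 * y.a3 * φ y.a3 + φ x.a8 * y.u1 * φ y.a5 + φ x.a8
      * y.a2 * y.a3 + x.a5 * x.a7 ^ 2 * φ y.a1 + x.a5 * x.a8 ^ 2 * φ y.u1 + x.a7 ^ 2 * φ x.a7 *
      y.u1 + x.a7 * φ x.a8 * φ y.a1 * y.a2 + x.a7 * φ x.a8 * y.u1 * y.a3 + x.a8 ^ 2 * y.a1 * φ y.a2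
      + x.a8 * φ x.a8 * y.u1 * y.a2 + x.a8 * φ x.a8 * φ y.u1 * y.a3 + φ x.a8 * y.a1 * φ y.a1 * φ
      y.a5 + x.a7 * x.a8 * φ x.a8 * φ y.a1 * φ y.u1 + x.a7 * x.a8 * φ x.a8 * y.u1 ^ 2 + x.a7 * φ
      x.a8 * y.a1 * φ y.a1 * y.a3 + φ x.a7 * x.a8 ^ 2 * y.a1 * φ y.u1 + x.u7 * x.a8 * y.a1 ^ 2 * φ
      y.a1 + x.a8 * φ x.a8 * y.a1 * y.u1 * y.a3 + x.a5 * x.a8 ^ 2 * y.a1 ^ 2 * φ y.a1 + x.a8 ^ 2 *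
      φ x.a8 * y.a1 * φ y.a1 * φ y.u1 + x.a8 ^ 2 * φ x.a8 * y.a1 * y.u1 ^ 2 + x.a8 * φ x.a8 * y.a1
      ^ 2 * φ y.a1 * y.a3 + x.a7 * x.a8 * φ x.a8 * y.a1 ^ 2 * φ y.a1 ^ 2 + φ x.a7 * x.a8 ^ 2 * y.a1
      ^ 3 * φ y.a1 + x.a8 ^ 2 * φ x.a8 * y.a1 ^ 3 * φ y.a1 ^ 2,
    x.a6 + y.a6 + x.a7 * y.a5 + x.u7 * y.a1 + x.a8 * φ y.a3 + φ x.a8 * y.a2 + x.a7 * φ x.a8 * y.u1
      + x.a8 * φ x.a8 * φ y.u1 + x.a8 * y.a1 * y.a5 + x.a7 * φ x.a8 * y.a1 * φ y.a1 + x.a8 * φ x.a8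
      * y.a1 * y.u1 + x.a8 * φ x.a8 * y.a1 ^ 2 * φ y.a1,
    x.a7 + y.a7 + x.a8 * y.a1,
    x.u7 + y.u7 + x.a7 * φ y.a7 + x.a8 * y.a5 + φ x.a8 * y.a3 + x.a7 * φ x.a8 * φ y.a1 + x.a8 * φ
      x.a8 * y.u1 + x.a8 * y.a1 * φ y.a7,
    x.a8 + y.a8⟩⟩

instance : Inv (US K) := ⟨fun x => ⟨
    x.a1,
    x.u1 + x.a1 * φ x.a1,
    x.a2 + x.a1 * x.a3 + x.u1 * x.a7 + φ x.u1 * x.a8 + x.a1 * x.u1 * x.a8 + x.a1 ^ 2 * φ x.a1 *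
      x.a8,
    x.a3 + φ x.a1 * x.a7 + x.u1 * x.a8 + x.a1 * φ x.a1 * x.a8,
    x.u3 + x.a1 * x.a4 + x.u1 * x.a6 + φ x.u1 * x.u7 + x.a2 * x.a5 + φ x.a2 * x.a7 + x.a3 * φ x.a3
      + x.a1 * x.u1 * x.u7 + x.a1 * x.a2 * φ x.a7 + x.a1 * φ x.a2 * x.a8 + x.a1 * x.a3 * x.a5 +
      x.u1 * x.a2 * φ x.a8 + x.u1 * φ x.a3 * x.a8 + φ x.u1 * x.a7 * φ x.a7 + x.a1 ^ 2 * φ x.a1 *
      x.u7 + x.a1 ^ 2 * x.a3 * φ x.a7 + x.a1 * x.u1 * x.a3 * φ x.a8 + x.a1 * φ x.u1 * φ x.a7 * x.a8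
      + x.u1 ^ 2 * x.a7 * φ x.a8 + x.u1 * φ x.u1 * x.a8 * φ x.a8 + x.a1 ^ 2 * φ x.a1 * x.a7 * φ
      x.a7 + x.a1 ^ 2 * x.u1 * φ x.a7 * x.a8 + x.a1 * x.u1 ^ 2 * x.a8 * φ x.a8 + x.a1 ^ 3 * φ x.a1
      * φ x.a7 * x.a8 + x.a1 ^ 2 * φ x.a1 * x.u1 * x.a8 * φ x.a8,
    x.a4 + φ x.a1 * x.a6 + x.u1 * x.u7 + x.a2 * φ x.a7 + φ x.a2 * x.a8 + x.a3 * x.a5 + x.a1 * φ
      x.a1 * x.u7 + φ x.a1 * x.a2 * φ x.a8 + φ x.a1 * φ x.a3 * x.a8 + x.u1 * x.a3 * φ x.a8 + φ x.u1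
      * φ x.a7 * x.a8 + x.a1 * φ x.a1 * x.a3 * φ x.a8 + φ x.a1 * φ x.u1 * x.a8 * φ x.a8 + x.u1 ^ 2
      * x.a8 * φ x.a8 + x.a1 ^ 2 * φ x.a1 ^ 2 * x.a8 * φ x.a8,
    x.a5 + x.a1 * φ x.a7 + x.u1 * φ x.a8,
    x.u5 + x.a1 * φ x.a6 + x.u1 * φ x.u7 + x.a2 * x.u7 + x.a3 * x.a6 + x.u3 * x.a8 + x.a4 * x.a7 +
      x.a5 * φ x.a5 + x.a1 * φ x.a5 * φ x.a7 + φ x.a1 * x.a6 * x.a7 + x.u1 * φ x.a5 * φ x.a8 + x.u1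
      * x.a6 * x.a8 + x.u1 * x.a7 * x.u7 + φ x.u1 * x.u7 * x.a8 + x.a2 * x.a3 * φ x.a8 + x.a2 *
      x.a5 * x.a8 + x.a2 * x.a7 * φ x.a7 + φ x.a2 * x.a7 * x.a8 + x.a3 * x.a5 * x.a7 + x.a1 * φ
      x.a1 * x.a6 * x.a8 + x.a1 * φ x.a1 * x.a7 * x.u7 + x.a1 * φ x.a2 * x.a8 ^ 2 + x.a1 * x.a3 ^ 2
      * φ x.a8 + φ x.a1 * x.a2 * x.a7 * φ x.a8 + φ x.a1 * φ x.a3 * x.a7 * x.a8 + x.u1 * x.a2 * x.a8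
      * φ x.a8 + x.u1 * x.a3 * x.a7 * φ x.a8 + x.u1 * x.a7 ^ 2 * φ x.a7 + φ x.u1 * x.a3 * x.a8 * φ
      x.a8 + φ x.u1 * x.a7 * φ x.a7 * x.a8 + x.a1 * φ x.a1 * x.a2 * x.a8 * φ x.a8 + x.a1 * φ x.a1 *
      x.a3 * x.a7 * φ x.a8 + x.a1 * φ x.a1 * φ x.a3 * x.a8 ^ 2 + x.a1 * φ x.u1 * φ x.a7 * x.a8 ^ 2
      + φ x.a1 * φ x.u1 * x.a7 * x.a8 * φ x.a8 + x.u1 ^ 2 * x.a7 * x.a8 * φ x.a8 + x.a1 * φ x.a1 *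
      φ x.u1 * x.a8 ^ 2 * φ x.a8 + x.a1 * x.u1 ^ 2 * x.a8 ^ 2 * φ x.a8 + x.a1 ^ 2 * φ x.a1 ^ 2 *
      x.a7 * x.a8 * φ x.a8 + x.a1 ^ 3 * φ x.a1 ^ 2 * x.a8 ^ 2 * φ x.a8,
    x.a6 + x.a1 * x.u7 + x.a2 * φ x.a8 + φ x.a3 * x.a8 + x.a5 * x.a7 + x.a1 * x.a3 * φ x.a8 + x.a1
      * x.a5 * x.a8 + x.a1 * x.a7 * φ x.a7 + x.u1 * x.a7 * φ x.a8 + φ x.u1 * x.a8 * φ x.a8 + x.a1 *
      x.u1 * x.a8 * φ x.a8 + x.a1 ^ 2 * φ x.a1 * x.a8 * φ x.a8,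
    x.a7 + x.a1 * x.a8,
    x.u7 + x.a3 * φ x.a8 + x.a5 * x.a8 + x.a7 * φ x.a7 + φ x.a1 * x.a7 * φ x.a8 + x.u1 * x.a8 * φ
      x.a8 + x.a1 * φ x.a1 * x.a8 * φ x.a8,
    x.a8⟩⟩

@[simp] theorem one_a1 : (1 : US K).a1 = 0 := rfl
@[simp] theorem one_u1 : (1 : US K).u1 = 0 := rfl
@[simp] theorem one_a2 : (1 : US K).a2 = 0 := rfl
@[simp] theorem one_a3 : (1 : US K).a3 = 0 := rfl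
@[simp] theorem one_u3 : (1 : US K).u3 = 0 := rfl
@[simp] theorem one_a4 : (1 : US K).a4 = 0 := rfl
@[simp] theorem one_a5 : (1 : US K).a5 = 0 := rfl
@[simp] theorem one_u5 : (1 : US K).u5 = 0 := rfl
@[simp] theorem one_a6 : (1 : US K).a6 = 0 := rfl
@[simp] theorem one_a7 : (1 : US K).a7 = 0 := rfl
@[simp] theorem one_u7 : (1 : US K).u7 = 0 := rfl
@[simp] theorem one_a8 : (1 : US K).a8 = 0 := rfl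
@[simp] theorem mul_a1 (x y : US K) : (x * y).a1 = x.a1 + y.a1 := rfl
@[simp] theorem mul_u1 (x y : US K) : (x * y).u1 = x.u1 + y.u1 + x.a1 * φ y.a1 := rfl
@[simp] theorem mul_a2 (x y : US K) : (x * y).a2 = x.a2 + y.a2 + x.a3 * y.a1 + x.a7 * y.u1 + x.a8 *
  φ y.u1 + x.a7 * y.a1 * φ y.a1 + x.a8 * y.a1 * y.u1 + x.a8 * y.a1 ^ 2 * φ y.a1 := rfl
@[simp] theorem mul_a3 (x y : US K) : (x * y).a3 = x.a3 + y.a3 + x.a7 * φ y.a1 + x.a8 * y.u1 := rfl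
@[simp] theorem mul_u3 (x y : US K) : (x * y).u3 = x.u3 + y.u3 + x.a3 * φ y.a3 + x.a4 * y.a1 + x.a5
  * y.a2 + x.a6 * y.u1 + x.a7 * φ y.a2 + x.u7 * φ y.u1 + x.a3 * φ x.a8 * φ y.u1 + x.a5 * x.a7 *
  y.u1 + x.a5 * x.a8 * φ y.u1 + x.a6 * y.a1 * φ y.a1 + x.a7 * φ y.a1 * φ y.a3 + φ x.a7 * y.a1 *
  y.a2 + x.u7 * y.a1 * y.u1 + x.a8 * y.a1 * φ y.a2 + x.a8 * y.u1 * φ y.a3 + φ x.a8 * y.u1 * y.a2 +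
  x.a3 * φ x.a7 * y.a1 ^ 2 + x.a5 * x.a7 * y.a1 * φ y.a1 + x.a5 * x.a8 * y.a1 * y.u1 + x.a7 * φ
  x.a7 * y.a1 * y.u1 + x.a7 * φ x.a8 * y.u1 ^ 2 + φ x.a7 * x.a8 * y.a1 * φ y.u1 + x.u7 * y.a1 ^ 2 *
  φ y.a1 + x.a8 * φ x.a8 * y.u1 * φ y.u1 + φ x.a8 * y.a1 * φ y.a1 * y.a2 + x.a5 * x.a8 * y.a1 ^ 2 *
  φ y.a1 + x.a7 * φ x.a7 * y.a1 ^ 2 * φ y.a1 + φ x.a7 * x.a8 * y.a1 ^ 2 * y.u1 + x.a8 * φ x.a8 *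
  y.a1 * φ y.a1 * φ y.u1 + x.a8 * φ x.a8 * y.a1 * y.u1 ^ 2 + x.a7 * φ x.a8 * y.a1 ^ 2 * φ y.a1 ^ 2
  + φ x.a7 * x.a8 * y.a1 ^ 3 * φ y.a1 + x.a8 * φ x.a8 * y.a1 ^ 3 * φ y.a1 ^ 2 := rfl
@[simp] theorem mul_a4 (x y : US K) : (x * y).a4 = x.a4 + y.a4 + x.a5 * y.a3 + x.a6 * φ y.a1 + φ
  x.a7 * y.a2 + x.u7 * y.u1 + x.a8 * φ y.a2 + x.a5 * x.a7 * φ y.a1 + x.a5 * x.a8 * y.u1 + x.a7 * φ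
  x.a7 * y.u1 + φ x.a7 * x.a8 * φ y.u1 + φ x.a7 * y.a1 * y.a3 + φ x.a8 * φ y.a1 * y.a2 + φ x.a8 *
  y.u1 * y.a3 + x.a8 * φ x.a8 * φ y.a1 * φ y.u1 + x.a8 * φ x.a8 * y.u1 ^ 2 + φ x.a8 * y.a1 * φ y.a1
  * y.a3 + φ x.a7 * x.a8 * y.a1 ^ 2 * φ y.a1 + x.a8 * φ x.a8 * y.a1 ^ 2 * φ y.a1 ^ 2 := rfl
@[simp] theorem mul_a5 (x y : US K) : (x * y).a5 = x.a5 + y.a5 + φ x.a7 * y.a1 + φ x.a8 * y.u1 + φ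
  x.a8 * y.a1 * φ y.a1 := rfl
@[simp] theorem mul_u5 (x y : US K) : (x * y).u5 = x.u5 + y.u5 + x.a5 * φ y.a5 + x.a6 * y.a3 + φ
  x.a6 * y.a1 + x.a7 * y.a4 + x.u7 * y.a2 + φ x.u7 * y.u1 + x.a8 * y.u3 + x.a6 * x.a7 * φ y.a1 +
  x.a6 * x.a8 * y.u1 + x.a7 * x.u7 * y.u1 + x.a7 * x.a8 * φ y.a2 + φ x.a7 * y.a1 * φ y.a5 + x.u7 *
  x.a8 * φ y.u1 + x.u7 * y.a1 * y.a3 + φ x.u7 * y.a1 * φ y.a1 + x.a8 * y.a1 * y.a4 + x.a8 * y.a3 *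
  φ y.a3 + φ x.a8 * y.u1 * φ y.a5 + φ x.a8 * y.a2 * y.a3 + x.a5 * x.a7 ^ 2 * φ y.a1 + x.a5 * x.a8 ^
  2 * φ y.u1 + x.a7 ^ 2 * φ x.a7 * y.u1 + x.a7 * φ x.a8 * φ y.a1 * y.a2 + x.a7 * φ x.a8 * y.u1 *
  y.a3 + x.a8 ^ 2 * y.a1 * φ y.a2 + x.a8 * φ x.a8 * y.u1 * y.a2 + x.a8 * φ x.a8 * φ y.u1 * y.a3 + φ
  x.a8 * y.a1 * φ y.a1 * φ y.a5 + x.a7 * x.a8 * φ x.a8 * φ y.a1 * φ y.u1 + x.a7 * x.a8 * φ x.a8 *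
  y.u1 ^ 2 + x.a7 * φ x.a8 * y.a1 * φ y.a1 * y.a3 + φ x.a7 * x.a8 ^ 2 * y.a1 * φ y.u1 + x.u7 * x.a8
  * y.a1 ^ 2 * φ y.a1 + x.a8 * φ x.a8 * y.a1 * y.u1 * y.a3 + x.a5 * x.a8 ^ 2 * y.a1 ^ 2 * φ y.a1 +
  x.a8 ^ 2 * φ x.a8 * y.a1 * φ y.a1 * φ y.u1 + x.a8 ^ 2 * φ x.a8 * y.a1 * y.u1 ^ 2 + x.a8 * φ x.a8
  * y.a1 ^ 2 * φ y.a1 * y.a3 + x.a7 * x.a8 * φ x.a8 * y.a1 ^ 2 * φ y.a1 ^ 2 + φ x.a7 * x.a8 ^ 2 *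
  y.a1 ^ 3 * φ y.a1 + x.a8 ^ 2 * φ x.a8 * y.a1 ^ 3 * φ y.a1 ^ 2 := rfl
@[simp] theorem mul_a6 (x y : US K) : (x * y).a6 = x.a6 + y.a6 + x.a7 * y.a5 + x.u7 * y.a1 + x.a8 *
  φ y.a3 + φ x.a8 * y.a2 + x.a7 * φ x.a8 * y.u1 + x.a8 * φ x.a8 * φ y.u1 + x.a8 * y.a1 * y.a5 +
  x.a7 * φ x.a8 * y.a1 * φ y.a1 + x.a8 * φ x.a8 * y.a1 * y.u1 + x.a8 * φ x.a8 * y.a1 ^ 2 * φ y.a1
  := rfl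
@[simp] theorem mul_a7 (x y : US K) : (x * y).a7 = x.a7 + y.a7 + x.a8 * y.a1 := rfl
@[simp] theorem mul_u7 (x y : US K) : (x * y).u7 = x.u7 + y.u7 + x.a7 * φ y.a7 + x.a8 * y.a5 + φ
  x.a8 * y.a3 + x.a7 * φ x.a8 * φ y.a1 + x.a8 * φ x.a8 * y.u1 + x.a8 * y.a1 * φ y.a7 := rfl
@[simp] theorem mul_a8 (x y : US K) : (x * y).a8 = x.a8 + y.a8 := rfl
@[simp] theorem inv_a1 (x : US K) : x⁻¹.a1 = x.a1 := rfl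
@[simp] theorem inv_u1 (x : US K) : x⁻¹.u1 = x.u1 + x.a1 * φ x.a1 := rfl
@[simp] theorem inv_a2 (x : US K) : x⁻¹.a2 = x.a2 + x.a1 * x.a3 + x.u1 * x.a7 + φ x.u1 * x.a8 +
  x.a1 * x.u1 * x.a8 + x.a1 ^ 2 * φ x.a1 * x.a8 := rfl
@[simp] theorem inv_a3 (x : US K) : x⁻¹.a3 = x.a3 + φ x.a1 * x.a7 + x.u1 * x.a8 + x.a1 * φ x.a1 *
  x.a8 := rfl
@[simp] theorem inv_u3 (x : US K) : x⁻¹.u3 = x.u3 + x.a1 * x.a4 + x.u1 * x.a6 + φ x.u1 * x.u7 +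
  x.a2 * x.a5 + φ x.a2 * x.a7 + x.a3 * φ x.a3 + x.a1 * x.u1 * x.u7 + x.a1 * x.a2 * φ x.a7 + x.a1 *
  φ x.a2 * x.a8 + x.a1 * x.a3 * x.a5 + x.u1 * x.a2 * φ x.a8 + x.u1 * φ x.a3 * x.a8 + φ x.u1 * x.a7
  * φ x.a7 + x.a1 ^ 2 * φ x.a1 * x.u7 + x.a1 ^ 2 * x.a3 * φ x.a7 + x.a1 * x.u1 * x.a3 * φ x.a8 +
  x.a1 * φ x.u1 * φ x.a7 * x.a8 + x.u1 ^ 2 * x.a7 * φ x.a8 + x.u1 * φ x.u1 * x.a8 * φ x.a8 + x.a1 ^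
  2 * φ x.a1 * x.a7 * φ x.a7 + x.a1 ^ 2 * x.u1 * φ x.a7 * x.a8 + x.a1 * x.u1 ^ 2 * x.a8 * φ x.a8 +
  x.a1 ^ 3 * φ x.a1 * φ x.a7 * x.a8 + x.a1 ^ 2 * φ x.a1 * x.u1 * x.a8 * φ x.a8 := rfl
@[simp] theorem inv_a4 (x : US K) : x⁻¹.a4 = x.a4 + φ x.a1 * x.a6 + x.u1 * x.u7 + x.a2 * φ x.a7 + φ
  x.a2 * x.a8 + x.a3 * x.a5 + x.a1 * φ x.a1 * x.u7 + φ x.a1 * x.a2 * φ x.a8 + φ x.a1 * φ x.a3 *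
  x.a8 + x.u1 * x.a3 * φ x.a8 + φ x.u1 * φ x.a7 * x.a8 + x.a1 * φ x.a1 * x.a3 * φ x.a8 + φ x.a1 * φ
  x.u1 * x.a8 * φ x.a8 + x.u1 ^ 2 * x.a8 * φ x.a8 + x.a1 ^ 2 * φ x.a1 ^ 2 * x.a8 * φ x.a8 := rfl
@[simp] theorem inv_a5 (x : US K) : x⁻¹.a5 = x.a5 + x.a1 * φ x.a7 + x.u1 * φ x.a8 := rfl
@[simp] theorem inv_u5 (x : US K) : x⁻¹.u5 = x.u5 + x.a1 * φ x.a6 + x.u1 * φ x.u7 + x.a2 * x.u7 +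
  x.a3 * x.a6 + x.u3 * x.a8 + x.a4 * x.a7 + x.a5 * φ x.a5 + x.a1 * φ x.a5 * φ x.a7 + φ x.a1 * x.a6
  * x.a7 + x.u1 * φ x.a5 * φ x.a8 + x.u1 * x.a6 * x.a8 + x.u1 * x.a7 * x.u7 + φ x.u1 * x.u7 * x.a8
  + x.a2 * x.a3 * φ x.a8 + x.a2 * x.a5 * x.a8 + x.a2 * x.a7 * φ x.a7 + φ x.a2 * x.a7 * x.a8 + x.a3
  * x.a5 * x.a7 + x.a1 * φ x.a1 * x.a6 * x.a8 + x.a1 * φ x.a1 * x.a7 * x.u7 + x.a1 * φ x.a2 * x.a8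
  ^ 2 + x.a1 * x.a3 ^ 2 * φ x.a8 + φ x.a1 * x.a2 * x.a7 * φ x.a8 + φ x.a1 * φ x.a3 * x.a7 * x.a8 +
  x.u1 * x.a2 * x.a8 * φ x.a8 + x.u1 * x.a3 * x.a7 * φ x.a8 + x.u1 * x.a7 ^ 2 * φ x.a7 + φ x.u1 *
  x.a3 * x.a8 * φ x.a8 + φ x.u1 * x.a7 * φ x.a7 * x.a8 + x.a1 * φ x.a1 * x.a2 * x.a8 * φ x.a8 +
  x.a1 * φ x.a1 * x.a3 * x.a7 * φ x.a8 + x.a1 * φ x.a1 * φ x.a3 * x.a8 ^ 2 + x.a1 * φ x.u1 * φ x.a7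
  * x.a8 ^ 2 + φ x.a1 * φ x.u1 * x.a7 * x.a8 * φ x.a8 + x.u1 ^ 2 * x.a7 * x.a8 * φ x.a8 + x.a1 * φ
  x.a1 * φ x.u1 * x.a8 ^ 2 * φ x.a8 + x.a1 * x.u1 ^ 2 * x.a8 ^ 2 * φ x.a8 + x.a1 ^ 2 * φ x.a1 ^ 2 *
  x.a7 * x.a8 * φ x.a8 + x.a1 ^ 3 * φ x.a1 ^ 2 * x.a8 ^ 2 * φ x.a8 := rfl
@[simp] theorem inv_a6 (x : US K) : x⁻¹.a6 = x.a6 + x.a1 * x.u7 + x.a2 * φ x.a8 + φ x.a3 * x.a8 +
  x.a5 * x.a7 + x.a1 * x.a3 * φ x.a8 + x.a1 * x.a5 * x.a8 + x.a1 * x.a7 * φ x.a7 + x.u1 * x.a7 * φ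
  x.a8 + φ x.u1 * x.a8 * φ x.a8 + x.a1 * x.u1 * x.a8 * φ x.a8 + x.a1 ^ 2 * φ x.a1 * x.a8 * φ x.a8
  := rfl
@[simp] theorem inv_a7 (x : US K) : x⁻¹.a7 = x.a7 + x.a1 * x.a8 := rfl
@[simp] theorem inv_u7 (x : US K) : x⁻¹.u7 = x.u7 + x.a3 * φ x.a8 + x.a5 * x.a8 + x.a7 * φ x.a7 + φ
  x.a1 * x.a7 * φ x.a8 + x.u1 * x.a8 * φ x.a8 + x.a1 * φ x.a1 * x.a8 * φ x.a8 := rfl
@[simp] theorem inv_a8 (x : US K) : x⁻¹.a8 = x.a8 := rfl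

end US

/-- conjugation by the Weyl element of the Suzuki Levi factor, on `{a1 = u1 = 0}` -/
def n1 (x : US K) : US K := ⟨
    0,
    0,
    x.a8,
    x.a7,
    x.u7 + x.a3 * φ x.a8 + x.a5 * x.a8,
    x.a6 + x.a2 * φ x.a8 + φ x.a3 * x.a8 + x.a5 * x.a7,
    x.a5,
    x.u5 + x.a2 * x.u7 + x.a3 * x.a6 + x.u3 * x.a8 + x.a4 * x.a7 + x.a2 * x.a3 * φ x.a8 + x.a2 *
      x.a5 * x.a8 + x.a2 * x.a7 * φ x.a7 + φ x.a2 * x.a7 * x.a8 + x.a3 * x.a5 * x.a7,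
    x.a4 + x.a2 * φ x.a7 + φ x.a2 * x.a8 + x.a3 * x.a5,
    x.a3,
    x.u3 + x.a2 * x.a5 + φ x.a2 * x.a7,
    x.a2⟩

/-- conjugation by the Weyl element of the `SL₂` Levi factor, on `{a8 = 0}` -/
def n2 (x : US K) : US K := ⟨
    x.a7,
    x.u7,
    x.a6 + x.a1 * x.u7 + x.a5 * x.a7 + x.a1 * x.a7 * φ x.a7,
    x.a5 + x.a1 * φ x.a7,
    x.u5 + x.a1 * φ x.a6 + x.u1 * φ x.u7 + x.a2 * x.u7 + x.a3 * x.a6 + x.a4 * x.a7 + φ x.a1 * x.a6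
      * x.a7 + x.u1 * x.a7 * x.u7 + x.a2 * x.a7 * φ x.a7 + x.a3 * x.a5 * x.a7 + x.a1 * φ x.a1 *
      x.a7 * x.u7 + φ x.a1 * x.a5 * x.a7 ^ 2 + x.u1 * x.a7 ^ 2 * φ x.a7 + x.a1 * φ x.a1 * x.a7 ^ 2
      * φ x.a7,
    x.a4 + φ x.a1 * x.a6 + x.u1 * x.u7 + x.a2 * φ x.a7 + x.a3 * x.a5 + x.a1 * φ x.a1 * x.u7,
    x.a3 + φ x.a1 * x.a7,
    x.u3 + x.a1 * x.a4 + x.u1 * x.a6 + φ x.u1 * x.u7 + x.a2 * x.a5 + φ x.a2 * x.a7 + x.a1 * x.u1 *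
      x.u7 + x.a1 * x.a2 * φ x.a7 + x.a1 * x.a3 * x.a5 + φ x.a1 * φ x.a3 * x.a7 + φ x.u1 * x.a7 * φ
      x.a7 + x.a1 ^ 2 * φ x.a1 * x.u7,
    x.a2 + x.a1 * x.a3 + x.u1 * x.a7,
    x.a1,
    x.u1,
    0⟩

@[simp] theorem n1_a1 (x : US K) : (n1 x).a1 = 0 := rfl
@[simp] theorem n1_u1 (x : US K) : (n1 x).u1 = 0 := rfl
@[simp] theorem n1_a2 (x : US K) : (n1 x).a2 = x.a8 := rfl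
@[simp] theorem n1_a3 (x : US K) : (n1 x).a3 = x.a7 := rfl
@[simp] theorem n1_u3 (x : US K) : (n1 x).u3 = x.u7 + x.a3 * φ x.a8 + x.a5 * x.a8 := rfl
@[simp] theorem n1_a4 (x : US K) : (n1 x).a4 = x.a6 + x.a2 * φ x.a8 + φ x.a3 * x.a8 + x.a5 * x.a7
  := rfl
@[simp] theorem n1_a5 (x : US K) : (n1 x).a5 = x.a5 := rfl
@[simp] theorem n1_u5 (x : US K) : (n1 x).u5 = x.u5 + x.a2 * x.u7 + x.a3 * x.a6 + x.u3 * x.a8 +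
  x.a4 * x.a7 + x.a2 * x.a3 * φ x.a8 + x.a2 * x.a5 * x.a8 + x.a2 * x.a7 * φ x.a7 + φ x.a2 * x.a7 *
  x.a8 + x.a3 * x.a5 * x.a7 := rfl
@[simp] theorem n1_a6 (x : US K) : (n1 x).a6 = x.a4 + x.a2 * φ x.a7 + φ x.a2 * x.a8 + x.a3 * x.a5
  := rfl
@[simp] theorem n1_a7 (x : US K) : (n1 x).a7 = x.a3 := rfl
@[simp] theorem n1_u7 (x : US K) : (n1 x).u7 = x.u3 + x.a2 * x.a5 + φ x.a2 * x.a7 := rfl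
@[simp] theorem n1_a8 (x : US K) : (n1 x).a8 = x.a2 := rfl
@[simp] theorem n2_a1 (x : US K) : (n2 x).a1 = x.a7 := rfl
@[simp] theorem n2_u1 (x : US K) : (n2 x).u1 = x.u7 := rfl
@[simp] theorem n2_a2 (x : US K) : (n2 x).a2 = x.a6 + x.a1 * x.u7 + x.a5 * x.a7 + x.a1 * x.a7 * φ
  x.a7 := rfl
@[simp] theorem n2_a3 (x : US K) : (n2 x).a3 = x.a5 + x.a1 * φ x.a7 := rfl
@[simp] theorem n2_u3 (x : US K) : (n2 x).u3 = x.u5 + x.a1 * φ x.a6 + x.u1 * φ x.u7 + x.a2 * x.u7 +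
  x.a3 * x.a6 + x.a4 * x.a7 + φ x.a1 * x.a6 * x.a7 + x.u1 * x.a7 * x.u7 + x.a2 * x.a7 * φ x.a7 +
  x.a3 * x.a5 * x.a7 + x.a1 * φ x.a1 * x.a7 * x.u7 + φ x.a1 * x.a5 * x.a7 ^ 2 + x.u1 * x.a7 ^ 2 * φ
  x.a7 + x.a1 * φ x.a1 * x.a7 ^ 2 * φ x.a7 := rfl
@[simp] theorem n2_a4 (x : US K) : (n2 x).a4 = x.a4 + φ x.a1 * x.a6 + x.u1 * x.u7 + x.a2 * φ x.a7 +
  x.a3 * x.a5 + x.a1 * φ x.a1 * x.u7 := rfl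
@[simp] theorem n2_a5 (x : US K) : (n2 x).a5 = x.a3 + φ x.a1 * x.a7 := rfl
@[simp] theorem n2_u5 (x : US K) : (n2 x).u5 = x.u3 + x.a1 * x.a4 + x.u1 * x.a6 + φ x.u1 * x.u7 +
  x.a2 * x.a5 + φ x.a2 * x.a7 + x.a1 * x.u1 * x.u7 + x.a1 * x.a2 * φ x.a7 + x.a1 * x.a3 * x.a5 + φ
  x.a1 * φ x.a3 * x.a7 + φ x.u1 * x.a7 * φ x.a7 + x.a1 ^ 2 * φ x.a1 * x.u7 := rfl
@[simp] theorem n2_a6 (x : US K) : (n2 x).a6 = x.a2 + x.a1 * x.a3 + x.u1 * x.a7 := rfl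
@[simp] theorem n2_a7 (x : US K) : (n2 x).a7 = x.a1 := rfl
@[simp] theorem n2_u7 (x : US K) : (n2 x).u7 = x.u1 := rfl
@[simp] theorem n2_a8 (x : US K) : (n2 x).a8 = 0 := rfl

/-- the word of an element -/
def wU (x : US K) : List (ℕ × K) :=
  [(27, x.a1), (25, φ x.a1), (28, x.a1 * φ x.a1 + x.u1), (30, φ x.u1), (37, x.a2), (32, φ x.a2),
    (35, x.a3), (31, φ x.a3), (40, x.a3 * φ x.a3 + x.u3), (46, φ x.u3), (39, x.a4), (45, φ x.a4),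
    (29, x.a5), (41, φ x.a5), (44, x.a5 * φ x.a5 + x.u5), (47, φ x.u5), (38, x.a6), (43, φ x.a6),
    (34, x.a7), (26, φ x.a7), (36, x.a7 * φ x.a7 + x.u7), (42, φ x.u7), (33, x.a8), (24, φ x.a8)]

noncomputable def emb0 (x : US K) : chevF4.group K := okF4.wN (wU x)

def dbl (l : List K) : List K := l.flatMap fun t => [t, φ t]

theorem dbl_getD (l : List K) (k : ℕ) : (dbl l).getD (2 * k) 1 = l.getD k 1 ∧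
    (dbl l).getD (2 * k + 1) 1 = φ (l.getD k 1) := by
  induction l generalizing k with
  | nil => simp [dbl]
  | cons a l ih =>
    cases k
    exacts [⟨rfl, rfl⟩, ih _]

theorem ev_sb (l : List K) (P : MP) : ev (dbl l) (msub sb P) = φ (ev (dbl l) P) := by
  refine ev_msub _ φ sb (fun i => ?_) P
  obtain ⟨k, rfl | rfl⟩ := i.even_or_odd'
  · rw [show sb (2 * k) = [2 * k + 1] by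
      rw [sb, show Nat.mod (2 * k) 2 = 0 from Nat.mul_mod_right 2 k]; rfl, evM_cons, (dbl_getD l k).1, (dbl_getD l k).2]
    exact (mul_one _).symm
  · rw [show sb (2 * k + 1) = [2 * k, 2 * k] by
      rw [sb, show Nat.mod (2 * k + 1) 2 = 1 from Nat.mul_add_mod 2 k 1]; rfl, evM_cons, evM_cons, (dbl_getD l k).1,
      (dbl_getD l k).2, phi_phi, pow_two]
    exact congrArg _ (mul_one _).symm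

def mkU (f : ℕ → K) : US K := ⟨f 0, f 1, f 2, f 3, f 4, f 5, f 6, f 7, f 8, f 9, f 10, f 11⟩

def cU (x : US K) : List K := [x.a1, x.u1, x.a2, x.a3, x.u3, x.a4, x.a5, x.u5, x.a6, x.a7, x.u7, x.a8]

theorem wU_mkU (l : List K) (Z : ℕ → MP) : wU (mkU fun k => ev (dbl l) (Z k)) =
    (wP Z).map fun a => (a.1, ev (dbl l) a.2) := by
  simp only [wP, w1, w2, List.map_append, List.map_cons, List.map_nil, ev_append, ev_mmul, ev_sb]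
  rfl

theorem ev_var (l : List K) (k : ℕ) : ev (dbl l) [(false, [2 * k])] = l.getD k 1 :=
  (add_zero _).trans ((mul_one _).trans (dbl_getD l k).1)

theorem cE.eq {w w' : List (ℕ × MP)} (h : cE w w') (l : List K) (hl : (dbl l).length ≤ 50) :
    okF4.wN (w.map fun a => (a.1, ev (dbl l) a.2)) =
      okF4.wN (w'.map fun a => (a.1, ev (dbl l) a.2)) :=
  okF4.wN_eq (p := 2) (by exact_mod_cast CharP.cast_eq_zero K 2) h.1 h.2 _ hl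

theorem wU_X (x : US K) (l : List K) :
    (wP vX).map (fun a => (a.1, ev (dbl (cU x ++ l)) a.2)) = wU x := by
  rw [← wU_mkU]
  simp only [vX, ev_var]
  rfl

theorem mul_eq (x y : US K) : x * y = mkU fun k => ev (dbl (cU x ++ cU y)) (zM.getD k []) := by
  ext
  · show x.a1 + y.a1 = x.a1 * 1 + (y.a1 * 1 + 0)
    ring
  · show x.u1 + y.u1 + x.a1 * φ y.a1 = x.u1 * 1 + (y.u1 * 1 + (x.a1 * (φ y.a1 * 1) + 0))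
    ring
  · show x.a2 + y.a2 + x.a3 * y.a1 + x.a7 * y.u1 + x.a8 * φ y.u1 + x.a7 * y.a1 * φ y.a1 + x.a8 * y.a1 * y.u1 + x.a8 * y.a1 ^ 2 * φ y.a1 = x.a2 * 1 + (y.a2 * 1 + (x.a3 * (y.a1 * 1) + (x.a7 * (y.u1 * 1) + (x.a8 * (φ y.u1 * 1) + (x.a7 * (y.a1 * (φ y.a1 * 1)) + (x.a8 * (y.a1 * (y.u1 * 1)) + (x.a8 * (y.a1 * (y.a1 * (φ y.a1 * 1))) + 0)))))))
    ring
  · show x.a3 + y.a3 + x.a7 * φ y.a1 + x.a8 * y.u1 = x.a3 * 1 + (y.a3 * 1 + (x.a7 * (φ y.a1 * 1) + (x.a8 * (y.u1 * 1) + 0)))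
    ring
  · show x.u3 + y.u3 + x.a3 * φ y.a3 + x.a4 * y.a1 + x.a5 * y.a2 + x.a6 * y.u1 + x.a7 * φ y.a2 + x.u7 * φ y.u1 + x.a3 * φ x.a8 * φ y.u1 + x.a5 * x.a7 * y.u1 + x.a5 * x.a8 * φ y.u1 + x.a6 * y.a1 * φ y.a1 + x.a7 * φ y.a1 * φ y.a3 + φ x.a7 * y.a1 * y.a2 + x.u7 * y.a1 * y.u1 + x.a8 * y.a1 * φ y.a2 + x.a8 * y.u1 * φ y.a3 + φ x.a8 * y.u1 * y.a2 + x.a3 * φ x.a7 * y.a1 ^ 2 + x.a5 * x.a7 * y.a1 * φ y.a1 + x.a5 * x.a8 * y.a1 * y.u1 + x.a7 * φ x.a7 * y.a1 * y.u1 + x.a7 * φ x.a8 * y.u1 ^ 2 + φ x.a7 * x.a8 * y.a1 * φ y.u1 + x.u7 * y.a1 ^ 2 * φ y.a1 + x.a8 * φ x.a8 * y.u1 * φ y.u1 + φ x.a8 * y.a1 * φ y.a1 * y.a2 + x.a5 * x.a8 * y.a1 ^ 2 * φ y.a1 + x.a7 * φ x.a7 * y.a1 ^ 2 * φ y.a1 + φ x.a7 * x.a8 * y.a1 ^ 2 * y.u1 + x.a8 * φ x.a8 * y.a1 *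 φ y.a1 * φ y.u1 + x.a8 * φ x.a8 * y.a1 * y.u1 ^ 2 + x.a7 * φ x.a8 * y.a1 ^ 2 * φ y.a1 ^ 2 + φ x.a7 * x.a8 * y.a1 ^ 3 * φ y.a1 + x.a8 * φ x.a8 * y.a1 ^ 3 * φ y.a1 ^ 2 = x.u3 * 1 + (y.u3 * 1 + (x.a3 * (φ y.a3 * 1) + (x.a4 * (y.a1 * 1) + (x.a5 * (y.a2 * 1) + (x.a6 * (y.u1 * 1) + (x.a7 * (φ y.a2 * 1) + (x.u7 * (φ y.u1 * 1) + (x.a3 * (φ x.a8 * (φ y.u1 * 1)) + (x.a5 * (x.a7 * (y.u1 * 1)) + (x.a5 * (x.a8 * (φ y.u1 * 1)) + (x.a6 * (y.a1 * (φ y.a1 * 1)) + (x.a7 * (φ y.a1 * (φ y.a3 * 1)) + (φ x.a7 * (y.a1 * (y.a2 * 1)) + (x.u7 * (y.a1 * (y.u1 * 1)) + (x.a8 * (y.a1 * (φ y.a2 * 1)) + (x.a8 * (y.u1 * (φ y.a3 * 1)) + (φ x.a8 * (y.u1 * (y.a2 * 1)) + (x.a3 * (φ x.a7 * (y.a1 * (y.a1 * 1))) + (x.a5 * (x.a7 * (y.a1 * (φ y.a1 * 1))) + (x.a5 * (x.a8 * (y.a1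 * (y.u1 * 1))) + (x.a7 * (φ x.a7 * (y.a1 * (y.u1 * 1))) + (x.a7 * (φ x.a8 * (y.u1 * (y.u1 * 1))) + (φ x.a7 * (x.a8 * (y.a1 * (φ y.u1 * 1))) + (x.u7 * (y.a1 * (y.a1 * (φ y.a1 * 1))) + (x.a8 * (φ x.a8 * (y.u1 * (φ y.u1 * 1))) + (φ x.a8 * (y.a1 * (φ y.a1 * (y.a2 * 1))) + (x.a5 * (x.a8 * (y.a1 * (y.a1 * (φ y.a1 * 1)))) + (x.a7 * (φ x.a7 * (y.a1 * (y.a1 * (φ y.a1 * 1)))) + (φ x.a7 * (x.a8 * (y.a1 * (y.a1 * (y.u1 * 1)))) + (x.a8 * (φ x.a8 * (y.a1 * (φ y.a1 * (φ y.u1 * 1)))) + (x.a8 * (φ x.a8 * (y.a1 * (y.u1 * (y.u1 * 1)))) + (x.a7 * (φ x.a8 * (y.a1 * (y.a1 * (φ y.a1 * (φ y.a1 * 1))))) + (φ x.a7 * (x.a8 * (y.a1 * (y.a1 * (y.a1 * (φ y.a1 * 1))))) + (x.a8 * (φ x.a8 * (y.a1 * (y.a1 * (y.a1 * (φ y.a1 * (φ y.a1 * 1)))))) + 0))))))))))))))))))))))))))))))))))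
    ring
  · show x.a4 + y.a4 + x.a5 * y.a3 + x.a6 * φ y.a1 + φ x.a7 * y.a2 + x.u7 * y.u1 + x.a8 * φ y.a2 + x.a5 * x.a7 * φ y.a1 + x.a5 * x.a8 * y.u1 + x.a7 * φ x.a7 * y.u1 + φ x.a7 * x.a8 * φ y.u1 + φ x.a7 * y.a1 * y.a3 + φ x.a8 * φ y.a1 * y.a2 + φ x.a8 * y.u1 * y.a3 + x.a8 * φ x.a8 * φ y.a1 * φ y.u1 + x.a8 * φ x.a8 * y.u1 ^ 2 + φ x.a8 * y.a1 * φ y.a1 * y.a3 + φ x.a7 * x.a8 * y.a1 ^ 2 * φ y.a1 + x.a8 * φ x.a8 * y.a1 ^ 2 * φ y.a1 ^ 2 = x.a4 * 1 + (y.a4 * 1 + (x.a5 * (y.a3 * 1) + (x.a6 * (φ y.a1 * 1) + (φ x.a7 * (y.a2 * 1) + (x.u7 * (y.u1 * 1) + (x.a8 * (φ y.a2 * 1) + (x.a5 * (x.a7 * (φ y.a1 * 1)) + (x.a5 * (x.a8 * (y.u1 * 1)) + (x.a7 * (φ x.a7 * (y.u1 * 1)) + (φ x.a7 * (x.a8 * (φ y.u1 * 1)) + (φ x.a7 * (y.a1 * (y.a3 * 1)) + (φ x.a8 *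 (φ y.a1 * (y.a2 * 1)) + (φ x.a8 * (y.u1 * (y.a3 * 1)) + (x.a8 * (φ x.a8 * (φ y.a1 * (φ y.u1 * 1))) + (x.a8 * (φ x.a8 * (y.u1 * (y.u1 * 1))) + (φ x.a8 * (y.a1 * (φ y.a1 * (y.a3 * 1))) + (φ x.a7 * (x.a8 * (y.a1 * (y.a1 * (φ y.a1 * 1)))) + (x.a8 * (φ x.a8 * (y.a1 * (y.a1 * (φ y.a1 * (φ y.a1 * 1))))) + 0))))))))))))))))))
    ring
  · show x.a5 + y.a5 + φ x.a7 * y.a1 + φ x.a8 * y.u1 + φ x.a8 * y.a1 * φ y.a1 = x.a5 * 1 + (y.a5 * 1 + (φ x.a7 * (y.a1 * 1) + (φ x.a8 * (y.u1 * 1) + (φ x.a8 * (y.a1 * (φ y.a1 * 1)) + 0))))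
    ring
  · show x.u5 + y.u5 + x.a5 * φ y.a5 + x.a6 * y.a3 + φ x.a6 * y.a1 + x.a7 * y.a4 + x.u7 * y.a2 + φ x.u7 * y.u1 + x.a8 * y.u3 + x.a6 * x.a7 * φ y.a1 + x.a6 * x.a8 * y.u1 + x.a7 * x.u7 * y.u1 + x.a7 * x.a8 * φ y.a2 + φ x.a7 * y.a1 * φ y.a5 + x.u7 * x.a8 * φ y.u1 + x.u7 * y.a1 * y.a3 + φ x.u7 * y.a1 * φ y.a1 + x.a8 * y.a1 * y.a4 + x.a8 * y.a3 * φ y.a3 + φ x.a8 * y.u1 * φ y.a5 + φ x.a8 * y.a2 * y.a3 + x.a5 * x.a7 ^ 2 * φ y.a1 + x.a5 * x.a8 ^ 2 * φ y.u1 + x.a7 ^ 2 * φ x.a7 * y.u1 + x.a7 * φ x.a8 * φ y.a1 * y.a2 + x.a7 * φ x.a8 * y.u1 * y.a3 + x.a8 ^ 2 * y.a1 * φ y.a2 + x.a8 * φ x.a8 * y.u1 * y.a2 + x.a8 * φ x.a8 * φ y.u1 * y.a3 + φ x.a8 * y.a1 * φ y.a1 * φ y.a5 + x.a7 * x.a8 * φ x.a8 * φ y.a1 * φ y.u1 + x.a7 * x.a8 * φ x.a8 * y.u1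 ^ 2 + x.a7 * φ x.a8 * y.a1 * φ y.a1 * y.a3 + φ x.a7 * x.a8 ^ 2 * y.a1 * φ y.u1 + x.u7 * x.a8 * y.a1 ^ 2 * φ y.a1 + x.a8 * φ x.a8 * y.a1 * y.u1 * y.a3 + x.a5 * x.a8 ^ 2 * y.a1 ^ 2 * φ y.a1 + x.a8 ^ 2 * φ x.a8 * y.a1 * φ y.a1 * φ y.u1 + x.a8 ^ 2 * φ x.a8 * y.a1 * y.u1 ^ 2 + x.a8 * φ x.a8 * y.a1 ^ 2 * φ y.a1 * y.a3 + x.a7 * x.a8 * φ x.a8 * y.a1 ^ 2 * φ y.a1 ^ 2 + φ x.a7 * x.a8 ^ 2 * y.a1 ^ 3 * φ y.a1 + x.a8 ^ 2 * φ x.a8 * y.a1 ^ 3 * φ y.a1 ^ 2 = x.u5 * 1 + (y.u5 * 1 + (x.a5 * (φ y.a5 * 1) + (x.a6 * (y.a3 * 1) + (φ x.a6 * (y.a1 * 1) + (x.a7 * (y.a4 * 1) + (x.u7 * (y.a2 * 1) + (φ x.u7 * (y.u1 * 1) + (x.a8 * (y.u3 * 1) + (x.a6 * (x.a7 * (φ y.a1 * 1)) + (x.a6 * (x.a8 * (y.u1 * 1)) + (x.a7 * (x.u7 * (y.u1 * 1)) + (x.a7 * (x.a8 * (φ y.a2 * 1))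 + (φ x.a7 * (y.a1 * (φ y.a5 * 1)) + (x.u7 * (x.a8 * (φ y.u1 * 1)) + (x.u7 * (y.a1 * (y.a3 * 1)) + (φ x.u7 * (y.a1 * (φ y.a1 * 1)) + (x.a8 * (y.a1 * (y.a4 * 1)) + (x.a8 * (y.a3 * (φ y.a3 * 1)) + (φ x.a8 * (y.u1 * (φ y.a5 * 1)) + (φ x.a8 * (y.a2 * (y.a3 * 1)) + (x.a5 * (x.a7 * (x.a7 * (φ y.a1 * 1))) + (x.a5 * (x.a8 * (x.a8 * (φ y.u1 * 1))) + (x.a7 * (x.a7 * (φ x.a7 * (y.u1 * 1))) + (x.a7 * (φ x.a8 * (φ y.a1 * (y.a2 * 1))) + (x.a7 * (φ x.a8 * (y.u1 * (y.a3 * 1))) + (x.a8 * (x.a8 * (y.a1 * (φ y.a2 * 1))) + (x.a8 * (φ x.a8 * (y.u1 * (y.a2 * 1))) + (x.a8 * (φ x.a8 * (φ y.u1 * (y.a3 * 1))) + (φ x.a8 * (y.a1 * (φ y.a1 * (φ y.a5 * 1))) + (x.a7 * (x.a8 * (φ x.a8 * (φ y.a1 * (φ y.u1 * 1)))) + (x.a7 * (x.a8 * (φ x.a8 * (y.u1 * (y.u1 * 1)))) + (x.a7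 * (φ x.a8 * (y.a1 * (φ y.a1 * (y.a3 * 1)))) + (φ x.a7 * (x.a8 * (x.a8 * (y.a1 * (φ y.u1 * 1)))) + (x.u7 * (x.a8 * (y.a1 * (y.a1 * (φ y.a1 * 1)))) + (x.a8 * (φ x.a8 * (y.a1 * (y.u1 * (y.a3 * 1)))) + (x.a5 * (x.a8 * (x.a8 * (y.a1 * (y.a1 * (φ y.a1 * 1))))) + (x.a8 * (x.a8 * (φ x.a8 * (y.a1 * (φ y.a1 * (φ y.u1 * 1))))) + (x.a8 * (x.a8 * (φ x.a8 * (y.a1 * (y.u1 * (y.u1 * 1))))) + (x.a8 * (φ x.a8 * (y.a1 * (y.a1 * (φ y.a1 * (y.a3 * 1))))) + (x.a7 * (x.a8 * (φ x.a8 * (y.a1 * (y.a1 * (φ y.a1 * (φ y.a1 * 1)))))) + (φ x.a7 * (x.a8 * (x.a8 * (y.a1 * (y.a1 * (y.a1 * (φ y.a1 * 1)))))) + (x.a8 * (x.a8 * (φ x.a8 * (y.a1 * (y.a1 * (y.a1 * (φ y.a1 * (φ y.a1 * 1))))))) + 0))))))))))))))))))))))))))))))))))))))))))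
    ring
  · show x.a6 + y.a6 + x.a7 * y.a5 + x.u7 * y.a1 + x.a8 * φ y.a3 + φ x.a8 * y.a2 + x.a7 * φ x.a8 * y.u1 + x.a8 * φ x.a8 * φ y.u1 + x.a8 * y.a1 * y.a5 + x.a7 * φ x.a8 * y.a1 * φ y.a1 + x.a8 * φ x.a8 * y.a1 * y.u1 + x.a8 * φ x.a8 * y.a1 ^ 2 * φ y.a1 = x.a6 * 1 + (y.a6 * 1 + (x.a7 * (y.a5 * 1) + (x.u7 * (y.a1 * 1) + (x.a8 * (φ y.a3 * 1) + (φ x.a8 * (y.a2 * 1) + (x.a7 * (φ x.a8 * (y.u1 * 1)) + (x.a8 * (φ x.a8 * (φ y.u1 * 1)) + (x.a8 * (y.a1 * (y.a5 * 1)) + (x.a7 * (φ x.a8 * (y.a1 * (φ y.a1 * 1))) + (x.a8 * (φ x.a8 * (y.a1 * (y.u1 * 1))) + (x.a8 * (φ x.a8 * (y.a1 * (y.a1 * (φ y.a1 * 1)))) + 0)))))))))))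
    ring
  · show x.a7 + y.a7 + x.a8 * y.a1 = x.a7 * 1 + (y.a7 * 1 + (x.a8 * (y.a1 * 1) + 0))
    ring
  · show x.u7 + y.u7 + x.a7 * φ y.a7 + x.a8 * y.a5 + φ x.a8 * y.a3 + x.a7 * φ x.a8 * φ y.a1 + x.a8 * φ x.a8 * y.u1 + x.a8 * y.a1 * φ y.a7 = x.u7 * 1 + (y.u7 * 1 + (x.a7 * (φ y.a7 * 1) + (x.a8 * (y.a5 * 1) + (φ x.a8 * (y.a3 * 1) + (x.a7 * (φ x.a8 * (φ y.a1 * 1)) + (x.a8 * (φ x.a8 * (y.u1 * 1)) + (x.a8 * (y.a1 * (φ y.a7 * 1)) + 0)))))))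
    ring
  · show x.a8 + y.a8 = x.a8 * 1 + (y.a8 * 1 + 0)
    ring

theorem inv_eq (x : US K) : x⁻¹ = mkU fun k => ev (dbl (cU x ++ [])) (zI.getD k []) := by
  ext
  · show x.a1 = x.a1 * 1 + 0
    ring
  · show x.u1 + x.a1 * φ x.a1 = x.u1 * 1 + (x.a1 * (φ x.a1 * 1) + 0)
    ring
  · show x.a2 + x.a1 * x.a3 + x.u1 * x.a7 + φ x.u1 * x.a8 + x.a1 * x.u1 * x.a8 + x.a1 ^ 2 * φ x.a1 * x.a8 = x.a2 * 1 + (x.a1 * (x.a3 * 1) + (x.u1 * (x.a7 * 1) + (φ x.u1 * (x.a8 * 1) + (x.a1 * (x.u1 * (x.a8 * 1)) + (x.a1 * (x.a1 * (φ x.a1 * (x.a8 * 1))) + 0)))))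
    ring
  · show x.a3 + φ x.a1 * x.a7 + x.u1 * x.a8 + x.a1 * φ x.a1 * x.a8 = x.a3 * 1 + (φ x.a1 * (x.a7 * 1) + (x.u1 * (x.a8 * 1) + (x.a1 * (φ x.a1 * (x.a8 * 1)) + 0)))
    ring
  · show x.u3 + x.a1 * x.a4 + x.u1 * x.a6 + φ x.u1 * x.u7 + x.a2 * x.a5 + φ x.a2 * x.a7 + x.a3 * φ x.a3 + x.a1 * x.u1 * x.u7 + x.a1 * x.a2 * φ x.a7 + x.a1 * φ x.a2 * x.a8 + x.a1 * x.a3 * x.a5 + x.u1 * x.a2 * φ x.a8 + x.u1 * φ x.a3 * x.a8 + φ x.u1 * x.a7 * φ x.a7 + x.a1 ^ 2 * φ x.a1 * x.u7 + x.a1 ^ 2 * x.a3 * φ x.a7 + x.a1 * x.u1 * x.a3 * φ x.a8 + x.a1 * φ x.u1 * φ x.a7 * x.a8 + x.u1 ^ 2 * x.a7 * φ x.a8 + x.u1 * φ x.u1 * x.a8 * φ x.a8 + x.a1 ^ 2 * φ x.a1 * x.a7 * φ x.a7 + x.a1 ^ 2 * x.u1 * φ x.a7 * x.a8 + x.a1 * x.u1 ^ 2 * x.a8 * φ x.a8 + x.a1 ^ 3 * φ x.a1 *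 φ x.a7 * x.a8 + x.a1 ^ 2 * φ x.a1 * x.u1 * x.a8 * φ x.a8 = x.u3 * 1 + (x.a1 * (x.a4 * 1) + (x.u1 * (x.a6 * 1) + (φ x.u1 * (x.u7 * 1) + (x.a2 * (x.a5 * 1) + (φ x.a2 * (x.a7 * 1) + (x.a3 * (φ x.a3 * 1) + (x.a1 * (x.u1 * (x.u7 * 1)) + (x.a1 * (x.a2 * (φ x.a7 * 1)) + (x.a1 * (φ x.a2 * (x.a8 * 1)) + (x.a1 * (x.a3 * (x.a5 * 1)) + (x.u1 * (x.a2 * (φ x.a8 * 1)) + (x.u1 * (φ x.a3 * (x.a8 * 1)) + (φ x.u1 * (x.a7 * (φ x.a7 * 1)) + (x.a1 * (x.a1 * (φ x.a1 * (x.u7 * 1))) + (x.a1 * (x.a1 * (x.a3 * (φ x.a7 * 1))) + (x.a1 * (x.u1 * (x.a3 * (φ x.a8 * 1))) + (x.a1 * (φ x.u1 * (φ x.a7 * (x.a8 * 1))) + (x.u1 * (x.u1 * (x.a7 * (φ x.a8 * 1))) + (x.u1 * (φ x.u1 * (x.a8 * (φ x.a8 * 1))) + (x.a1 * (x.a1 * (φ x.a1 * (x.a7 * (φ x.a7 * 1)))) + (x.a1 * (x.a1 * (x.u1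 * (φ x.a7 * (x.a8 * 1)))) + (x.a1 * (x.u1 * (x.u1 * (x.a8 * (φ x.a8 * 1)))) + (x.a1 * (x.a1 * (x.a1 * (φ x.a1 * (φ x.a7 * (x.a8 * 1))))) + (x.a1 * (x.a1 * (φ x.a1 * (x.u1 * (x.a8 * (φ x.a8 * 1))))) + 0))))))))))))))))))))))))
    ring
  · show x.a4 + φ x.a1 * x.a6 + x.u1 * x.u7 + x.a2 * φ x.a7 + φ x.a2 * x.a8 + x.a3 * x.a5 + x.a1 * φ x.a1 * x.u7 + φ x.a1 * x.a2 * φ x.a8 + φ x.a1 * φ x.a3 * x.a8 + x.u1 * x.a3 * φ x.a8 + φ x.u1 * φ x.a7 * x.a8 + x.a1 * φ x.a1 * x.a3 * φ x.a8 + φ x.a1 * φ x.u1 * x.a8 * φ x.a8 + x.u1 ^ 2 * x.a8 * φ x.a8 + x.a1 ^ 2 * φ x.a1 ^ 2 * x.a8 * φ x.a8 = x.a4 * 1 + (φ x.a1 * (x.a6 * 1) + (x.u1 * (x.u7 * 1) + (x.a2 * (φ x.a7 * 1) + (φ x.a2 * (x.a8 * 1) + (x.a3 * (x.a5 * 1) + (x.a1 * (φ x.a1 * (x.u7 * 1)) + (φ x.a1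 * (x.a2 * (φ x.a8 * 1)) + (φ x.a1 * (φ x.a3 * (x.a8 * 1)) + (x.u1 * (x.a3 * (φ x.a8 * 1)) + (φ x.u1 * (φ x.a7 * (x.a8 * 1)) + (x.a1 * (φ x.a1 * (x.a3 * (φ x.a8 * 1))) + (φ x.a1 * (φ x.u1 * (x.a8 * (φ x.a8 * 1))) + (x.u1 * (x.u1 * (x.a8 * (φ x.a8 * 1))) + (x.a1 * (x.a1 * (φ x.a1 * (φ x.a1 * (x.a8 * (φ x.a8 * 1))))) + 0))))))))))))))
    ring
  · show x.a5 + x.a1 * φ x.a7 + x.u1 * φ x.a8 = x.a5 * 1 + (x.a1 * (φ x.a7 * 1) + (x.u1 * (φ x.a8 * 1) + 0))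
    ring
  · show x.u5 + x.a1 * φ x.a6 + x.u1 * φ x.u7 + x.a2 * x.u7 + x.a3 * x.a6 + x.u3 * x.a8 + x.a4 * x.a7 + x.a5 * φ x.a5 + x.a1 * φ x.a5 * φ x.a7 + φ x.a1 * x.a6 * x.a7 + x.u1 * φ x.a5 * φ x.a8 + x.u1 * x.a6 * x.a8 + x.u1 * x.a7 * x.u7 + φ x.u1 * x.u7 * x.a8 + x.a2 * x.a3 * φ x.a8 + x.a2 * x.a5 * x.a8 + x.a2 * x.a7 * φ x.a7 + φ x.a2 * x.a7 * x.a8 + x.a3 * x.a5 * x.a7 + x.a1 * φ x.a1 * x.a6 * x.a8 + x.a1 * φ x.a1 * x.a7 * x.u7 + x.a1 * φ x.a2 * x.a8 ^ 2 + x.a1 * x.a3 ^ 2 * φ x.a8 + φ x.a1 * x.a2 * x.a7 * φ x.a8 + φ x.a1 * φ x.a3 * x.a7 * x.a8 + x.u1 * x.a2 * x.a8 * φ x.a8 + x.u1 * x.a3 * x.a7 * φ x.a8 + x.u1 * x.a7 ^ 2 * φ x.a7 + φ x.u1 * x.a3 * x.a8 * φ x.a8 + φ x.u1 * x.a7 * φ x.a7 * x.a8 + x.a1 * φ x.a1 * x.a2 * x.a8 * φ x.a8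 + x.a1 * φ x.a1 * x.a3 * x.a7 * φ x.a8 + x.a1 * φ x.a1 * φ x.a3 * x.a8 ^ 2 + x.a1 * φ x.u1 * φ x.a7 * x.a8 ^ 2 + φ x.a1 * φ x.u1 * x.a7 * x.a8 * φ x.a8 + x.u1 ^ 2 * x.a7 * x.a8 * φ x.a8 + x.a1 * φ x.a1 * φ x.u1 * x.a8 ^ 2 * φ x.a8 + x.a1 * x.u1 ^ 2 * x.a8 ^ 2 * φ x.a8 + x.a1 ^ 2 * φ x.a1 ^ 2 * x.a7 * x.a8 * φ x.a8 + x.a1 ^ 3 * φ x.a1 ^ 2 * x.a8 ^ 2 * φ x.a8 = x.u5 * 1 + (x.a1 * (φ x.a6 * 1) + (x.u1 * (φ x.u7 * 1) + (x.a2 * (x.u7 * 1) + (x.a3 * (x.a6 * 1) + (x.u3 * (x.a8 * 1) + (x.a4 * (x.a7 * 1) + (x.a5 * (φ x.a5 * 1) + (x.a1 * (φ x.a5 * (φ x.a7 * 1)) + (φ x.a1 * (x.a6 * (x.a7 * 1)) + (x.u1 * (φ x.a5 * (φ x.a8 * 1)) + (x.u1 * (x.a6 * (x.a8 * 1)) + (x.u1 * (x.a7 * (x.u7 * 1)) + (φ x.u1 * (x.u7 * (x.a8 * 1)) + (x.a2 * (x.a3 * (φ x.a8 *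 1)) + (x.a2 * (x.a5 * (x.a8 * 1)) + (x.a2 * (x.a7 * (φ x.a7 * 1)) + (φ x.a2 * (x.a7 * (x.a8 * 1)) + (x.a3 * (x.a5 * (x.a7 * 1)) + (x.a1 * (φ x.a1 * (x.a6 * (x.a8 * 1))) + (x.a1 * (φ x.a1 * (x.a7 * (x.u7 * 1))) + (x.a1 * (φ x.a2 * (x.a8 * (x.a8 * 1))) + (x.a1 * (x.a3 * (x.a3 * (φ x.a8 * 1))) + (φ x.a1 * (x.a2 * (x.a7 * (φ x.a8 * 1))) + (φ x.a1 * (φ x.a3 * (x.a7 * (x.a8 * 1))) + (x.u1 * (x.a2 * (x.a8 * (φ x.a8 * 1))) + (x.u1 * (x.a3 * (x.a7 * (φ x.a8 * 1))) + (x.u1 * (x.a7 * (x.a7 * (φ x.a7 * 1))) + (φ x.u1 * (x.a3 * (x.a8 * (φ x.a8 * 1))) + (φ x.u1 * (x.a7 * (φ x.a7 * (x.a8 * 1))) + (x.a1 * (φ x.a1 * (x.a2 * (x.a8 * (φ x.a8 * 1)))) + (x.a1 * (φ x.a1 * (x.a3 * (x.a7 * (φ x.a8 * 1)))) + (x.a1 * (φ x.a1 * (φ x.a3 * (x.a8 * (x.a8 * 1))))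 + (x.a1 * (φ x.u1 * (φ x.a7 * (x.a8 * (x.a8 * 1)))) + (φ x.a1 * (φ x.u1 * (x.a7 * (x.a8 * (φ x.a8 * 1)))) + (x.u1 * (x.u1 * (x.a7 * (x.a8 * (φ x.a8 * 1)))) + (x.a1 * (φ x.a1 * (φ x.u1 * (x.a8 * (x.a8 * (φ x.a8 * 1))))) + (x.a1 * (x.u1 * (x.u1 * (x.a8 * (x.a8 * (φ x.a8 * 1))))) + (x.a1 * (x.a1 * (φ x.a1 * (φ x.a1 * (x.a7 * (x.a8 * (φ x.a8 * 1)))))) + (x.a1 * (x.a1 * (x.a1 * (φ x.a1 * (φ x.a1 * (x.a8 * (x.a8 * (φ x.a8 * 1))))))) + 0)))))))))))))))))))))))))))))))))))))))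
    ring
  · show x.a6 + x.a1 * x.u7 + x.a2 * φ x.a8 + φ x.a3 * x.a8 + x.a5 * x.a7 + x.a1 * x.a3 * φ x.a8 + x.a1 * x.a5 * x.a8 + x.a1 * x.a7 * φ x.a7 + x.u1 * x.a7 * φ x.a8 + φ x.u1 * x.a8 * φ x.a8 + x.a1 * x.u1 * x.a8 * φ x.a8 + x.a1 ^ 2 * φ x.a1 * x.a8 * φ x.a8 = x.a6 * 1 + (x.a1 * (x.u7 * 1) + (x.a2 * (φ x.a8 * 1) + (φ x.a3 * (x.a8 * 1) + (x.a5 * (x.a7 * 1) + (x.a1 * (x.a3 * (φ x.a8 * 1)) + (x.a1 * (x.a5 * (x.a8 * 1)) + (x.a1 * (x.a7 * (φ x.a7 * 1)) + (x.u1 * (x.a7 * (φ x.a8 * 1)) + (φ x.u1 * (x.a8 * (φ x.a8 * 1)) + (x.a1 * (x.u1 * (x.a8 * (φ x.a8 * 1))) + (x.a1 * (x.a1 * (φ x.a1 * (x.a8 * (φ x.a8 * 1)))) + 0)))))))))))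
    ring
  · show x.a7 + x.a1 * x.a8 = x.a7 * 1 + (x.a1 * (x.a8 * 1) + 0)
    ring
  · show x.u7 + x.a3 * φ x.a8 + x.a5 * x.a8 + x.a7 * φ x.a7 + φ x.a1 * x.a7 * φ x.a8 + x.u1 * x.a8 * φ x.a8 + x.a1 * φ x.a1 * x.a8 * φ x.a8 = x.u7 * 1 + (x.a3 * (φ x.a8 * 1) + (x.a5 * (x.a8 * 1) + (x.a7 * (φ x.a7 * 1) + (φ x.a1 * (x.a7 * (φ x.a8 * 1)) + (x.u1 * (x.a8 * (φ x.a8 * 1)) + (x.a1 * (φ x.a1 * (x.a8 * (φ x.a8 * 1))) + 0))))))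
    ring
  · show x.a8 = x.a8 * 1 + 0
    ring

theorem n1_eq (x : US K) : n1 x = mkU fun k => ev (dbl (cU x ++ [])) (z1.getD k []) := by
  ext
  · show 0 = 0
    rfl
  · show 0 = 0
    rfl
  · show x.a8 = x.a8 * 1 + 0
    ring
  · show x.a7 = x.a7 * 1 + 0
    ring
  · show x.u7 + x.a3 * φ x.a8 + x.a5 * x.a8 = x.u7 * 1 + (x.a3 * (φ x.a8 * 1) + (x.a5 * (x.a8 * 1) + 0))
    ring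
  · show x.a6 + x.a2 * φ x.a8 + φ x.a3 * x.a8 + x.a5 * x.a7 = x.a6 * 1 + (x.a2 * (φ x.a8 * 1) + (φ x.a3 * (x.a8 * 1) + (x.a5 * (x.a7 * 1) + 0)))
    ring
  · show x.a5 = x.a5 * 1 + 0
    ring
  · show x.u5 + x.a2 * x.u7 + x.a3 * x.a6 + x.u3 * x.a8 + x.a4 * x.a7 + x.a2 * x.a3 * φ x.a8 + x.a2 * x.a5 * x.a8 + x.a2 * x.a7 * φ x.a7 + φ x.a2 * x.a7 * x.a8 + x.a3 * x.a5 * x.a7 = x.u5 * 1 + (x.a2 * (x.u7 * 1) + (x.a3 * (x.a6 * 1) + (x.u3 * (x.a8 * 1) + (x.a4 * (x.a7 * 1) + (x.a2 * (x.a3 * (φ x.a8 * 1)) + (x.a2 * (x.a5 * (x.a8 * 1)) + (x.a2 * (x.a7 * (φ x.a7 * 1)) + (φ x.a2 * (x.a7 * (x.a8 * 1)) + (x.a3 * (x.a5 * (x.a7 * 1)) + 0)))))))))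
    ring
  · show x.a4 + x.a2 * φ x.a7 + φ x.a2 * x.a8 + x.a3 * x.a5 = x.a4 * 1 + (x.a2 * (φ x.a7 * 1) + (φ x.a2 * (x.a8 * 1) + (x.a3 * (x.a5 * 1) + 0)))
    ring
  · show x.a3 = x.a3 * 1 + 0
    ring
  · show x.u3 + x.a2 * x.a5 + φ x.a2 * x.a7 = x.u3 * 1 + (x.a2 * (x.a5 * 1) + (φ x.a2 * (x.a7 * 1) + 0))
    ring
  · show x.a2 = x.a2 * 1 + 0
    ring

theorem n2_eq (x : US K) : n2 x = mkU fun k => ev (dbl (cU x ++ [])) (z2.getD k []) := by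
  ext
  · show x.a7 = x.a7 * 1 + 0
    ring
  · show x.u7 = x.u7 * 1 + 0
    ring
  · show x.a6 + x.a1 * x.u7 + x.a5 * x.a7 + x.a1 * x.a7 * φ x.a7 = x.a6 * 1 + (x.a1 * (x.u7 * 1) + (x.a5 * (x.a7 * 1) + (x.a1 * (x.a7 * (φ x.a7 * 1)) + 0)))
    ring
  · show x.a5 + x.a1 * φ x.a7 = x.a5 * 1 + (x.a1 * (φ x.a7 * 1) + 0)
    ring
  · show x.u5 + x.a1 * φ x.a6 + x.u1 * φ x.u7 + x.a2 * x.u7 + x.a3 * x.a6 + x.a4 * x.a7 + φ x.a1 * x.a6 * x.a7 + x.u1 * x.a7 * x.u7 + x.a2 * x.a7 * φ x.a7 + x.a3 * x.a5 * x.a7 + x.a1 * φ x.a1 * x.a7 * x.u7 + φ x.a1 * x.a5 * x.a7 ^ 2 + x.u1 * x.a7 ^ 2 * φ x.a7 + x.a1 * φ x.a1 * x.a7 ^ 2 * φ x.a7 = x.u5 * 1 + (x.a1 * (φ x.a6 * 1) + (x.u1 * (φ x.u7 * 1) + (x.a2 * (x.u7 * 1) + (x.a3 * (x.a6 * 1) + (x.a4 * (x.a7 * 1) +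 (φ x.a1 * (x.a6 * (x.a7 * 1)) + (x.u1 * (x.a7 * (x.u7 * 1)) + (x.a2 * (x.a7 * (φ x.a7 * 1)) + (x.a3 * (x.a5 * (x.a7 * 1)) + (x.a1 * (φ x.a1 * (x.a7 * (x.u7 * 1))) + (φ x.a1 * (x.a5 * (x.a7 * (x.a7 * 1))) + (x.u1 * (x.a7 * (x.a7 * (φ x.a7 * 1))) + (x.a1 * (φ x.a1 * (x.a7 * (x.a7 * (φ x.a7 * 1)))) + 0)))))))))))))
    ring
  · show x.a4 + φ x.a1 * x.a6 + x.u1 * x.u7 + x.a2 * φ x.a7 + x.a3 * x.a5 + x.a1 * φ x.a1 * x.u7 = x.a4 * 1 + (φ x.a1 * (x.a6 * 1) + (x.u1 * (x.u7 * 1) + (x.a2 * (φ x.a7 * 1) + (x.a3 * (x.a5 * 1) + (x.a1 * (φ x.a1 * (x.u7 * 1)) + 0)))))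
    ring
  · show x.a3 + φ x.a1 * x.a7 = x.a3 * 1 + (φ x.a1 * (x.a7 * 1) + 0)
    ring
  · show x.u3 + x.a1 * x.a4 + x.u1 * x.a6 + φ x.u1 * x.u7 + x.a2 * x.a5 + φ x.a2 * x.a7 + x.a1 * x.u1 * x.u7 + x.a1 * x.a2 * φ x.a7 + x.a1 * x.a3 * x.a5 + φ x.a1 * φ x.a3 * x.a7 + φ x.u1 * x.a7 * φ x.a7 + x.a1 ^ 2 * φ x.a1 * x.u7 = x.u3 * 1 + (x.a1 * (x.a4 * 1) + (x.u1 * (x.a6 * 1) + (φ x.u1 * (x.u7 * 1) + (x.a2 * (x.a5 * 1) + (φ x.a2 * (x.a7 * 1) + (x.a1 * (x.u1 * (x.u7 * 1)) + (x.a1 * (x.a2 * (φ x.a7 * 1)) + (x.a1 * (x.a3 * (x.a5 * 1)) + (φ x.a1 * (φ x.a3 * (x.a7 * 1)) + (φ x.u1 * (x.a7 * (φ x.a7 * 1)) + (x.a1 * (x.a1 * (φ x.a1 * (x.u7 * 1))) + 0)))))))))))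
    ring
  · show x.a2 + x.a1 * x.a3 + x.u1 * x.a7 = x.a2 * 1 + (x.a1 * (x.a3 * 1) + (x.u1 * (x.a7 * 1) + 0))
    ring
  · show x.a1 = x.a1 * 1 + 0
    ring
  · show x.u1 = x.u1 * 1 + 0
    ring
  · show 0 = 0
    rfl

theorem emb0_mul (x y : US K) : emb0 (x * y) = emb0 x * emb0 y := by
  have e : (wP vY).map (fun a => (a.1, ev (dbl (cU x ++ cU y)) a.2)) = wU y := by
    rw [← wU_mkU]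
    simp only [vY, show ∀ k, 24 + 2 * k = 2 * (12 + k) from fun k => by ring, ev_var]
    rfl
  rw [emb0, mul_eq, wU_mkU, ← cM.eq _ (by simp [dbl, cU]), List.map_append, wU_X, e,
    okF4.wN_append]
  rfl

theorem emb0_inv (x : US K) : emb0 x⁻¹ = (emb0 x)⁻¹ := by
  rw [emb0, inv_eq, wU_mkU, ← cI.eq _ (by simp [dbl, cU]), List.map_reverse, wU_X, emb0]
  generalize wU x = l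
  induction l with
  | nil => exact inv_one.symm
  | cons a l ih =>
    rw [List.reverse_cons, okF4.wN_append, ih, okF4.wN_cons, okF4.wN_cons, okF4.wN_nil, mul_one,
      mul_inv_rev]
    unfold Ok.xN
    split_ifs
    exacts [by rw [okF4.xG_inv, CharTwo.neg_eq], by rw [inv_one]]

theorem emb0_inj : Function.Injective (emb0 (K := K)) := fun x y h => by
  have := okF4.wN_inj (p := 2) 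
    (List.zipWith (fun a b : ℕ × K => (a.1, a.2, b.2)) (wU x) (wU y))
    (show ([27, 25, 28, 30, 37, 32, 35, 31, 40, 46, 39, 45, 29, 41, 44, 47, 38, 43, 34, 26, 36, 42,
      33, 24].all fun a => posN chevF4 cF4 a) = true by decide +kernel)
    (show [27, 25, 28, 30, 37, 32, 35, 31, 40, 46, 39, 45, 29, 41, 44, 47, 38, 43, 34, 26, 36, 42,
      33, 24].Nodup by decide) h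
  simp only [wU, List.zipWith_cons_cons, List.zipWith_nil_left, List.forall_mem_cons,
    (φ (K := K)).injective.eq_iff] at this
  ext <;> simp only [this]

instance : Group (US K) := Group.ofLeftAxioms
  (fun x y z => emb0_inj (by simp only [emb0_mul, mul_assoc])) (fun x => by ext <;> simp)
  fun x => emb0_inj (by
    rw [emb0_mul, emb0_inv, inv_mul_cancel]
    simp [emb0, wU, okF4.wN_cons, okF4.xN_zero, okF4.wN_nil])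

/-- the embedding into `F₄(K)` -/
noncomputable def emb : US K →* chevF4.group K := MonoidHom.mk' emb0 emb0_mul

theorem emb_inj : Function.Injective (emb (K := K)) := emb0_inj

instance : Finite (US K) := Finite.of_injective _ emb_inj

theorem emb_mem (x : US K) : emb x ∈ LT.US (okF4.xG K) {r | 0 ≤ okF4.rs.rt r} :=
  okF4.wN_mem fun a ha r hr => okF4.pos_of (hr ▸ List.all_eq_true.1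
    (show ([27, 25, 28, 30, 37, 32, 35, 31, 40, 46, 39, 45, 29, 41, 44, 47, 38, 43, 34, 26, 36, 42,
      33, 24].all fun a => posN chevF4 cF4 a) = true by decide +kernel) _
    (List.mem_map_of_mem (f := Prod.fst) ha))

theorem isPGroup_US : IsPGroup 2 (US K) :=
  (okF4.bn (F := K) 2).pU.of_injective (emb.codRestrict _ emb_mem)
    fun _ _ h => emb_inj (congrArg Subtype.val h)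

theorem isPGroup_top : IsPGroup 2 (⊤ : Subgroup (US K)) := isPGroup_US.to_subgroup _

end Cfsg.Agent.RF
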