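import Cfsg.Agent.Lib.RF.Gen
import Cfsg.Agent.Lib.RF.US

/-!
# S5262: subgroups of the Sylow subgroup and coordinate lemmas (see notes/RF.md)
-/

set_option autoImplicit false
set_option linter.unusedSectionVars false
set_option linter.unusedVariables false

namespace Cfsg.Agent.RF

open Subgroup Cfsg Cfsg.FusionSystem U5
open scoped commutatorElement

variable {K : Type*} [Field K] [TF K] {x y z t : US K}

theorem mul_phi {s : K} (h : s * φ s = 0) : s = 0 := by simpa using h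

theorem exists_phi (s : K) : ∃ r : K, φ r = s :=
  Finite.surjective_of_injective (φ (K := K)).injective s

theorem exists_mul_phi (s : K) : ∃ r : K, r * φ r = s := by
  refine Finite.surjective_of_injective (f := fun r : K => r * φ r) (fun a b h => ?_) s
  by_cases hb : b = 0
  · exact (mul_phi (by simpa [hb] using h)).trans hb.symm
  have h1 := congrArg φ h
  simp only [map_mul, phi_phi] at h h1
  have h2 : φ b ≠ 0 := by simpa using hb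
  have h3 : a ≠ 0 := fun e => hb (mul_phi (by simpa [e] using h.symm))
  apply mul_left_cancel₀ (mul_ne_zero hb h2)
  linear_combination a * h.symm + h1

@[simps] def x1 (s u : K) : US K := ⟨s, u, 0, 0, 0, 0, 0, 0, 0, 0, 0, 0⟩
@[simps] def x2 (s : K) : US K := ⟨0, 0, s, 0, 0, 0, 0, 0, 0, 0, 0, 0⟩
@[simps] def x3 (s u : K) : US K := ⟨0, 0, 0, s, u, 0, 0, 0, 0, 0, 0, 0⟩
@[simps] def x4 (s : K) : US K := ⟨0, 0, 0, 0, 0, s, 0, 0, 0, 0, 0, 0⟩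
@[simps] def x5 (s u : K) : US K := ⟨0, 0, 0, 0, 0, 0, s, u, 0, 0, 0, 0⟩
@[simps] def x6 (s : K) : US K := ⟨0, 0, 0, 0, 0, 0, 0, 0, s, 0, 0, 0⟩
@[simps] def x7 (s u : K) : US K := ⟨0, 0, 0, 0, 0, 0, 0, 0, 0, s, u, 0⟩
@[simps] def x8 (s : K) : US K := ⟨0, 0, 0, 0, 0, 0, 0, 0, 0, 0, 0, s⟩

variable (K) in
def Q2 : Subgroup (US K) where
  carrier := {x | x.a8 = 0}
  one_mem' := rfl
  mul_mem' := fun {x y} hx hy => by simp_all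
  inv_mem' := fun {x} hx => by simp_all

theorem mem_Q2 : x ∈ Q2 K ↔ x.a8 = 0 := Iff.rfl

variable (K) in
def Q1 : Subgroup (US K) where
  carrier := {x | x.a1 = 0 ∧ x.u1 = 0}
  one_mem' := ⟨rfl, rfl⟩
  mul_mem' := fun {x y} hx hy => by simp_all
  inv_mem' := fun {x} hx => by simp_all

theorem mem_Q1 : x ∈ Q1 K ↔ x.a1 = 0 ∧ x.u1 = 0 := Iff.rfl

variable (K) in
def Z7 : Subgroup (US K) where
  carrier := {x | x.a8 = 0 ∧ x.a1 = 0}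
  one_mem' := by simp
  mul_mem' := fun {x y} hx hy => by simp_all
  inv_mem' := fun {x} hx => by simp_all

theorem mem_Z7 : x ∈ Z7 K ↔ x.a8 = 0 ∧ x.a1 = 0 := Iff.rfl

instance : (Z7 K).Normal := ⟨fun x hx t => by simp [mem_Z7, mem_Z7.1 hx]; (repeat' apply And.intro) <;> grind⟩

variable (K) in
def XX : Subgroup (US K) where
  carrier := {x | x.a8 = 0 ∧ x.a1 = 0 ∧ x.a7 = 0}
  one_mem' := by simp
  mul_mem' := fun {x y} hx hy => by simp_all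
  inv_mem' := fun {x} hx => by simp_all

theorem mem_XX : x ∈ XX K ↔ x.a8 = 0 ∧ x.a1 = 0 ∧ x.a7 = 0 := Iff.rfl

instance : (XX K).Normal := ⟨fun x hx t => by simp [mem_XX, mem_XX.1 hx]; (repeat' apply And.intro) <;> grind⟩

variable (K) in
def Z6 : Subgroup (US K) where
  carrier := {x | x.a8 = 0 ∧ x.a1 = 0 ∧ x.a7 = 0 ∧ x.u1 = 0}
  one_mem' := by simp
  mul_mem' := fun {x y} hx hy => by simp_all
  inv_mem' := fun {x} hx => by simp_all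

theorem mem_Z6 : x ∈ Z6 K ↔ x.a8 = 0 ∧ x.a1 = 0 ∧ x.a7 = 0 ∧ x.u1 = 0 := Iff.rfl

instance : (Z6 K).Normal := ⟨fun x hx t => by simp [mem_Z6, mem_Z6.1 hx]; (repeat' apply And.intro) <;> grind⟩

variable (K) in
def X4 : Subgroup (US K) where
  carrier := {x | x.a8 = 0 ∧ x.a1 = 0 ∧ x.a7 = 0 ∧ x.u1 = 0 ∧ x.a3 = 0}
  one_mem' := by simp
  mul_mem' := fun {x y} hx hy => by simp_all
  inv_mem' := fun {x} hx => by simp_all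

theorem mem_X4 : x ∈ X4 K ↔ x.a8 = 0 ∧ x.a1 = 0 ∧ x.a7 = 0 ∧ x.u1 = 0 ∧ x.a3 = 0 := Iff.rfl

instance : (X4 K).Normal := ⟨fun x hx t => by simp [mem_X4, mem_X4.1 hx]; (repeat' apply And.intro) <;> grind⟩

variable (K) in
def Z5 : Subgroup (US K) where
  carrier := {x | x.a8 = 0 ∧ x.a1 = 0 ∧ x.a7 = 0 ∧ x.u1 = 0 ∧ x.a3 = 0 ∧ x.a5 = 0}
  one_mem' := by simp
  mul_mem' := fun {x y} hx hy => by simp_all
  inv_mem' := fun {x} hx => by simp_all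

theorem mem_Z5 : x ∈ Z5 K ↔ x.a8 = 0 ∧ x.a1 = 0 ∧ x.a7 = 0 ∧ x.u1 = 0 ∧ x.a3 = 0 ∧ x.a5 = 0 := Iff.rfl

instance : (Z5 K).Normal := ⟨fun x hx t => by simp [mem_Z5, mem_Z5.1 hx]; (repeat' apply And.intro) <;> grind⟩

variable (K) in
def VV : Subgroup (US K) where
  carrier := {x | x.a8 = 0 ∧ x.a1 = 0 ∧ x.a7 = 0 ∧ x.u1 = 0 ∧ x.a3 = 0 ∧ x.a5 = 0 ∧ x.a2 = 0}
  one_mem' := by simp
  mul_mem' := fun {x y} hx hy => by simp_all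
  inv_mem' := fun {x} hx => by simp_all

theorem mem_VV : x ∈ VV K ↔ x.a8 = 0 ∧ x.a1 = 0 ∧ x.a7 = 0 ∧ x.u1 = 0 ∧ x.a3 = 0 ∧ x.a5 = 0 ∧ x.a2 = 0 := Iff.rfl

instance : (VV K).Normal := ⟨fun x hx t => by simp [mem_VV, mem_VV.1 hx]; (repeat' apply And.intro) <;> grind⟩

variable (K) in
def Z4 : Subgroup (US K) where
  carrier := {x | x.a8 = 0 ∧ x.a1 = 0 ∧ x.a7 = 0 ∧ x.u1 = 0 ∧ x.a3 = 0 ∧ x.a5 = 0 ∧ x.a2 = 0 ∧ x.u7 = 0}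
  one_mem' := by simp
  mul_mem' := fun {x y} hx hy => by simp_all
  inv_mem' := fun {x} hx => by simp_all

theorem mem_Z4 : x ∈ Z4 K ↔ x.a8 = 0 ∧ x.a1 = 0 ∧ x.a7 = 0 ∧ x.u1 = 0 ∧ x.a3 = 0 ∧ x.a5 = 0 ∧ x.a2 = 0 ∧ x.u7 = 0 := Iff.rfl

instance : (Z4 K).Normal := ⟨fun x hx t => by simp [mem_Z4, mem_Z4.1 hx]; (repeat' apply And.intro) <;> grind⟩

variable (K) in
def Z3 : Subgroup (US K) where
  carrier := {x | x.a8 = 0 ∧ x.a1 = 0 ∧ x.a7 = 0 ∧ x.u1 = 0 ∧ x.a3 = 0 ∧ x.a5 = 0 ∧ x.a2 = 0 ∧ x.u7 = 0 ∧ x.a6 = 0}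
  one_mem' := by simp
  mul_mem' := fun {x y} hx hy => by simp_all
  inv_mem' := fun {x} hx => by simp_all

theorem mem_Z3 : x ∈ Z3 K ↔ x.a8 = 0 ∧ x.a1 = 0 ∧ x.a7 = 0 ∧ x.u1 = 0 ∧ x.a3 = 0 ∧ x.a5 = 0 ∧ x.a2 = 0 ∧ x.u7 = 0 ∧ x.a6 = 0 := Iff.rfl

instance : (Z3 K).Normal := ⟨fun x hx t => by simp [mem_Z3, mem_Z3.1 hx]; (repeat' apply And.intro) <;> grind⟩

variable (K) in
def Z2 : Subgroup (US K) where
  carrier := {x | x.a8 = 0 ∧ x.a1 = 0 ∧ x.a7 = 0 ∧ x.u1 = 0 ∧ x.a3 = 0 ∧ x.a5 = 0 ∧ x.a2 = 0 ∧ x.u7 = 0 ∧ x.a6 = 0 ∧ x.a4 = 0}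
  one_mem' := by simp
  mul_mem' := fun {x y} hx hy => by simp_all
  inv_mem' := fun {x} hx => by simp_all

theorem mem_Z2 : x ∈ Z2 K ↔ x.a8 = 0 ∧ x.a1 = 0 ∧ x.a7 = 0 ∧ x.u1 = 0 ∧ x.a3 = 0 ∧ x.a5 = 0 ∧ x.a2 = 0 ∧ x.u7 = 0 ∧ x.a6 = 0 ∧ x.a4 = 0 := Iff.rfl

instance : (Z2 K).Normal := ⟨fun x hx t => by simp [mem_Z2, mem_Z2.1 hx]; (repeat' apply And.intro) <;> grind⟩

variable (K) in
def Z1 : Subgroup (US K) where
  carrier := {x | x.a8 = 0 ∧ x.a1 = 0 ∧ x.a7 = 0 ∧ x.u1 = 0 ∧ x.a3 = 0 ∧ x.a5 = 0 ∧ x.a2 = 0 ∧ x.u7 = 0 ∧ x.a6 = 0 ∧ x.a4 = 0 ∧ x.u3 = 0}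
  one_mem' := by simp
  mul_mem' := fun {x y} hx hy => by simp_all
  inv_mem' := fun {x} hx => by simp_all

theorem mem_Z1 : x ∈ Z1 K ↔ x.a8 = 0 ∧ x.a1 = 0 ∧ x.a7 = 0 ∧ x.u1 = 0 ∧ x.a3 = 0 ∧ x.a5 = 0 ∧ x.a2 = 0 ∧ x.u7 = 0 ∧ x.a6 = 0 ∧ x.a4 = 0 ∧ x.u3 = 0 := Iff.rfl

instance : (Z1 K).Normal := ⟨fun x hx t => by simp [mem_Z1, mem_Z1.1 hx]; (repeat' apply And.intro) <;> grind⟩

variable (K) in
def WV : Subgroup (US K) where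
  carrier := {x | x.a8 = 0 ∧ x.a1 = 0 ∧ x.a7 = 0 ∧ x.u1 = 0 ∧ x.a3 = 0 ∧ x.a2 = 0}
  one_mem' := by simp
  mul_mem' := fun {x y} hx hy => by simp_all
  inv_mem' := fun {x} hx => by simp_all

theorem mem_WV : x ∈ WV K ↔ x.a8 = 0 ∧ x.a1 = 0 ∧ x.a7 = 0 ∧ x.u1 = 0 ∧ x.a3 = 0 ∧ x.a2 = 0 := Iff.rfl

instance : (WV K).Normal := ⟨fun x hx t => by simp [mem_WV, mem_WV.1 hx]; (repeat' apply And.intro) <;> grind⟩

variable (K) in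
def AQ : Subgroup (US K) where
  carrier := {x | x.a1 = 0}
  one_mem' := by simp
  mul_mem' := fun {x y} hx hy => by simp_all
  inv_mem' := fun {x} hx => by simp_all

theorem mem_AQ : x ∈ AQ K ↔ x.a1 = 0 := Iff.rfl

instance : (AQ K).Normal := ⟨fun x hx t => by simp [mem_AQ, mem_AQ.1 hx]; grind⟩


instance : (Q1 K).Normal := ⟨fun x hx t => by simp [mem_Q1, mem_Q1.1 hx]; (repeat' apply And.intro) <;> grind⟩
instance : (Q2 K).Normal := ⟨fun x hx t => by simp [mem_Q2, mem_Q2.1 hx]; grind⟩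

theorem Z1_le_Z2 : Z1 K ≤ Z2 K := fun x hx => by simp [mem_Z2, mem_Z1.1 hx]
theorem Z2_le_Z3 : Z2 K ≤ Z3 K := fun x hx => by simp [mem_Z3, mem_Z2.1 hx]
theorem Z3_le_Z4 : Z3 K ≤ Z4 K := fun x hx => by simp [mem_Z4, mem_Z3.1 hx]
theorem Z4_le_VV : Z4 K ≤ VV K := fun x hx => by simp [mem_VV, mem_Z4.1 hx]
theorem VV_le_Z5 : VV K ≤ Z5 K := fun x hx => by simp [mem_Z5, mem_VV.1 hx]
theorem Z5_le_X4 : Z5 K ≤ X4 K := fun x hx => by simp [mem_X4, mem_Z5.1 hx]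
theorem X4_le_Z6 : X4 K ≤ Z6 K := fun x hx => by simp [mem_Z6, mem_X4.1 hx]
theorem Z6_le_XX : Z6 K ≤ XX K := fun x hx => by simp [mem_XX, mem_Z6.1 hx]
theorem XX_le_Z7 : XX K ≤ Z7 K := fun x hx => by simp [mem_Z7, mem_XX.1 hx]
theorem Z7_le_Q2 : Z7 K ≤ Q2 K := fun x hx => hx.1
theorem VV_le_WV : VV K ≤ WV K := fun x hx => by simp [mem_WV, mem_VV.1 hx]
theorem WV_le_X4 : WV K ≤ X4 K := fun x hx => by simp [mem_X4, mem_WV.1 hx]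
theorem Z6_le_Q1 : Z6 K ≤ Q1 K := fun x hx => ⟨hx.2.1, hx.2.2.2⟩
theorem Z4_le_Z5 : Z4 K ≤ Z5 K := Z4_le_VV.trans VV_le_Z5
theorem Z5_le_Z6 : Z5 K ≤ Z6 K := Z5_le_X4.trans X4_le_Z6
theorem Z6_le_Z7 : Z6 K ≤ Z7 K := Z6_le_XX.trans XX_le_Z7
theorem Z3_le_VV : Z3 K ≤ VV K := Z3_le_Z4.trans Z4_le_VV
theorem Z2_le_VV : Z2 K ≤ VV K := Z2_le_Z3.trans Z3_le_VV
theorem Z1_le_VV : Z1 K ≤ VV K := Z1_le_Z2.trans Z2_le_VV
theorem Z1_le_Z3 : Z1 K ≤ Z3 K := Z1_le_Z2.trans Z2_le_Z3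
theorem VV_le_XX : VV K ≤ XX K := VV_le_Z5.trans (Z5_le_Z6.trans Z6_le_XX)
theorem VV_le_Q1 : VV K ≤ Q1 K := VV_le_Z5.trans (Z5_le_Z6.trans Z6_le_Q1)
theorem XX_le_Q2 : XX K ≤ Q2 K := XX_le_Z7.trans Z7_le_Q2

theorem cm_symm {W : Type*} [Group W] {N : Subgroup W} [hN : N.Normal] {x t : W}
    (h : x⁻¹ * (t * x * t⁻¹) ∈ N) : t⁻¹ * (x * t * x⁻¹) ∈ N := by
  convert hN.conj_mem _ (hN.conj_mem _ (inv_mem h) x) t⁻¹ using 1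
  group

theorem comm_Z1 (hx : x ∈ Z1 K) (y : US K) : x * y = y * x := by
  ext <;> simp [mem_Z1.1 hx, add_comm]

theorem comm_Z2 (hx : x ∈ Z2 K) (hy : y ∈ Q2 K) : x * y = y * x := by
  ext <;> simp [mem_Z2.1 hx, mem_Q2.1 hy, add_comm]

theorem comm_Z3 (hx : x ∈ Z3 K) (hy : y ∈ XX K) : x * y = y * x := by
  ext <;> simp [mem_Z3.1 hx, mem_XX.1 hy, add_comm]

theorem comm_Z4 (hx : x ∈ Z4 K) (hy : y ∈ X4 K) : x * y = y * x := by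
  ext <;> simp [mem_Z4.1 hx, mem_X4.1 hy, add_comm]

theorem comm_VV (hx : x ∈ VV K) (hy : y ∈ WV K) : x * y = y * x := by
  ext <;> simp [mem_VV.1 hx, mem_WV.1 hy, add_comm]

theorem sq_VV (hx : x ∈ VV K) : x * x = 1 := by
  ext <;> simp [mem_VV.1 hx, CharTwo.add_self_eq_zero]

theorem cm_Z2 (hx : x ∈ Z2 K) (t : US K) : x⁻¹ * (t * x * t⁻¹) ∈ Z1 K := by
  simp [mem_Z1, mem_Z2.1 hx]; (repeat' apply And.intro) <;> grind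

theorem cm_Z3 (hx : x ∈ Z3 K) (t : US K) : x⁻¹ * (t * x * t⁻¹) ∈ Z2 K := by
  simp [mem_Z2, mem_Z3.1 hx]; (repeat' apply And.intro) <;> grind

theorem cm_Z4 (hx : x ∈ Z4 K) (t : US K) : x⁻¹ * (t * x * t⁻¹) ∈ Z3 K := by
  simp [mem_Z3, mem_Z4.1 hx]; (repeat' apply And.intro) <;> grind

theorem cm_Z5 (hx : x ∈ Z5 K) (t : US K) : x⁻¹ * (t * x * t⁻¹) ∈ Z4 K := by
  simp [mem_Z4, mem_Z5.1 hx]; (repeat' apply And.intro) <;> grind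

theorem cm_Z6 (hx : x ∈ Z6 K) (t : US K) : x⁻¹ * (t * x * t⁻¹) ∈ Z5 K := by
  simp [mem_Z5, mem_Z6.1 hx]; (repeat' apply And.intro) <;> grind

theorem cm_Z7 (hx : x ∈ Z7 K) (t : US K) : x⁻¹ * (t * x * t⁻¹) ∈ Z6 K := by
  simp [mem_Z6, mem_Z7.1 hx]; (repeat' apply And.intro) <;> grind

theorem cm_top (x t : US K) : x⁻¹ * (t * x * t⁻¹) ∈ Z7 K := by
  simp [mem_Z7]; (repeat' apply And.intro) <;> grind

theorem cm_VV (hx : x ∈ VV K) (ht : t ∈ Q1 K) : x⁻¹ * (t * x * t⁻¹) ∈ Z1 K := by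
  simp [mem_Z1, mem_VV.1 hx, mem_Q1.1 ht]; (repeat' apply And.intro) <;> grind

theorem cm_Q1 (hx : x ∈ Q1 K) (ht : t ∈ Q1 K) : x⁻¹ * (t * x * t⁻¹) ∈ VV K := by
  simp [mem_VV, mem_Q1.1 hx, mem_Q1.1 ht]; (repeat' apply And.intro) <;> grind

theorem cm_XX (hx : x ∈ XX K) (ht : t ∈ XX K) : x⁻¹ * (t * x * t⁻¹) ∈ Z3 K := by
  simp [mem_Z3, mem_XX.1 hx, mem_XX.1 ht]; (repeat' apply And.intro) <;> grind

theorem cm_Q2 (hx : x ∈ Q2 K) (ht : t ∈ Q2 K) : x⁻¹ * (t * x * t⁻¹) ∈ XX K := by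
  simp [mem_XX, mem_Q2.1 hx, mem_Q2.1 ht]; (repeat' apply And.intro) <;> grind

theorem cm_Z3' (hx : x ∈ Z3 K) (ht : t.a1 = 0) : x⁻¹ * (t * x * t⁻¹) ∈ Z1 K := by
  simp [mem_Z1, mem_Z3.1 hx, ht]; (repeat' apply And.intro) <;> grind

theorem cm_Z4' (hx : x ∈ Z4 K) (ht : t.a1 = 0) : x⁻¹ * (t * x * t⁻¹) ∈ Z2 K := by
  simp [mem_Z2, mem_Z4.1 hx, ht]; (repeat' apply And.intro) <;> grind

variable (K) in
/-- the upper central series -/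
def ZZ : ℕ → Subgroup (US K)
  | 0 => ⊥
  | 1 => Z1 K
  | 2 => Z2 K
  | 3 => Z3 K
  | 4 => Z4 K
  | 5 => Z5 K
  | 6 => Z6 K
  | 7 => Z7 K
  | _ + 8 => ⊤

theorem ZZ_mono : Monotone (ZZ K) := monotone_nat_of_le_succ fun n =>
  match n with
  | 0 => bot_le
  | 1 => Z1_le_Z2
  | 2 => Z2_le_Z3
  | 3 => Z3_le_Z4
  | 4 => Z4_le_Z5
  | 5 => Z5_le_Z6
  | 6 => Z6_le_Z7
  | 7 => le_top
  | _ + 8 => le_rfl

theorem ZZ_cm (t : US K) (i : ℕ) (x : US K) (hx : x ∈ ZZ K (i + 1)) :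
    x⁻¹ * (t * x * t⁻¹) ∈ ZZ K i :=
  match i, hx with
  | 0, hx => cm_eq_one (comm_Z1 hx t)
  | 1, hx => cm_Z2 hx t
  | 2, hx => cm_Z3 hx t
  | 3, hx => cm_Z4 hx t
  | 4, hx => cm_Z5 hx t
  | 5, hx => cm_Z6 hx t
  | 6, hx => cm_Z7 hx t
  | 7, _ => cm_top x t
  | _ + 8, _ => trivial

theorem normal_of_ZZ {i : ℕ} {U : Subgroup (US K)} (h1 : ZZ K i ≤ U) (h2 : U ≤ ZZ K (i + 1)) :
    U.Normal := ⟨fun x hx t => by simpa using mul_mem hx (h1 (ZZ_cm t i x (h2 hx)))⟩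

instance (i : ℕ) : (ZZ K i).Normal := ⟨fun x hx t => by
  simpa using mul_mem hx (ZZ_cm t i x (ZZ_mono (Nat.le_succ i) hx))⟩

/-! ### involutions -/

theorem invol_a1 (h : x * x = 1) : x.a1 = 0 := by
  have := congrArg US.u1 h
  simp at this
  exact mul_phi (by grind)

theorem invol_XX (h : x * x = 1) (hb : x.a8 = 0) : x ∈ XX K := by
  have := congrArg US.u7 h
  simp [hb, invol_a1 h] at this
  exact ⟨hb, invol_a1 h, mul_phi (by grind)⟩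

theorem invol_u1 (h : x * x = 1) (hu : x.u1 ≠ 0) : x.a8 = 0 := by
  have := congrArg US.a3 h
  simp [invol_a1 h] at this
  grind

theorem invol_Z5 (h : x * x = 1) (hb : x.a8 = 0) (hu : x.u1 = 0) :
    x ∈ Z5 K ∧ x.a2 * x.u7 = 0 := by
  obtain ⟨-, h1, h7⟩ := invol_XX h hb
  have k1 := congrArg US.a4 h
  have k2 := congrArg US.u3 h
  have k3 := congrArg US.u5 h
  simp [hb, h1, h7, hu] at k1 k2 k3
  have h3 : x.a3 = 0 := by_contra fun e => e (mul_phi (by grind))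
  have h5 : x.a5 = 0 := by_contra fun e => e (mul_phi (by grind))
  exact ⟨⟨hb, h1, h7, hu, h3, h5⟩, by grind⟩

/-! ### centralizers -/

theorem a8_of_comm {u : K} (hu : u ≠ 0) (h : x * x3 0 u = x3 0 u * x) : x.a8 = 0 := by
  have := congrArg US.u5 h
  simp at this
  grind

theorem mem_XX_of_comm (h : ∀ z ∈ Z3 K, x * z = z * x) : x ∈ XX K := by
  have h8 := a8_of_comm one_ne_zero (h _ (by simp [mem_Z3]))
  have h1 := h (x4 1) (by simp [mem_Z3])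
  have k1 := congrArg US.u3 h1
  have k2 := congrArg US.u5 h1
  simp [h8] at k1 k2
  exact ⟨h8, by grind, by grind⟩

theorem mem_X4_of_comm (h : ∀ z ∈ Z4 K, x * z = z * x) : x ∈ X4 K := by
  obtain ⟨h8, h1, h7⟩ := mem_XX_of_comm fun z hz => h z (Z3_le_Z4 hz)
  have h6 := h (x6 1) (by simp [mem_Z4])
  have k1 := congrArg US.u3 h6
  have k2 := congrArg US.u5 h6
  simp [h8, h1, h7] at k1 k2
  exact ⟨h8, h1, h7, by grind, by grind⟩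

theorem mem_WV_of_comm (h : ∀ z ∈ VV K, x * z = z * x) : x ∈ WV K := by
  obtain ⟨h8, h1, h7, hu, h3⟩ := mem_X4_of_comm fun z hz => h z (Z4_le_VV hz)
  have k1 := congrArg US.u5 (h (x7 0 1) (by simp [mem_VV]))
  simp [h8, h1, h7, hu, h3] at k1
  exact ⟨h8, h1, h7, hu, h3, by grind⟩

theorem mem_Z3_of_comm (h : ∀ z ∈ XX K, x * z = z * x) : x ∈ Z3 K := by
  obtain ⟨h8, h1, h7, hu, h3, h2⟩ := mem_WV_of_comm fun z hz => h z (VV_le_XX hz)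
  have k1 := congrArg US.a4 (h (x3 1 0) (by simp [mem_XX]))
  have k2 := congrArg US.u5 (h (x3 1 0) (by simp [mem_XX]))
  have k3 := congrArg US.u5 (h (x2 1) (by simp [mem_XX]))
  simp [h8, h1, h7, hu, h3, h2] at k1 k2 k3
  exact ⟨h8, h1, h7, hu, h3, by grind, h2, by grind, by grind⟩

theorem mem_Z1_of_comm (h : ∀ z ∈ Q1 K, x * z = z * x) : x ∈ Z1 K := by
  obtain ⟨h8, h1, h7, hu, h3, h2⟩ := mem_WV_of_comm fun z hz => h z (VV_le_Q1 hz)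
  have k1 := congrArg US.a4 (h (x3 1 0) (by simp [mem_Q1]))
  have k2 := congrArg US.u5 (h (x3 1 0) (by simp [mem_Q1]))
  have k3 := congrArg US.u5 (h (x2 1) (by simp [mem_Q1]))
  have k4 := congrArg US.u5 (h (x7 1 0) (by simp [mem_Q1]))
  have k5 := congrArg US.u5 (h (x8 1) (by simp [mem_Q1]))
  simp [h8, h1, h7, hu, h3, h2] at k1 k2 k3 k4 k5
  exact ⟨h8, h1, h7, hu, h3, by grind, h2, by grind, by grind, by grind, by grind⟩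

theorem mem_Z2_of_comm (h : ∀ z ∈ Q2 K, x * z = z * x) : x ∈ Z2 K := by
  obtain ⟨h8, h1, h7, hu, h3, h5, h2, h9, h6⟩ := mem_Z3_of_comm fun z hz => h z (XX_le_Q2 hz)
  have k1 := congrArg US.u5 (h (x7 1 0) (by simp [mem_Q2]))
  simp [h8, h1, h7, hu, h3, h5, h2, h9, h6] at k1
  exact ⟨h8, h1, h7, hu, h3, h5, h2, h9, h6, by grind⟩

theorem mem_Z3_of_cm (ha : x.a1 = 0) (h : ∀ r : US K, r.a1 = 0 → x⁻¹ * (r * x * r⁻¹) ∈ Z1 K) :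
    x ∈ Z3 K := by
  have k1 := (h (x8 1) rfl).2.2.2.2.1
  have k2 := (h (x1 0 1) rfl).2.2.2.2.1
  simp [ha] at k1 k2
  have hu : x.u1 = 0 := by grind
  have h8 : x.a8 = 0 := by grind
  obtain ⟨-, -, -, -, -, -, k3, -, -, k4, k5⟩ := h (x1 0 1) rfl
  obtain ⟨-, -, -, -, -, -, -, -, k6, k7, -⟩ := h (x7 1 0) rfl
  have k8 := (h (x5 1 0) rfl).2.2.2.2.2.2.2.2.2.1
  simp [ha, hu, h8] at k3 k4 k5 k6 k7 k8
  have h7 : x.a7 = 0 := by grind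
  have h5 : x.a5 = 0 := by grind
  exact ⟨h8, ha, h7, hu, by grind, h5, by grind, by grind, by grind⟩

/-! ### invariant subgroups -/

variable {R : Subgroup (US K)} {γ : MulAut R}

theorem inv_Q2 (hR : Z2 K ≤ R) (h : Inv γ (Z2 K)) : Inv γ (Q2 K) := fun x hx hQ =>
  have h1 : x3 0 1 ∈ Z2 K := by simp [mem_Z2]
  a8_of_comm one_ne_zero (ef_comm γ hx (hR h1) (comm_Z2 (h.inv _ (hR h1) h1) hQ).symm)

theorem inv_XX (hR : Z3 K ≤ R) (h : Inv γ (Z3 K)) : Inv γ (XX K) := fun x hx hQ =>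
  mem_XX_of_comm fun z hz => ef_comm γ hx (hR hz) (comm_Z3 (h.inv _ (hR hz) hz) hQ).symm

theorem inv_X4 (hR : Z4 K ≤ R) (h : Inv γ (Z4 K)) : Inv γ (X4 K) := fun x hx hQ =>
  mem_X4_of_comm fun z hz => ef_comm γ hx (hR hz) (comm_Z4 (h.inv _ (hR hz) hz) hQ).symm

theorem inv_WV (hR : VV K ≤ R) (h : Inv γ (VV K)) : Inv γ (WV K) := fun x hx hQ =>
  mem_WV_of_comm fun z hz => ef_comm γ hx (hR hz) (comm_VV (h.inv _ (hR hz) hz) hQ).symm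

theorem inv_Z1 (hR : Q1 K ≤ R) (γ : MulAut R) : Inv γ (Z1 K) := fun x hx hZ =>
  mem_Z1_of_comm fun z hz => ef_comm γ hx (hR hz) (comm_Z1 hZ _)

theorem inv_Z2_Q2 (γ : MulAut (Q2 K)) : Inv γ (Z2 K) := fun x hx hZ =>
  mem_Z2_of_comm fun z hz => ef_comm γ hx hz (comm_Z2 hZ (equivFun_mem _ hz))

theorem ef_sq (γ : MulAut R) (hx : x ∈ R) (h : x * x = 1) : equivFun γ x * equivFun γ x = 1 := by
  rw [← ef_mul γ hx hx, h, ef_one]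

theorem inv_Z5 (hR : Z5 K ≤ R) (h : Inv γ (Z4 K)) : Inv γ (Z5 K) := fun x hx hZ => by
  have h4 := inv_X4 (Z4_le_Z5.trans hR) h
  have key : ∀ y ∈ Z5 K, y * y = 1 → equivFun γ y ∈ Z5 K := fun y hy e =>
    have := h4 y (hR hy) (Z5_le_X4 hy)
    (invol_Z5 (ef_sq γ (hR hy) e) this.1 this.2.2.2.1).1
  have a1 : x2 x.a2 ∈ Z5 K := by simp [mem_Z5]
  have a2 : x7 0 x.u7 ∈ Z5 K := by simp [mem_Z5]
  have a3 : (x2 x.a2 * x7 0 x.u7)⁻¹ * x ∈ Z4 K := by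
    simp [mem_Z4, mem_Z5.1 hZ, CharTwo.add_self_eq_zero]
  rw [← mul_inv_cancel_left (x2 x.a2 * x7 0 x.u7) x, ef_mul _ (hR (mul_mem a1 a2))
    (hR (Z4_le_Z5 a3)), ef_mul _ (hR a1) (hR a2)]
  exact mul_mem (mul_mem (key _ a1 (by ext <;> simp [CharTwo.add_self_eq_zero]))
    (key _ a2 (by ext <;> simp [CharTwo.add_self_eq_zero]))) (Z4_le_Z5 (h _ (hR (Z4_le_Z5 a3)) a3))

theorem inv_Z6 (hR : Z4 K ≤ R) (h1 : Inv γ (Z1 K)) (h3 : Inv γ (Z3 K)) (h4 : Inv γ (Z4 K)) :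
    Inv γ (Z6 K) := fun x hx hZ => by
  obtain ⟨k1, k2, k3⟩ := inv_XX (Z3_le_Z4.trans hR) h3 x hx (Z6_le_XX hZ)
  have a1 : x6 1 ∈ Z4 K := by simp [mem_Z4]
  have := (h1.cm hx (hR a1)
    (cm_symm (cm_VV (Z4_le_VV (h4.inv _ (hR a1) a1)) (Z6_le_Q1 hZ)))).2.2.2.2.2.2.2.2.2.2
  simp [k1, k2, k3] at this
  exact ⟨k1, k2, k3, by grind⟩

theorem inv_AQ (hR : Z3 K ≤ R) (h1 : Inv γ (Z1 K)) (h3 : Inv γ (Z3 K)) : Inv γ (AQ K) :=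
  fun x hx hZ => by
  have a1 : x4 1 ∈ Z3 K := by simp [mem_Z3]
  have := (h1.cm hx (hR a1) (cm_symm (cm_Z3' (h3.inv _ (hR a1) a1) hZ))).2.2.2.2.2.2.2.2.2.2
  simp at this
  exact mem_AQ.2 (by grind)

theorem inv_Z7 (hR : Z3 K ≤ R) (h1 : Inv γ (Z1 K)) (h2 : Inv γ (Z2 K)) (h3 : Inv γ (Z3 K)) :
    Inv γ (Z7 K) := fun x hx hZ =>
  ⟨inv_Q2 (Z2_le_Z3.trans hR) h2 x hx hZ.1, inv_AQ hR h1 h3 x hx hZ.2⟩

end Cfsg.Agent.RF
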