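import Cfsg.Agent.Lib.RF.Q1a
import Cfsg.Agent.Lib.RF.Q2a
import Cfsg.Agent.Lib.RF.Par

/-!
# S5262: the torus has no fixed points on the kernels (see notes/RF.md)
-/

set_option autoImplicit false
set_option linter.unusedSectionVars false
set_option linter.unusedVariables false
set_option linter.unusedSimpArgs false
set_option linter.unnecessarySeqFocus false
set_option maxHeartbeats 1600000
set_option maxRecDepth 8000

namespace Cfsg.Agent.RF

open Subgroup Cfsg Cfsg.FusionSystem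
open U5 (Inv Loc ef_mul ef_inv ef_one)
open scoped commutatorElement

variable {K : Type*} [Field K] [TF K] {x y : US K}

theorem phi_ne {l : K} (h0 : l ≠ 0) (h1 : l ≠ 1) : φ l ≠ l := fun e => by
  have := congrArg φ e
  simp at this
  grind

theorem mul_phi_ne {l : K} (h1 : l ≠ 1) : l * φ l ≠ 1 := fun e => by
  have := congrArg φ e
  simp at this
  grind

theorem zero_of_wt {f w : K → K} (ha : ∀ s t, f (s + t) = f s + f t)
    (h : ∀ α : K, α ≠ 0 → f α = w α * f 1) {l : K} (h0 : l ≠ 0) (h1 : l ≠ 1)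
    (hw : w (l + 1) ≠ w l + 1) (t : K) : f t = 0 := by
  have k1 := ha l 1
  rw [h l h0, h (l + 1) (by grind)] at k1
  have k2 : f 1 = 0 := by grind
  by_cases ht : t = 0
  · simpa [ht] using ha 0 0
  · rw [h t ht, k2, mul_zero]

theorem hom_zero {χ : US K → K} (hχ : ∀ x ∈ Q1 K, ∀ y ∈ Q1 K, χ (x * y) = χ x + χ y) {w : K → K}
    (h : ∀ α : Kˣ, ∀ x ∈ Q1 K, χ (tauF ⟨α, 1, 1⟩ x) = w α * χ x) {l : K} (h0 : l ≠ 0) (h1 : l ≠ 1)
    (hw : w (l + 1) ≠ w l + 1) (hx : x ∈ Q1 K) : χ x = 0 := by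
  have e1 : χ 1 = 0 := by simpa using hχ 1 (one_mem _) 1 (one_mem _)
  have e2 : ∀ x ∈ Q1 K, χ x⁻¹ = χ x := fun x hx => by
    have := hχ x hx _ (inv_mem hx)
    rw [mul_inv_cancel, e1] at this
    grind
  let N : Subgroup (US K) :=
    { carrier := {x | x ∈ Q1 K ∧ χ x = 0}
      one_mem' := ⟨one_mem _, e1⟩
      mul_mem' := fun {a b} ha hb => ⟨mul_mem ha.1 hb.1, by rw [hχ _ ha.1 _ hb.1, ha.2, hb.2, add_zero]⟩
      inv_mem' := fun {a} ha => ⟨inv_mem ha.1, (e2 a ha.1).trans ha.2⟩ }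
  have hV : VV K ≤ N := VV_le_Fr1.trans (H1.map_frattini_le_of_elementary_quotient Nat.prime_two
    (commutator_le.2 fun a ha b hb => ⟨U5.ce_mem ha hb, by
      rw [commutatorElement_def, hχ _ (mul_mem (mul_mem ha hb) (inv_mem ha)) _ (inv_mem hb),
        hχ _ (mul_mem ha hb) _ (inv_mem ha), hχ _ ha _ hb, e2 a ha, e2 b hb]; grind⟩)
    fun a ha => ⟨pow_mem ha 2, by rw [pow_two, hχ _ ha _ ha, CharTwo.add_self_eq_zero]⟩)
  have key : ∀ s : K → US K, (∀ t, s t ∈ Q1 K) → (∀ t u, (s t * s u)⁻¹ * s (t + u) ∈ VV K) →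
      (∀ α : Kˣ, tauF ⟨α, 1, 1⟩ (s 1) = s α) → ∀ t, s t ∈ N := fun s s1 s2 s3 t =>
    ⟨s1 t, zero_of_wt (f := fun t => χ (s t)) (fun t u => by
      rw [← mul_inv_cancel_left (s t * s u) (s (t + u)), hχ _ (mul_mem (s1 t) (s1 u)) _
        (hV (s2 t u)).1, (hV (s2 t u)).2, hχ _ (s1 t) _ (s1 u), add_zero])
      (fun α hα => by simpa [s3] using h (Units.mk0 α hα) _ (s1 1)) h0 h1 hw t⟩
  have k := fun (v : V4 K) => key (fun t => sQ (t • v)) (fun _ => sQ_mem _)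
    (fun t u => inv_mul_mem_VV (mul_mem (sQ_mem _) (sQ_mem _)) (sQ_mem _)
      (by simp [pi1_iff, add_mul]) (by simp)) (fun α => by ext <;> simp) 1
  obtain ⟨r, hr⟩ := exists_phi x.a5
  have k5 := key (fun t => x5 (φ t) 0) (fun _ => x5_mem _ _)
    (fun t u => by simp [mem_VV, CharTwo.add_self_eq_zero]; grind) (fun α => by ext <;> simp) r
  exact (mem_of_mod hV (mul_mem (k (pi1 x)) k5) (inv_mul_mem_VV (mul_mem (sQ_mem _) (x5_mem _ _)) hx
    (by simp [pi1]) (by simp [hr]))).2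

theorem tor_Q1 {y : MulAut (Q1 K)} (h1 : ∀ x ∈ Q1 K, x⁻¹ * equivFun y x ∈ VV K)
    (h : ∀ α : Kˣ, ∀ x ∈ Q1 K, equivFun y (tauF ⟨α, 1, 1⟩ x) = tauF ⟨α, 1, 1⟩ (equivFun y x))
    (hq : ∃ s : K, s ≠ 0 ∧ s ≠ 1) : y = 1 := by
  obtain ⟨l, l0, l1⟩ := hq
  have l2 := phi_ne l0 l1
  have m : ∀ x ∈ Q1 K, ∀ z ∈ Q1 K, (x * z)⁻¹ * equivFun y (x * z) =
      z⁻¹ * (x⁻¹ * equivFun y x) * z * (z⁻¹ * equivFun y z) := fun x hx z hz => by
    rw [ef_mul _ hx hz]; group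
  have e : ∀ α : Kˣ, ∀ x ∈ Q1 K, (tauF ⟨α, 1, 1⟩ x)⁻¹ * equivFun y (tauF ⟨α, 1, 1⟩ x) =
      tauF ⟨α, 1, 1⟩ (x⁻¹ * equivFun y x) := fun α x hx => by
    rw [h α x hx, ← tau_apply, ← tau_apply, ← tau_apply, map_mul, map_inv]
  have key : ∀ c : US K → K, (∀ v ∈ VV K, ∀ v' ∈ VV K, ∀ z ∈ Q1 K, c (z⁻¹ * v * z * v') = c v + c v') →
      (∀ α : Kˣ, ∀ v, c (tauF ⟨α, 1, 1⟩ v) = α * φ (α : K) * c v) → ∀ x ∈ Q1 K,
      c (x⁻¹ * equivFun y x) = 0 := fun c c1 c2 x hx =>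
    hom_zero (χ := fun x => c (x⁻¹ * equivFun y x)) (w := fun α => α * φ α)
      (fun x hx z hz => by rw [m x hx z hz, c1 _ (h1 x hx) _ (h1 z hz) z hz])
      (fun α x hx => by rw [e α x hx, c2]) l0 l1 (by simp; grind) hx
  have h2 : ∀ x ∈ Q1 K, x⁻¹ * equivFun y x ∈ Z1 K := fun x hx => by
    obtain ⟨k1, k2, k3, k4, k5, k6, k7⟩ := h1 x hx
    refine ⟨k1, k2, k3, k4, k5, k6, k7, key US.u7 ?_ ?_ x hx, key US.a6 ?_ ?_ x hx,
      key US.a4 ?_ ?_ x hx, key US.u3 ?_ ?_ x hx⟩ <;> first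
      | (intro v hv v' hv' z hz; simp [mem_VV.1 hv, mem_VV.1 hv', mem_Q1.1 hz]; grind)
      | (intro α v; simp)
  refine mulEquiv_ext_equivFun fun x hx => ?_
  rw [equivFun_one hx, eq_comm, ← inv_mul_eq_one]
  have k := hom_zero (χ := fun x => (x⁻¹ * equivFun y x).u5) (w := fun α => α ^ 2 * φ α)
    (fun x hx z hz => by
      have k1 := h2 x hx
      have k2 := h2 z hz
      rw [m x hx z hz, mul_assoc z⁻¹, comm_Z1 k1, inv_mul_cancel_left]
      generalize x⁻¹ * equivFun y x = v at k1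
      generalize z⁻¹ * equivFun y z = v' at k2
      simp [mem_Z1.1 k1, mem_Z1.1 k2])
    (fun α x hx => by rw [e α x hx, tauF_u5]; simp) l0 l1 (by
      have := (φ (K := K)).injective.ne l2
      simp at this ⊢
      grind) hx
  have k1 := h2 x hx
  generalize x⁻¹ * equivFun y x = v at k k1
  ext <;> simp [mem_Z1.1 k1, k]

theorem tor_Q2 {y : MulAut (Q2 K)} (h1 : ∀ x ∈ Q2 K, pi2 (equivFun y x) = pi2 x)
    (h : ∀ a b : Kˣ, ∀ x ∈ Q2 K, equivFun y (tauF ⟨a, b, 1⟩ x) = tauF ⟨a, b, 1⟩ (equivFun y x))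
    (hq : ∃ s : K, s ≠ 0 ∧ s ≠ 1) : y = 1 := by
  obtain ⟨l, l0, l1⟩ := hq
  have l2 := phi_ne l0 l1
  have l3 := mul_phi_ne l1
  have l4 : φ l ≠ 1 := fun e => l1 ((φ (K := K)).injective (e.trans (map_one _).symm))
  have l5 : l ^ 2 * φ l ≠ 1 := by simpa [mul_comm] using mul_phi_ne l4
  have l6 : φ l ≠ 0 := by simpa using l0
  have key : ∀ s : K → K → US K, (∀ t u, s t u ∈ Q2 K) →
      (∀ t u t' u', s t u * s t' u' = s (t + t') (u + u' + t * φ t')) →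
      (∀ t, ∃ u, equivFun y (s t 0) = s t u) → (∀ t u u', s t u = s t u' → u = u') →
      (∀ (α : Kˣ) u, tauF ⟨1, α, 1⟩ (s 1 u) = s α (α * φ (α : K) * u)) →
      ∀ t, equivFun y (s t 0) = s t 0 := fun s s1 s2 s3 s4 s5 t => by
    choose f hf using s3
    have k1 : ∀ u, equivFun y (s 0 u) = s 0 u := fun u => by
      obtain ⟨r, rfl⟩ := exists_mul_phi u
      have := ef_mul y (s1 r 0) (s1 r 0)
      simpa [hf, s2, CharTwo.add_self_eq_zero] using this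
    rw [hf, zero_of_wt (f := f) (w := fun α => α * φ α) (fun t u => s4 (t + u) _ _ ?_)
      (fun α hα => s4 α _ _ ?_) l0 l1 (by simp; grind) t]
    · have k2 := ef_mul y (s1 t 0) (s1 u 0)
      have k3 := ef_mul y (s1 (t + u) 0) (s1 0 (t * φ u))
      simp only [hf, s2, k1, add_zero, zero_add, map_zero, mul_zero] at k2 k3
      have := s4 _ _ _ (k3.symm.trans k2)
      rw [add_left_injective _ this]
    · simpa [hf, s5] using h 1 (Units.mk0 α hα) _ (s1 1 0)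
  have k1 := key x1 (fun _ _ => rfl) (fun _ _ _ _ => by ext <;> simp) (fun t => by
      have e1 := Prod.ext_iff.1 (h1 (x1 t 0) rfl)
      have e2 := h (Units.mk0 l l0) 1 (x1 t 0) rfl
      have e3 := mem_Q2.1 (equivFun_mem y (show x1 t 0 ∈ Q2 K from rfl))
      rw [show tauF ⟨Units.mk0 l l0, 1, 1⟩ (x1 t 0) = x1 t 0 by ext <;> simp] at e2
      generalize equivFun y (x1 t 0) = v at e1 e2 e3
      simp [US.ext_iff, pi2] at e1 e2
      refine ⟨v.u1, ?_⟩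
      ext <;> simp [e1, e3] <;> grind)
    (fun t u u' e => congrArg US.u1 e) (fun α u => by ext <;> simp)
  have k7 := key x7 (fun _ _ => rfl) (fun _ _ _ _ => by ext <;> simp) (fun t => by
      have e1 := Prod.ext_iff.1 (h1 (x7 t 0) rfl)
      have e2 := h (Units.mk0 l l0)⁻¹ (Units.mk0 l l0) (x7 t 0) rfl
      have e3 := mem_Q2.1 (equivFun_mem y (show x7 t 0 ∈ Q2 K from rfl))
      rw [show tauF ⟨(Units.mk0 l l0)⁻¹, Units.mk0 l l0, 1⟩ (x7 t 0) = x7 t 0 by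
        ext <;> simp [l0]] at e2
      generalize equivFun y (x7 t 0) = v at e1 e2 e3
      simp [US.ext_iff, pi2] at e1 e2
      obtain ⟨-, m1, m2, m3, m4, m5, m6, m7, m8, -⟩ := e2
      have fx : ∀ {w s : K} (w' : K), s = w * s → w' ≠ 1 → w = w' → s = 0 := fun w' h1 h2 h3 => by
        grind
      exact ⟨v.u7, US.ext e1.1 (fx _ m1 l3 rfl) (fx _ m2 l3 (by field_simp))
        (fx _ m3 l4 (by field_simp)) (fx _ m4 l5 (by field_simp)) (fx _ m5 l3 (by field_simp))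
        (fx _ m6 l1 (by field_simp)) (fx _ m7 l3 (by field_simp)) (fx _ m8 l1 (by field_simp))
        e1.2 rfl e3⟩)
    (fun t u u' e => congrArg US.u7 e) (fun α u => by ext <;> simp)
  let N : Subgroup (US K) :=
    { carrier := {x | x ∈ Q2 K ∧ equivFun y x = x}
      one_mem' := ⟨one_mem _, ef_one y⟩
      mul_mem' := fun {a b} ha hb => ⟨mul_mem ha.1 hb.1, by rw [ef_mul _ ha.1 hb.1, ha.2, hb.2]⟩
      inv_mem' := fun {a} ha => ⟨inv_mem ha.1, by rw [ef_inv _ ha.1, ha.2]⟩ }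
  have e : N = Q2 K := H1.eq_of_sup_frattini (fun x hx => hx.1) (fun x hx => by
      have a1 : x1 x.a1 0 * x7 x.a7 0 ∈ N := mul_mem ⟨rfl, k1 _⟩ ⟨rfl, k7 _⟩
      exact mem_of_mod ((XX_le_Fr2 l0 l1).trans le_sup_right) (mem_sup_left a1)
        (inv_mul_mem_XX a1.1 hx (by simp [pi2])))
  exact mulEquiv_ext_equivFun fun x hx => by rw [equivFun_one hx]; exact (e.ge hx).2

end Cfsg.Agent.RF
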