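import Cfsg.Agent.Lib.RF.TwoC
import Cfsg.Agent.Lib.RF.Q

/-!
# S5262, `q = 2`: after a twist by an automorphism both Weyl elements are in the system
-/

set_option autoImplicit false
set_option linter.unusedSectionVars false
set_option linter.unusedVariables false
set_option linter.unnecessarySeqFocus false
set_option linter.unusedSimpArgs false

namespace Cfsg.Agent.RF

open Subgroup Cfsg Cfsg.FusionSystem Ops U5
open scoped commutatorElement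

variable {K : Type*} [Field K] [TF K] {F : FusionSystem (⊤ : Subgroup (US K))}

local notation "U" => opsU K

theorem gn0 : (U).gn 0 = x1 1 0 := rfl
theorem gn1 : (U).gn 1 = x1 0 1 := rfl
theorem gn2 : (U).gn 2 = x2 1 := rfl
theorem gn3 : (U).gn 3 = x3 1 0 := rfl
theorem gn6 : (U).gn 6 = x5 1 0 := rfl
theorem gn9 : (U).gn 9 = x7 1 0 := rfl
theorem gn11 : (U).gn 11 = x8 1 := rfl

/-- `x` is congruent to the element with coordinates `v, g` modulo `VV` -/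
def Cg (x : US K) (v : V4 K) (g : K) : Prop :=
  x.a1 = 0 ∧ x.u1 = 0 ∧ x.a8 = v.1 ∧ x.a7 = v.2.1 ∧ x.a3 = v.2.2.1 ∧ x.a2 = v.2.2.2 ∧ x.a5 = g

theorem Cg.cj {s x : US K} {v : V4 K} {g : K} (hs : s ∈ Q1 K) (h : Cg x v g) :
    Cg (s * x * s⁻¹) v g := by
  simp [Cg, hs.1, hs.2, h.1, h.2.1, ← h.2.2.1, ← h.2.2.2.1, ← h.2.2.2.2.1, ← h.2.2.2.2.2.1,
    ← h.2.2.2.2.2.2]
  grind

variable {A D E F G : US K} in
theorem nf3 (hA : Cg A (1, 0, 0, 0) 0) (hD : Cg D (0, 1, 0, 0) 0)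
    (hE : Cg E (0, 0, 1, 0) 0) (hF : Cg F (0, 0, 0, 1) 0) (hG : Cg G 0 1) (h1 : piV G = 0)
    (h2 : A.u7 = 0) :
    ∃ s ∈ Q1 K, piV (s * G * s⁻¹) = 0 ∧ (s * A * s⁻¹).u7 = 0 ∧ (s * A * s⁻¹).u5 = 0 ∧
      (s * D * s⁻¹).u5 = 0 ∧ (s * E * s⁻¹).u5 = 0 ∧ (s * F * s⁻¹).u5 = 0 :=
  ⟨sV (F.u5, E.u5, D.u5, A.u5), ⟨rfl, rfl⟩, by
    simp only [Cg, piV, Prod.ext_iff] at *
    simp [*]; grind⟩

theorem nf2 {A G : US K} (hA : Cg A (1, 0, 0, 0) 0) (hG : Cg G 0 1) (h1 : piV G = 0) :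
    ∃ s ∈ Q1 K, piV (s * G * s⁻¹) = 0 ∧ (s * A * s⁻¹).u7 = 0 :=
  ⟨x5 A.u7 0, ⟨rfl, rfl⟩, by
    simp only [Cg, piV, Prod.ext_iff] at *
    simp [*]; grind⟩

theorem nf0 {G : US K} (hG : Cg G 0 1) : ∃ s ∈ Q1 K, piV (s * G * s⁻¹) = 0 :=
  ⟨sQ (piV G), ⟨rfl, rfl⟩, by
    simp only [Cg, piV, Prod.ext_iff] at *
    simp [*]; grind⟩

theorem nf1 {A D E F G : US K} (hA : Cg A (1, 0, 0, 0) 0) (hD : Cg D (0, 1, 0, 0) 0)
    (hE : Cg E (0, 0, 1, 0) 0) (hF : Cg F (0, 0, 0, 1) 0) (hG : Cg G 0 1) :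
    ∃ s ∈ Q1 K, piV (s * G * s⁻¹) = 0 ∧ (s * A * s⁻¹).u7 = 0 ∧ (s * A * s⁻¹).u5 = 0 ∧
      (s * D * s⁻¹).u5 = 0 ∧ (s * E * s⁻¹).u5 = 0 ∧ (s * F * s⁻¹).u5 = 0 := by
  obtain ⟨r, h1, k1⟩ := nf0 hG
  obtain ⟨s, h2, a1, a2⟩ := nf2 (hA.cj h1) (hG.cj h1) k1
  obtain ⟨t, h3, b⟩ := nf3 ((hA.cj h1).cj h2) ((hD.cj h1).cj h2) ((hE.cj h1).cj h2)
    ((hF.cj h1).cj h2) ((hG.cj h1).cj h2) a1 a2
  refine ⟨t * s * r, mul_mem (mul_mem h3 h2) h1, ?_⟩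
  have e : ∀ x, t * s * r * x * (t * s * r)⁻¹ = t * (s * (r * x * r⁻¹) * s⁻¹) * t⁻¹ :=
    fun x => by group
  rw [e, e, e, e, e]
  exact b

variable (hq : ∀ s : K, s = 0 ∨ s = 1) (hF : F.IsSaturated 2)
include hq hF

theorem two_beta (hE : F.IsEssential 2 (Q1 K)) : ∃ γ ∈ F.autGroup (Q1 K), ∃ p : K,
    equivFun γ ((U).gn 11) = (U).tA p ∧ equivFun γ ((U).gn 9) = (U).tD p ∧
    equivFun γ ((U).gn 3) = (U).tE p ∧ equivFun γ ((U).gn 2) = (U).tF p ∧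
    equivFun γ ((U).gn 6) = (U).gn 6 := by
  obtain ⟨vb, hvb⟩ := exists_vb1 (K := K)
  obtain ⟨M, h⟩ := exists_loc isPGroup_US hF hE
  obtain ⟨N, hN⟩ := exists_n1 (K := K)
  obtain ⟨_, ⟨γ₀, hγ₀, rfl⟩, e₀⟩ := lin1_n phi_phi (vb1_hΓ hvb) (vb1_hU hvb) (map_le_range vb _)
    ⟨_, ⟨N, rfl⟩, vb1_n hvb hN⟩ (vb1_hUX hvb h) (vb1_hex hvb h)
  have cg : ∀ γ, (∀ v, vb γ v = nn v) → ∀ x ∈ Q1 K, Cg (equivFun γ x) (nn (pi1 x)) x.a5 :=
    fun γ e x hx => by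
      have h1 := equivFun_mem γ hx
      have h2 := (vb1_triv hvb (γ := N * γ) (LinearEquiv.ext fun v => by
        rw [map_mul, LinearEquiv.mul_apply, e, vb1_n hvb hN]; rfl) hx).2.2.2.2.2.1
      rw [equivFun_mul _ _ hx, hN _ h1] at h2
      have h3 := hvb γ x hx
      rw [e] at h3
      exact ⟨h1.1, h1.2, congrArg (·.1) h3.symm, congrArg (·.2.1) h3.symm,
        congrArg (·.2.2.1) h3.symm, congrArg (·.2.2.2) h3.symm, by simp [hx.1, hx.2] at h2; grind⟩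
  have hA : (U).gn 11 ∈ Q1 K := ⟨rfl, rfl⟩
  have hD : (U).gn 9 ∈ Q1 K := ⟨rfl, rfl⟩
  have hE : (U).gn 3 ∈ Q1 K := ⟨rfl, rfl⟩
  have hF : (U).gn 2 ∈ Q1 K := ⟨rfl, rfl⟩
  have hG : (U).gn 6 ∈ Q1 K := ⟨rfl, rfl⟩
  obtain ⟨s, hs, n⟩ := nf1 (cg γ₀ e₀ _ hF) (cg γ₀ e₀ _ hE) (cg γ₀ e₀ _ hD) (cg γ₀ e₀ _ hA)
    (cg γ₀ e₀ _ hG)
  have hγ := mul_mem (h.cj_A (mem_norm s)) hγ₀
  have e : ∀ v, vb (conjAut (Q1 K) (mem_norm s) * γ₀) v = nn v := fun v => by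
    rw [map_mul, LinearEquiv.mul_apply, e₀, vb1_conj hvb, hs.1, hs.2, uu_zero]
  have ee : ∀ x ∈ Q1 K, s * equivFun γ₀ x * s⁻¹ = equivFun (conjAut (Q1 K) (mem_norm s) * γ₀) x :=
    fun x hx => by rw [equivFun_mul _ _ hx, equivFun_conjAut _ (equivFun_mem _ hx)]
  rw [ee _ hA, ee _ hD, ee _ hE, ee _ hF, ee _ hG] at n
  generalize conjAut (Q1 K) (mem_norm s) * γ₀ = γ at hγ e n
  obtain ⟨n1, n2, n3, n4, n5, n6⟩ := n
  have ev := fun x hx => ev1 hq (isHomOn_equivFun γ) (x := x) hx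
  obtain ⟨t, ht, et⟩ := vb1_ker' hvb h (γ := conjAut (Q1 K) (mem_norm ((U).gn 0)) * (γ *
    (conjAut (Q1 K) (mem_norm ((U).gn 1)) * (γ * (conjAut (Q1 K) (mem_norm ((U).gn 0)⁻¹) * γ)))))
    (mul_mem (h.cj_A _) (mul_mem hγ (mul_mem (h.cj_A _) (mul_mem hγ (mul_mem (h.cj_A _) hγ)))))
    (LinearEquiv.ext fun v => by
      simp only [map_mul, LinearEquiv.mul_apply, e, vb1_conj hvb, gn0, gn1]
      ext <;> simp [uu, nn] <;> grind)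
  have ps : ∀ x ∈ Q1 K, (U).psi1 ((U).img1 (equivFun γ ((U).gn 11)) (equivFun γ ((U).gn 9))
      (equivFun γ ((U).gn 3)) (equivFun γ ((U).gn 2)) (equivFun γ ((U).gn 6))) (equivFun γ x) =
      (U).cj t x := fun x hx => by
    have m : ∀ s : US K, ∀ y ∈ Q1 K, equivFun γ (s * y * s⁻¹) ∈ Q1 K := fun s y hy =>
      equivFun_mem γ (Normal.conj_mem inferInstance y hy s)
    have h1 := equivFun_mem γ hx
    rw [U_cj t, ← et x hx, psi1, U_cj, U_cj, U_cj, U_inv,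
      ev _ (Normal.conj_mem inferInstance _ h1 _), ev _ (Normal.conj_mem inferInstance _ (m _ _ h1) _)]
    simp only [equivFun_mul _ _ hx, equivFun_conjAut _ h1, equivFun_conjAut _ (m _ _ h1),
      equivFun_conjAut _ (m _ _ (m _ _ h1))]
  have c1 := cg γ e _ hA
  have c2 := cg γ e _ hD
  have c3 := cg γ e _ hE
  have c4 := cg γ e _ hF
  have c5 := cg γ e _ hG
  have H : ∀ a ∈ (U).hM1 (equivFun γ ((U).gn 11)) (equivFun γ ((U).gn 9))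
      (equivFun γ ((U).gn 3)) (equivFun γ ((U).gn 2)) (equivFun γ ((U).gn 6)), a.1 = a.2 := by
    rw [hM1, hM1', ps _ hA, ps _ hD, ps _ hE, ps _ hF, ps _ hG, List.forall_mem_cons,
      List.forall_mem_cons]
    exact ⟨(ev _ (mul_mem hA hA)).trans (ef_mul _ hA hA), (ev _ (mul_mem hA hD)).trans (ef_mul _ hA hD),
      (List.forall_mem_cons.1 (spec_A1 hq ht)).2⟩
  refine ⟨γ, hγ, ?_⟩
  generalize equivFun γ ((U).gn 11) = A at *
  generalize equivFun γ ((U).gn 9) = D at *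
  generalize equivFun γ ((U).gn 3) = E at *
  generalize equivFun γ ((U).gn 2) = F at *
  generalize equivFun γ ((U).gn 6) = G at *
  obtain ⟨g1, g2, g3, g4⟩ := (piV_iff (y := 1)).1 n1
  set l := [A.u3, A.a4, A.a6, A.u7, D.u3, D.a4, D.a6, D.u7, E.u3, E.a4, E.a6, E.u7, F.u3, F.a4,
    F.a6, G.u5]
  have eA : A = (U).uA (l.getD · 0) := (US.ext c1.1 c1.2.1 c1.2.2.2.2.2.1 c1.2.2.2.2.1 rfl rfl
    c1.2.2.2.2.2.2 n6 rfl c1.2.2.2.1 rfl c1.2.2.1)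
  have eD : D = (U).uD (l.getD · 0) := (US.ext c2.1 c2.2.1 c2.2.2.2.2.2.1 c2.2.2.2.2.1 rfl rfl
    c2.2.2.2.2.2.2 n5 rfl c2.2.2.2.1 rfl c2.2.2.1)
  have eE : E = (U).uE (l.getD · 0) := (US.ext c3.1 c3.2.1 c3.2.2.2.2.2.1 c3.2.2.2.2.1 rfl rfl
    c3.2.2.2.2.2.2 n4 rfl c3.2.2.2.1 rfl c3.2.2.1)
  have eF : F = (U).uF (l.getD · 0) := (US.ext c4.1 c4.2.1 c4.2.2.2.2.2.1 c4.2.2.2.2.1 rfl rfl
    c4.2.2.2.2.2.2 n3 rfl c4.2.2.2.1 n2 c4.2.2.1)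
  have eG : G = (U).uG (l.getD · 0) := (US.ext c5.1 c5.2.1 c5.2.2.2.2.2.1 c5.2.2.2.2.1 g4 g3
    c5.2.2.2.2.2.2 rfl g2 c5.2.2.2.1 g1 c5.2.2.1)
  have := spec_M1 hq l le_rfl (by rw [← eA, ← eD, ← eE, ← eF, ← eG]; exact H)
  rw [Ops.cM1, ← eA, ← eD, ← eE, ← eF, ← eG] at this
  simp only [List.forall_mem_cons] at this
  exact ⟨_, this.1, this.2.1, this.2.2.1, this.2.2.2.1, this.2.2.2.2.1⟩

theorem two_alpha (hE : F.IsEssential 2 (Q2 K)) : ∃ γ ∈ F.autGroup (Q2 K), ∃ p q r : K,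
    equivFun γ ((U).gn 0) = (U).sB p q r ∧ equivFun γ ((U).gn 9) = (U).sD p q r ∧
    equivFun γ ((U).gn 3) = (U).sE r := by
  obtain ⟨vb, hvb⟩ := exists_vb2 (K := K)
  obtain ⟨M, h⟩ := exists_loc isPGroup_US hF hE
  obtain ⟨_, ⟨γ₀, hγ₀, rfl⟩, e₀⟩ := lin2_w (vb2_hL hvb h) (vb2_hT hvb h) (vb2_hex hvb h) one_ne_zero
  simp only [inv_one, one_mul, CharTwo.neg_eq] at e₀
  have cg : ∀ γ, (∀ v, vb γ v = (v.2, v.1)) → ∀ x ∈ Q2 K,
      (equivFun γ x).a1 = x.a7 ∧ (equivFun γ x).a7 = x.a1 := fun γ e x hx =>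
    Prod.ext_iff.1 ((hvb γ x hx).symm.trans (e _))
  have hB : (U).gn 0 ∈ Q2 K := rfl
  have hD : (U).gn 9 ∈ Q2 K := rfl
  have hE : (U).gn 3 ∈ Q2 K := rfl
  have n := spec_N2 hq (equivFun_mem γ₀ hD) (equivFun_mem γ₀ hB) (cg γ₀ e₀ _ hD).1 (cg γ₀ e₀ _ hD).2
    (cg γ₀ e₀ _ hB).1 (cg γ₀ e₀ _ hB).2
  rw [cN2, U_cj, U_cj] at n
  have hs : (U).nrm2 (equivFun γ₀ ((U).gn 9)) (equivFun γ₀ ((U).gn 0)) ∈ Q2 K :=
    mul_mem (show _ ∈ Q2 K from rfl) (mul_mem (show _ ∈ Q2 K from rfl)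
      (mul_mem (show _ ∈ Q2 K from rfl) (show _ ∈ Q2 K from rfl)))
  generalize (U).nrm2 _ _ = s at n hs
  have hγ := mul_mem (h.cj_A (mem_norm s)) hγ₀
  have e : ∀ v, vb (conjAut (Q2 K) (mem_norm s) * γ₀) v = (v.2, v.1) := fun v => by
    rw [map_mul, LinearEquiv.mul_apply, e₀, vb2_conj hvb, mem_Q2.1 hs]; simp [tt]
  have ee : ∀ x ∈ Q2 K, s * equivFun γ₀ x * s⁻¹ = equivFun (conjAut (Q2 K) (mem_norm s) * γ₀) x :=
    fun x hx => by rw [equivFun_mul _ _ hx, equivFun_conjAut _ (equivFun_mem _ hx)]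
  rw [ee _ hB, ee _ hD] at n
  generalize conjAut (Q2 K) (mem_norm s) * γ₀ = γ at hγ e n
  have ev := fun x hx => ev2 hq (isHomOn_equivFun γ) (x := x) hx
  obtain ⟨t, ht, et⟩ := vb2_ker' hvb h (γ := conjAut (Q2 K) (mem_norm ((U).gn 11)) * (γ *
    (conjAut (Q2 K) (mem_norm ((U).gn 11)) * (γ * (conjAut (Q2 K) (mem_norm ((U).gn 11)) * γ)))))
    (mul_mem (h.cj_A _) (mul_mem hγ (mul_mem (h.cj_A _) (mul_mem hγ (mul_mem (h.cj_A _) hγ)))))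
    (LinearEquiv.ext fun v => by
      simp only [map_mul, LinearEquiv.mul_apply, e, vb2_conj hvb, gn11]
      ext <;> simp [tt] <;> grind)
  obtain ⟨u, hu, eu⟩ := vb2_ker' hvb h (mul_mem hγ hγ) (LinearEquiv.ext fun v => by
    simp only [map_mul, LinearEquiv.mul_apply, e]; rfl)
  have ps : ∀ x ∈ Q2 K, (U).psi2 ((U).img2 (equivFun γ ((U).gn 0)) (equivFun γ ((U).gn 9))
      (equivFun γ ((U).gn 3)) ((U).el [])) (equivFun γ x) = (U).cj t x := fun x hx => by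
    have m : ∀ s : US K, ∀ y ∈ Q2 K, equivFun γ (s * y * s⁻¹) ∈ Q2 K := fun s y hy =>
      equivFun_mem γ (Normal.conj_mem inferInstance y hy s)
    have h1 := equivFun_mem γ hx
    rw [U_cj t, ← et x hx, psi2, U_cj, U_cj, U_cj,
      ev _ (Normal.conj_mem inferInstance _ h1 _), ev _ (Normal.conj_mem inferInstance _ (m _ _ h1) _)]
    simp only [equivFun_mul _ _ hx, equivFun_conjAut _ h1, equivFun_conjAut _ (m _ _ h1),
      equivFun_conjAut _ (m _ _ (m _ _ h1))]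
  have pu : ∀ x ∈ Q2 K, (U).ev ((U).img2 (equivFun γ ((U).gn 0)) (equivFun γ ((U).gn 9))
      (equivFun γ ((U).gn 3)) ((U).el [])) (equivFun γ x) = (U).cj u x := fun x hx => by
    rw [ev _ (equivFun_mem γ hx), U_cj, ← eu x hx, equivFun_mul _ _ hx]
  have H : ∀ a ∈ (U).hM2 (equivFun γ ((U).gn 0)) (equivFun γ ((U).gn 9))
      (equivFun γ ((U).gn 3)), a.1 = a.2 := by
    rw [hM2, hM2', ps _ hB, ps _ hD, ps _ hE, pu _ hB, pu _ hD, pu _ hE, List.forall_mem_append]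
    exact ⟨(List.forall_mem_cons.1 (spec_A2 hq hu)).2, (List.forall_mem_cons.1 (spec_A2 hq ht)).2⟩
  have c : ∀ {x y}, x ∈ Q2 K → y ∈ Q2 K → ⁅x, y⁆ ∈ Q2 K := fun hx hy =>
    mul_mem (mul_mem (mul_mem hx hy) (inv_mem hx)) (inv_mem hy)
  have z1 := inv_Z3_Q2 γ _ (c hE hD) (by simp [gn3, gn9, mem_Z3, commutatorElement_def]; grind)
  have z2 := inv_Z3_Q2 γ _ (mul_mem (c hE hB) (c (mul_mem hB hB) hD))
    (by simp [gn0, gn3, gn9, mem_Z3, commutatorElement_def]; grind)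
  rw [ef_ce _ hE hD] at z1
  rw [ef_mul _ (c hE hB) (c (mul_mem hB hB) hD), ef_ce _ hE hB, ef_ce _ (mul_mem hB hB) hD,
    ef_mul _ hB hB] at z2
  have c1 := cg γ e _ hB
  have c2 := cg γ e _ hD
  have c3 := cg γ e _ hE
  have c4 := mem_Q2.1 (equivFun_mem γ hE)
  have c5 := mem_Q2.1 (equivFun_mem γ hB)
  have c6 := mem_Q2.1 (equivFun_mem γ hD)
  refine ⟨γ, hγ, ?_⟩
  generalize equivFun γ ((U).gn 0) = B at *
  generalize equivFun γ ((U).gn 9) = D at *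
  generalize equivFun γ ((U).gn 3) = E at *
  simp only [cN2', List.forall_mem_cons] at n
  set l := [B.u1, B.u3, B.a5, B.u5, B.u7, D.u1, D.a5, D.u5, D.u7, E.a2, E.u3, E.a4, E.u5, E.a6]
  have eB : (U).vB (l.getD · 0) = B := n.2.1.symm
  have eD : (U).vD (l.getD · 0) = D := n.1.symm
  have eE : (U).vE (l.getD · 0) = E := by
    have a1 : E.a1 = 0 := c3.1
    have a7 : E.a7 = 0 := c3.2
    have k1 := z1.2.2.2.2.2.2.1
    have k2 := z1.2.2.2.2.2.2.2.2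
    have k3 := z2.2.2.2.2.2.2.1
    have k4 := z2.2.2.2.2.2.2.2.2
    simp [commutatorElement_def, a1, a7, c4, c5, c6, c1.1, c1.2, c2.1, c2.2, gn0, gn9] at k1 k2 k3 k4
    symm
    exact US.ext a1 (show E.u1 = 0 by grind) rfl (show E.a3 = 0 by grind) rfl rfl
      (show E.a5 = 1 by grind) rfl rfl a7 (show E.u7 = 0 by grind) c4
  have := spec_M2 hq l le_rfl (by rw [eB, eD, eE]; exact H)
  simp only [Ops.cM2, eB, eD, eE, List.forall_mem_cons] at this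
  exact ⟨_, _, _, this.1, this.2.1, this.2.2.1⟩

theorem two_twist' (h1 : F.IsEssential 2 (Q1 K)) (h2 : F.IsEssential 2 (Q2 K)) :
    ∃ (E : FusionSystem (⊤ : Subgroup (US K))) (t s : US K → US K), F.IsoVia E t s ∧
      E.IsMor (Q1 K) n1 ∧ E.IsMor (Q2 K) n2 := by
  obtain ⟨β, hβ, w, b1, b2, b3, b4, b5⟩ := two_beta hq hF h1
  obtain ⟨γ, hγ, p, q, r, a1, a2, a3⟩ := two_alpha hq hF h2
  obtain ⟨α, hα, hc⟩ := exists_phi_aut hq w p q r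
  have H := spec_F hq w p q r
  have m1 : ∀ x, α x ∈ Q1 K ↔ x ∈ Q1 K := fun x => by rw [mem_Q1, (hc x).1, (hc x).2.1, mem_Q1]
  have m2 : ∀ x, α x ∈ Q2 K ↔ x ∈ Q2 K := fun x => by rw [mem_Q2, (hc x).2.2, mem_Q2]
  have g : GrpIso (⊤ : Subgroup (US K)) ⊤ α.symm α := ⟨fun x _ y _ => map_mul _ x y,
    fun x _ y _ => map_mul _ x y, fun _ _ => trivial, fun _ _ => trivial,
    fun x _ => α.apply_symm_apply x, fun x _ => α.symm_apply_apply x⟩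
  obtain ⟨E, hE⟩ := F.exists_isoVia g
  have key : ∀ {R : Subgroup (US K)} {δ : MulAut R} {n : US K → US K} {s s' : US K},
      δ ∈ F.autGroup R → (∀ x, α x ∈ R ↔ x ∈ R) →
      (∀ x ∈ R, s * equivFun δ (α x) * s⁻¹ = s' * α (n x) * s'⁻¹) → E.IsMor R n :=
    fun {R δ n s s'} hδ m e => by
      have i : img R α.symm = R := by
        ext x; rw [g.mem_img_iff le_top, m]; simp
      rw [← i]
      refine hE.isMor_of_induced ((F.isMor_conj le_rfl (mem_top (s'⁻¹ * s))).comp'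
        (isMor_of_mem_autGroup le_top hδ) fun _ _ => trivial) fun x hx => ?_
      have := e (α.symm x) ((m _).1 (by simpa using hx))
      rw [α.apply_symm_apply] at this
      rw [eq_comm, α.symm_apply_eq]
      calc _ = s'⁻¹ * (s * equivFun δ x * s⁻¹) * s' := by group
        _ = _ := by rw [this]; group
  have e1 := fun x hx => ev1 hq (isHomOn_equivFun β) ((m1 x).2 hx)
  have e2 := fun x hx => ev2 hq (isHomOn_equivFun γ) ((m2 x).2 hx)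
  rw [b1, b2, b3, b4, b5] at e1
  rw [a1, a2, a3] at e2
  rw [cF, cF', List.forall_mem_append] at H
  simp only [← hα] at H
  rw [e1 _ (show (U).gn 11 ∈ _ from ⟨rfl, rfl⟩), e1 _ (show (U).gn 9 ∈ _ from ⟨rfl, rfl⟩),
    e1 _ (show (U).gn 3 ∈ _ from ⟨rfl, rfl⟩), e1 _ (show (U).gn 2 ∈ _ from ⟨rfl, rfl⟩),
    e1 _ (show (U).gn 6 ∈ _ from ⟨rfl, rfl⟩), e2 _ (show (U).gn 0 ∈ _ from rfl),
    e2 _ (show (U).gn 9 ∈ _ from rfl), e2 _ (show (U).gn 3 ∈ _ from rfl), eq1, eq2] at H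
  obtain ⟨H1, H2⟩ := H
  generalize (U).nrm1 _ _ _ _ _ = s1 at H1
  generalize (U).nrm1 _ _ _ _ _ = s2 at H1
  generalize (U).nrm2 _ _ = s3 at H2
  generalize (U).nrm2 _ _ = s4 at H2
  simp only [eq1', eq2', List.forall_mem_cons, U_cj] at H1 H2
  refine ⟨E, _, _, hE, key (s := s1) (s' := s2) hβ m1 fun x hx => ?_,
    key (s := s3) (s' := s4) hγ m2 fun x hx => ?_⟩
  · rw [← ev1 hq (f := fun x => s1 * equivFun β (α x) * s1⁻¹) (fun x hx y hy => by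
        simp only [map_mul, ef_mul β ((m1 x).2 hx) ((m1 y).2 hy)]; group) hx,
      ← ev1 hq (f := fun x => s2 * α (n1 x) * s2⁻¹) (fun x hx y hy => by
        simp only [map_mul, n1_mul hx.1 hx.2 hy.1 hy.2]; group) hx,
      H1.1, H1.2.1, H1.2.2.1, H1.2.2.2.1, H1.2.2.2.2.1,
      show n1 ((U).gn 11) = (U).gn 2 by ext <;> simp [gn11, gn2],
      show n1 ((U).gn 9) = (U).gn 3 by ext <;> simp [gn9, gn3],
      show n1 ((U).gn 3) = (U).gn 9 by ext <;> simp [gn9, gn3],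
      show n1 ((U).gn 2) = (U).gn 11 by ext <;> simp [gn11, gn2],
      show n1 ((U).gn 6) = (U).gn 6 by ext <;> simp [gn6]]
  · rw [← ev2 hq (f := fun x => s3 * equivFun γ (α x) * s3⁻¹) (fun x hx y hy => by
        simp only [map_mul, ef_mul γ ((m2 x).2 hx) ((m2 y).2 hy)]; group) hx,
      ← ev2 hq (f := fun x => s4 * α (n2 x) * s4⁻¹) (fun x hx y hy => by
        simp only [map_mul, n2_mul hx hy]; group) hx, H2.1, H2.2.1, H2.2.2.1,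
      show n2 ((U).gn 0) = (U).gn 9 by ext <;> simp [gn0, gn9],
      show n2 ((U).gn 9) = (U).gn 0 by ext <;> simp [gn0, gn9],
      show n2 ((U).gn 3) = (U).gn 6 by ext <;> simp [gn3, gn6]]

end Cfsg.Agent.RF
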