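import Cfsg.Agent.Lib.RF.Sub

/-!
# S5262, `q = 2`: bit-sliced computations in the Sylow subgroup
-/

set_option autoImplicit false
set_option linter.unusedSectionVars false
set_option linter.unusedVariables false
set_option linter.unnecessarySeqFocus false
set_option linter.unusedSimpArgs false

namespace Cfsg.Agent.RF

open Subgroup Cfsg Cfsg.FusionSystem

/-- many elements of the group over `𝔽₂` at once, one for each binary digit -/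
structure BW where
  (a1 u1 a2 a3 u3 a4 a5 u5 a6 a7 u7 a8 : ℕ)

def mulB (x y : BW) : BW :=
  ⟨x.a1 ^^^ y.a1,
    x.u1 ^^^ y.u1 ^^^ (x.a1 &&& y.a1),
    x.a2 ^^^ y.a2 ^^^ (x.a8 &&& y.a1) ^^^ (x.a8 &&& y.u1) ^^^ (y.a1 &&& x.a7) ^^^ (y.a1 &&& x.a3)
      ^^^ (y.u1 &&& x.a7) ^^^ (x.a8 &&& y.a1 &&& y.u1),
    x.a3 ^^^ y.a3 ^^^ (x.a8 &&& y.u1) ^^^ (y.a1 &&& x.a7),
    x.u3 ^^^ y.u3 ^^^ (x.a8 &&& y.a1) ^^^ (x.a8 &&& y.u1) ^^^ (y.a1 &&& x.a7) ^^^ (y.a1 &&& x.u7)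
      ^^^ (y.a1 &&& x.a6) ^^^ (y.a1 &&& x.a4) ^^^ (y.u1 &&& x.u7) ^^^ (y.u1 &&& x.a6)
      ^^^ (x.a7 &&& y.a2) ^^^ (x.a3 &&& y.a3) ^^^ (y.a2 &&& x.a5) ^^^ (x.a8 &&& y.a1 &&& x.a5)
      ^^^ (x.a8 &&& y.u1 &&& x.a7) ^^^ (x.a8 &&& y.u1 &&& x.a3) ^^^ (x.a8 &&& y.u1 &&& y.a3)
      ^^^ (x.a8 &&& y.u1 &&& y.a2) ^^^ (x.a8 &&& y.u1 &&& x.a5) ^^^ (y.a1 &&& y.u1 &&& x.a7)
      ^^^ (y.a1 &&& y.u1 &&& x.u7) ^^^ (y.a1 &&& x.a7 &&& x.a3) ^^^ (y.a1 &&& x.a7 &&& y.a3)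
      ^^^ (y.a1 &&& x.a7 &&& y.a2) ^^^ (y.a1 &&& x.a7 &&& x.a5) ^^^ (y.u1 &&& x.a7 &&& x.a5)
      ^^^ (x.a8 &&& y.a1 &&& y.u1 &&& x.a5),
    x.a4 ^^^ y.a4 ^^^ (x.a8 &&& y.a1) ^^^ (x.a8 &&& y.u1) ^^^ (x.a8 &&& y.a2) ^^^ (y.a1 &&& x.a6)
      ^^^ (y.u1 &&& x.a7) ^^^ (y.u1 &&& x.u7) ^^^ (x.a7 &&& y.a2) ^^^ (y.a3 &&& x.a5)
      ^^^ (x.a8 &&& y.a1 &&& y.u1) ^^^ (x.a8 &&& y.a1 &&& x.a7) ^^^ (x.a8 &&& y.a1 &&& y.a3)
      ^^^ (x.a8 &&& y.a1 &&& y.a2) ^^^ (x.a8 &&& y.u1 &&& x.a7) ^^^ (x.a8 &&& y.u1 &&& y.a3)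
      ^^^ (x.a8 &&& y.u1 &&& x.a5) ^^^ (y.a1 &&& x.a7 &&& y.a3) ^^^ (y.a1 &&& x.a7 &&& x.a5),
    x.a5 ^^^ y.a5 ^^^ (x.a8 &&& y.a1) ^^^ (x.a8 &&& y.u1) ^^^ (y.a1 &&& x.a7),
    x.u5 ^^^ y.u5 ^^^ (x.a8 &&& y.a1) ^^^ (x.a8 &&& y.a3) ^^^ (x.a8 &&& y.u3) ^^^ (y.a1 &&& x.u7)
      ^^^ (y.a1 &&& x.a6) ^^^ (y.u1 &&& x.a7) ^^^ (y.u1 &&& x.u7) ^^^ (x.a7 &&& y.a4)
      ^^^ (y.a3 &&& x.a6) ^^^ (y.a2 &&& x.u7) ^^^ (x.a5 &&& y.a5) ^^^ (x.a8 &&& y.a1 &&& y.a3)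
      ^^^ (x.a8 &&& y.a1 &&& y.a2) ^^^ (x.a8 &&& y.a1 &&& x.a5) ^^^ (x.a8 &&& y.a1 &&& y.a5)
      ^^^ (x.a8 &&& y.a1 &&& x.u7) ^^^ (x.a8 &&& y.a1 &&& y.a4) ^^^ (x.a8 &&& y.u1 &&& x.a7)
      ^^^ (x.a8 &&& y.u1 &&& y.a3) ^^^ (x.a8 &&& y.u1 &&& y.a2) ^^^ (x.a8 &&& y.u1 &&& x.a5)
      ^^^ (x.a8 &&& y.u1 &&& y.a5) ^^^ (x.a8 &&& y.u1 &&& x.u7) ^^^ (x.a8 &&& y.u1 &&& x.a6)
      ^^^ (x.a8 &&& x.a7 &&& y.a2) ^^^ (x.a8 &&& y.a3 &&& y.a2) ^^^ (y.a1 &&& x.a7 &&& x.a5)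
      ^^^ (y.a1 &&& x.a7 &&& y.a5) ^^^ (y.a1 &&& x.a7 &&& x.a6) ^^^ (y.a1 &&& y.a3 &&& x.u7)
      ^^^ (y.u1 &&& x.a7 &&& x.u7) ^^^ (x.a8 &&& y.a1 &&& y.u1 &&& y.a3)
      ^^^ (x.a8 &&& y.a1 &&& x.a7 &&& y.a3) ^^^ (x.a8 &&& y.a1 &&& x.a7 &&& y.a2)
      ^^^ (x.a8 &&& y.u1 &&& x.a7 &&& y.a3),
    x.a6 ^^^ y.a6 ^^^ (x.a8 &&& y.a1) ^^^ (x.a8 &&& y.u1) ^^^ (x.a8 &&& y.a3) ^^^ (x.a8 &&& y.a2)
      ^^^ (y.a1 &&& x.u7) ^^^ (x.a7 &&& y.a5) ^^^ (x.a8 &&& y.a1 &&& y.u1)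
      ^^^ (x.a8 &&& y.a1 &&& x.a7) ^^^ (x.a8 &&& y.a1 &&& y.a5) ^^^ (x.a8 &&& y.u1 &&& x.a7),
    x.a7 ^^^ y.a7 ^^^ (x.a8 &&& y.a1),
    x.u7 ^^^ y.u7 ^^^ (x.a8 &&& y.u1) ^^^ (x.a8 &&& y.a3) ^^^ (x.a8 &&& y.a5) ^^^ (x.a7 &&& y.a7)
      ^^^ (x.a8 &&& y.a1 &&& x.a7) ^^^ (x.a8 &&& y.a1 &&& y.a7),
    x.a8 ^^^ y.a8⟩

def invB (x : BW) : BW :=
  ⟨x.a1,
    x.a1 ^^^ x.u1,
    x.a2 ^^^ (x.a8 &&& x.a1) ^^^ (x.a8 &&& x.u1) ^^^ (x.a1 &&& x.a3) ^^^ (x.u1 &&& x.a7)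
      ^^^ (x.a8 &&& x.a1 &&& x.u1),
    x.a3 ^^^ (x.a8 &&& x.a1) ^^^ (x.a8 &&& x.u1) ^^^ (x.a1 &&& x.a7),
    x.a3 ^^^ x.u3 ^^^ (x.a8 &&& x.u1) ^^^ (x.a1 &&& x.a7) ^^^ (x.a1 &&& x.u7) ^^^ (x.a1 &&& x.a4)
      ^^^ (x.u1 &&& x.a7) ^^^ (x.u1 &&& x.u7) ^^^ (x.u1 &&& x.a6) ^^^ (x.a7 &&& x.a2)
      ^^^ (x.a2 &&& x.a5) ^^^ (x.a8 &&& x.a1 &&& x.a7) ^^^ (x.a8 &&& x.a1 &&& x.a2)
      ^^^ (x.a8 &&& x.u1 &&& x.a7) ^^^ (x.a8 &&& x.u1 &&& x.a3) ^^^ (x.a8 &&& x.u1 &&& x.a2)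
      ^^^ (x.a1 &&& x.u1 &&& x.u7) ^^^ (x.a1 &&& x.a7 &&& x.a3) ^^^ (x.a1 &&& x.a7 &&& x.a2)
      ^^^ (x.a1 &&& x.a3 &&& x.a5) ^^^ (x.a8 &&& x.a1 &&& x.u1 &&& x.a3),
    x.a4 ^^^ (x.a8 &&& x.a1) ^^^ (x.a8 &&& x.u1) ^^^ (x.a8 &&& x.a2) ^^^ (x.a1 &&& x.u7)
      ^^^ (x.a1 &&& x.a6) ^^^ (x.u1 &&& x.u7) ^^^ (x.a7 &&& x.a2) ^^^ (x.a3 &&& x.a5)
      ^^^ (x.a8 &&& x.a1 &&& x.u1) ^^^ (x.a8 &&& x.a1 &&& x.a2) ^^^ (x.a8 &&& x.u1 &&& x.a7)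
      ^^^ (x.a8 &&& x.u1 &&& x.a3),
    x.a5 ^^^ (x.a8 &&& x.u1) ^^^ (x.a1 &&& x.a7),
    x.a5 ^^^ x.u5 ^^^ (x.a8 &&& x.a1) ^^^ (x.a8 &&& x.u3) ^^^ (x.a1 &&& x.a6) ^^^ (x.u1 &&& x.a7)
      ^^^ (x.u1 &&& x.u7) ^^^ (x.a7 &&& x.a2) ^^^ (x.a7 &&& x.a4) ^^^ (x.a3 &&& x.a6)
      ^^^ (x.a2 &&& x.u7) ^^^ (x.a8 &&& x.a1 &&& x.a7) ^^^ (x.a8 &&& x.a1 &&& x.a6)
      ^^^ (x.a8 &&& x.u1 &&& x.a3) ^^^ (x.a8 &&& x.u1 &&& x.a2) ^^^ (x.a8 &&& x.u1 &&& x.a5)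
      ^^^ (x.a8 &&& x.u1 &&& x.u7) ^^^ (x.a8 &&& x.u1 &&& x.a6) ^^^ (x.a8 &&& x.a7 &&& x.a2)
      ^^^ (x.a8 &&& x.a3 &&& x.a2) ^^^ (x.a8 &&& x.a2 &&& x.a5) ^^^ (x.a1 &&& x.a7 &&& x.a5)
      ^^^ (x.a1 &&& x.a7 &&& x.u7) ^^^ (x.a1 &&& x.a7 &&& x.a6) ^^^ (x.u1 &&& x.a7 &&& x.u7)
      ^^^ (x.a7 &&& x.a3 &&& x.a5) ^^^ (x.a8 &&& x.a1 &&& x.a7 &&& x.a2)
      ^^^ (x.a8 &&& x.u1 &&& x.a7 &&& x.a3),
    x.a6 ^^^ (x.a8 &&& x.a1) ^^^ (x.a8 &&& x.u1) ^^^ (x.a8 &&& x.a3) ^^^ (x.a8 &&& x.a2)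
      ^^^ (x.a1 &&& x.a7) ^^^ (x.a1 &&& x.u7) ^^^ (x.a7 &&& x.a5) ^^^ (x.a8 &&& x.a1 &&& x.u1)
      ^^^ (x.a8 &&& x.a1 &&& x.a3) ^^^ (x.a8 &&& x.a1 &&& x.a5) ^^^ (x.a8 &&& x.u1 &&& x.a7),
    x.a7 ^^^ (x.a8 &&& x.a1),
    x.a7 ^^^ x.u7 ^^^ (x.a8 &&& x.a1) ^^^ (x.a8 &&& x.u1) ^^^ (x.a8 &&& x.a3) ^^^ (x.a8 &&& x.a5)
      ^^^ (x.a8 &&& x.a1 &&& x.a7),
    x.a8⟩
/-- the operations used in the computations -/
structure Ops (α R : Type*) where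
  mul : α → α → α
  inv : α → α
  el : List R → α
  cs : α → List R
  sel : R → α → α
  add : R → R → R
  mu : R → R → R
  o : R
  i : R

namespace Ops

variable {α R : Type*} (O : Ops α R)

def co (x : α) (c : ℕ) : R := (O.cs x).getD c O.o
def gn (c : ℕ) : α := O.el (List.replicate c O.o ++ [O.i])
def cj (s x : α) : α := O.mul (O.mul s x) (O.inv s)
def cm (x y : α) : α := O.mul (O.cj x y) (O.inv y)

def ev0 : List α → List R → α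
  | y :: I, t :: l => O.mul (O.sel t y) (ev0 I l)
  | _, _ => O.el []

def ev (I : List α) (x : α) : α := O.ev0 I (O.cs x)

def img1 (A D E F G : α) : List α :=
  [O.el [], O.el [], F, E, O.mul E E, O.cm G E, G, O.mul G G, O.cm G D, D, O.mul D D, A]

def img2' (B D E G A : α) : List α :=
  [B, O.mul B B, O.cm B E, E, O.mul E E, O.cm G E, G, O.mul G G, O.cm G D, D, O.mul D D, A]

def img2 (B D E A : α) : List α := O.img2' B D E (O.mul E (O.cm D B)) A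

def nA (G : α) : α :=
  O.el [O.o, O.o, O.co G 4, O.co G 5, O.o, O.o, O.o, O.o, O.o, O.co G 8, O.o, O.co G 10]
def nB (A s : α) : α := O.mul (O.el [O.o, O.o, O.o, O.o, O.o, O.o, O.co (O.cj s A) 10]) s
def nC (A D E F s : α) : α := O.mul (O.el [O.o, O.o, O.o, O.o, O.co (O.cj s A) 7,
  O.co (O.cj s D) 7, O.o, O.o, O.co (O.cj s E) 7, O.o, O.co (O.cj s F) 7]) s
/-- the element of `Q1` normalizing a tuple congruent to `(a, d, e, f, g)` -/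
def nrm1 (A D E F G : α) : α := O.nC A D E F (O.nB A (O.nA G))

def mA (B D : α) : α := O.el [O.co D 3, O.o, O.o, O.o, O.o, O.o, O.o, O.o, O.o, O.co B 3]
def mB (B D s : α) : α := O.mul (O.el [O.o, O.co (O.cj s D) 2, O.o, O.co (O.cj s B) 2, O.o, O.o,
  O.co (O.cj s D) 8, O.o, O.o, O.o, O.co (O.cj s B) 8]) s
def mC (B D s : α) : α := O.mul (O.el [O.o, O.o, O.co (O.cj s D) 5, O.o, O.o, O.o, O.o, O.o,
  O.co (O.cj s B) 5]) s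
def mD (B s : α) : α := O.mul (O.el [O.o, O.o, O.o, O.o, O.o, O.co (O.cj s B) 4]) s
/-- the element of `Q2` normalizing a pair congruent to `(b, d)` -/
def nrm2 (B D : α) : α := O.mD B (O.mC B D (O.mB B D (O.mA B D)))

/-- the images of the generators under the automorphism with parameters `w, x, y, z` -/
def phI (w x y z : R) : List α := O.img2 (O.el [O.i, O.o, O.o, x, O.o, O.o, O.o, y])
  (O.el [O.o, O.o, O.o, O.o, w, O.o, O.o, O.add w z, O.o, O.i, x])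
  (O.el [O.o, O.o, O.o, O.i, x, O.o, O.o, z])
  (O.el [O.o, O.o, O.o, O.o, O.o, w, O.o, O.o, O.o, O.o, O.o, O.i])

structure Hom {β S : Type*} (P : Ops β S) (p : α → β) (b : R → S) : Prop where
  mul : ∀ x y, p (O.mul x y) = P.mul (p x) (p y)
  inv : ∀ x, p (O.inv x) = P.inv (p x)
  el : ∀ l, p (O.el l) = P.el (l.map b)
  cs : ∀ x, (O.cs x).map b = P.cs (p x)
  sel : ∀ t x, p (O.sel t x) = P.sel (b t) (p x)
  add : ∀ s t, b (O.add s t) = P.add (b s) (b t)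
  mu : ∀ s t, b (O.mu s t) = P.mu (b s) (b t)
  o : b O.o = P.o
  i : b O.i = P.i

namespace Hom

variable {O} {β S : Type*} {P : Ops β S} {p : α → β} {b : R → S} (h : O.Hom P p b)
include h

theorem co (x : α) (c : ℕ) : b (O.co x c) = P.co (p x) c := by
  rw [Ops.co, Ops.co, ← h.cs, ← h.o, List.getD_map]

theorem gn (c : ℕ) : p (O.gn c) = P.gn c := by simp [Ops.gn, h.el, h.o, h.i]

theorem cj (s x : α) : p (O.cj s x) = P.cj (p s) (p x) := by simp only [Ops.cj, h.mul, h.inv]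

theorem cm (s x : α) : p (O.cm s x) = P.cm (p s) (p x) := by simp only [Ops.cm, h.mul, h.inv, h.cj]

theorem ev0 : ∀ (I : List α) (l : List R), p (O.ev0 I l) = P.ev0 (I.map p) (l.map b)
  | y :: I, t :: l => by simp only [Ops.ev0, List.map_cons, h.mul, h.sel, ev0 I l]
  | [], _ => h.el []
  | _ :: _, [] => h.el []

theorem ev (I : List α) (x : α) : p (O.ev I x) = P.ev (I.map p) (p x) := by
  rw [Ops.ev, h.ev0, h.cs, Ops.ev]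

theorem img1 (A D E F G : α) :
    (O.img1 A D E F G).map p = P.img1 (p A) (p D) (p E) (p F) (p G) := by
  simp only [Ops.img1, List.map, h.mul, h.cm, h.el]

theorem img2 (B D E A : α) : (O.img2 B D E A).map p = P.img2 (p B) (p D) (p E) (p A) := by
  simp only [Ops.img2, Ops.img2', List.map, h.mul, h.cm]

theorem nrm1 (A D E F G : α) : p (O.nrm1 A D E F G) = P.nrm1 (p A) (p D) (p E) (p F) (p G) := by
  simp only [Ops.nrm1, nA, nB, nC, List.map, h.mul, h.cj, h.el, h.co, h.o]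

theorem nrm2 (B D : α) : p (O.nrm2 B D) = P.nrm2 (p B) (p D) := by
  simp only [Ops.nrm2, mA, mB, mC, mD, List.map, h.mul, h.cj, h.el, h.co, h.o]

theorem phI (w x y z : R) : (O.phI w x y z).map p = P.phI (b w) (b x) (b y) (b z) := by
  simp only [Ops.phI, h.img2, List.map, h.el, h.o, h.i, h.add]

end Hom

end Ops

def opsB (n : ℕ) : Ops BW ℕ where
  mul := mulB
  inv := invB
  el l := ⟨l.getD 0 0, l.getD 1 0, l.getD 2 0, l.getD 3 0, l.getD 4 0, l.getD 5 0, l.getD 6 0,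
    l.getD 7 0, l.getD 8 0, l.getD 9 0, l.getD 10 0, l.getD 11 0⟩
  cs x := [x.a1, x.u1, x.a2, x.a3, x.u3, x.a4, x.a5, x.u5, x.a6, x.a7, x.u7, x.a8]
  sel t x := ⟨t &&& x.a1, t &&& x.u1, t &&& x.a2, t &&& x.a3, t &&& x.u3, t &&& x.a4, t &&& x.a5,
    t &&& x.u5, t &&& x.a6, t &&& x.a7, t &&& x.u7, t &&& x.a8⟩
  add s t := s ^^^ t
  mu s t := s &&& t
  o := 0
  i := 2 ^ 2 ^ n - 1

/-- the truth table of the `j`-th of `n` variables -/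
def vr : ℕ → ℕ → ℕ
  | 0, _ => 0
  | n + 1, j => if j = n then (2 ^ 2 ^ n - 1) <<< 2 ^ n else vr n j ||| vr n j <<< 2 ^ n

def neB (x y : BW) : ℕ := (x.a1 ^^^ y.a1) ||| (x.u1 ^^^ y.u1) ||| (x.a2 ^^^ y.a2) |||
  (x.a3 ^^^ y.a3) ||| (x.u3 ^^^ y.u3) ||| (x.a4 ^^^ y.a4) ||| (x.a5 ^^^ y.a5) ||| (x.u5 ^^^ y.u5)
  ||| (x.a6 ^^^ y.a6) ||| (x.a7 ^^^ y.a7) ||| (x.u7 ^^^ y.u7) ||| (x.a8 ^^^ y.a8)

def neL (l : List (BW × BW)) : ℕ := l.foldr (fun a r => neB a.1 a.2 ||| r) 0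

/-- wherever the equations `h` hold, so do the equations `c` -/
def Chk (h c : List (BW × BW)) : Prop := neL c &&& neL h = neL c

instance (h c : List (BW × BW)) : Decidable (Chk h c) := Nat.decEq _ _

theorem vr_lt : ∀ n j, vr n j < 2 ^ 2 ^ n
  | 0, _ => by simp [vr]
  | n + 1, j => by
    have h : ∀ m, m < 2 ^ 2 ^ n → m <<< 2 ^ n < 2 ^ 2 ^ (n + 1) := fun m hm => by
      rw [Nat.shiftLeft_eq, pow_succ 2 n, mul_two, pow_add]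
      exact Nat.mul_lt_mul_of_pos_right hm (by positivity)
    rw [vr]
    split_ifs
    · exact h _ (Nat.sub_lt (by positivity) one_pos)
    · exact Nat.or_lt_two_pow ((vr_lt n j).trans (Nat.pow_lt_pow_right one_lt_two
        (Nat.pow_lt_pow_right one_lt_two n.lt_succ_self))) (h _ (vr_lt n j))

theorem exists_vr (t : ℕ → Bool) : ∀ n, ∃ i < 2 ^ n, ∀ j, (vr n j).testBit i = (decide (j < n) && t j)
  | 0 => ⟨0, by simp, by simp [vr]⟩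
  | n + 1 => by
    obtain ⟨i, hi, h⟩ := exists_vr t n
    cases ht : t n
    · refine ⟨i, by omega, fun j => ?_⟩
      rw [vr]
      split_ifs with e
      · simp [e, ht, Nat.testBit_shiftLeft, hi.not_ge]
      · simp [Nat.testBit_shiftLeft, hi.not_ge, h, show j < n + 1 ↔ j < n by omega]
    · refine ⟨2 ^ n + i, by omega, fun j => ?_⟩
      rw [vr]
      split_ifs with e
      · simp [e, ht, Nat.testBit_shiftLeft, hi]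
      · simp [Nat.testBit_shiftLeft, h, show j < n + 1 ↔ j < n by omega, Nat.testBit_lt_two_pow
          ((vr_lt n j).trans_le (Nat.pow_le_pow_right two_pos (Nat.le_add_right _ i)))]

variable {K : Type*} [Field K] [TF K]

variable (K) in
def opsU : Ops (US K) K where
  mul x y := x * y
  inv x := x⁻¹
  el l := ⟨l.getD 0 0, l.getD 1 0, l.getD 2 0, l.getD 3 0, l.getD 4 0, l.getD 5 0, l.getD 6 0,
    l.getD 7 0, l.getD 8 0, l.getD 9 0, l.getD 10 0, l.getD 11 0⟩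
  cs x := [x.a1, x.u1, x.a2, x.a3, x.u3, x.a4, x.a5, x.u5, x.a6, x.a7, x.u7, x.a8]
  sel t x := ⟨t * x.a1, t * x.u1, t * x.a2, t * x.a3, t * x.u3, t * x.a4, t * x.a5,
    t * x.u5, t * x.a6, t * x.a7, t * x.u7, t * x.a8⟩
  add s t := s + t
  mu s t := s * t
  o := 0
  i := 1

variable (K) in
def bt (i n : ℕ) : K := if n.testBit i then 1 else 0

variable (K) in
def prj (i : ℕ) (x : BW) : US K := ⟨bt K i x.a1, bt K i x.u1, bt K i x.a2, bt K i x.a3, bt K i x.u3,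
  bt K i x.a4, bt K i x.a5, bt K i x.u5, bt K i x.a6, bt K i x.a7, bt K i x.u7, bt K i x.a8⟩

theorem bt_xor (i m n : ℕ) : bt K i (m ^^^ n) = bt K i m + bt K i n := by
  simp only [bt, Nat.testBit_xor]
  cases m.testBit i <;> cases n.testBit i <;> simp [CharTwo.add_self_eq_zero]

theorem bt_and (i m n : ℕ) : bt K i (m &&& n) = bt K i m * bt K i n := by
  simp only [bt, Nat.testBit_and]
  cases m.testBit i <;> cases n.testBit i <;> simp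

theorem bt_zero (i : ℕ) : bt K i 0 = 0 := by simp [bt]

theorem phi_bt (i n : ℕ) : φ (bt K i n) = bt K i n := by unfold bt; split_ifs <;> simp

theorem bt_sq (i n : ℕ) : bt K i n * bt K i n = bt K i n := by unfold bt; split_ifs <;> simp

theorem bt_eq (i m n : ℕ) : bt K i m = bt K i n ↔ (m ^^^ n).testBit i = false := by
  simp only [bt, Nat.testBit_xor]
  cases m.testBit i <;> cases n.testBit i <;> simp

theorem prj_mul (i : ℕ) (x y : BW) : prj K i (mulB x y) = prj K i x * prj K i y := by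
  have h := bt_sq (K := K) i
  have := h x.a7; have := h x.a8; have := h y.a1; have := h y.u1; have := h y.a3
  ext <;> simp only [prj, mulB, bt_xor, bt_and, phi_bt, US.mul_a1, US.mul_u1, US.mul_a2, US.mul_a3,
    US.mul_u3, US.mul_a4, US.mul_a5, US.mul_u5, US.mul_a6, US.mul_a7, US.mul_u7, US.mul_a8] <;>
    grind

theorem prj_inv (i : ℕ) (x : BW) : prj K i (invB x) = (prj K i x)⁻¹ := by
  have h := bt_sq (K := K) i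
  have := h x.a7; have := h x.a8; have := h x.a1; have := h x.u1; have := h x.a3; have := h x.a5
  ext <;> simp only [prj, invB, bt_xor, bt_and, phi_bt, US.inv_a1, US.inv_u1, US.inv_a2, US.inv_a3,
    US.inv_u3, US.inv_a4, US.inv_a5, US.inv_u5, US.inv_a6, US.inv_a7, US.inv_u7, US.inv_a8] <;>
    grind

theorem prj_hom {n i : ℕ} (hi : i < 2 ^ n) : (opsB n).Hom (opsU K) (prj K i) (bt K i) where
  mul := prj_mul i
  inv := prj_inv i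
  el l := by
    have e : ∀ c, bt K i (l.getD c 0) = (l.map (bt K i)).getD c 0 := fun c => by
      rw [← List.getD_map (f := bt K i), bt_zero]
    simp only [opsB, opsU, prj, e]
  cs x := rfl
  sel t x := by simp only [opsB, opsU, prj, bt_and]
  add := bt_xor i
  mu := bt_and i
  o := bt_zero i
  i := by simp [opsB, opsU, bt, hi]

theorem neL_iff (i : ℕ) : ∀ l : List (BW × BW),
    (neL l).testBit i = false ↔ ∀ a ∈ l, prj K i a.1 = prj K i a.2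
  | [] => by simp [neL]
  | a :: l => by
    rw [List.forall_mem_cons, ← neL_iff i l, neL, List.foldr_cons, Nat.testBit_or,
      Bool.or_eq_false_iff]
    simp only [neB, prj, US.ext_iff, bt_eq, Nat.testBit_or, Bool.or_eq_false_iff, and_assoc, neL]

/-- Transfer of a computation to the group. -/
theorem Chk.spec (hq : ∀ s : K, s = 0 ∨ s = 1) (n : ℕ) (l : List K) (hl : l.length ≤ n) :
    ∃ p b, (opsB n).Hom (opsU K) p b ∧ (∀ j, b (vr n j) = l.getD j 0) ∧ ∀ {h c}, Chk h c →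
      (∀ a ∈ h, p a.1 = p a.2) → ∀ a ∈ c, p a.1 = p a.2 := by
  classical
  obtain ⟨i, hi, e⟩ := exists_vr (fun j => decide (l.getD j 0 = 1)) n
  refine ⟨_, _, prj_hom hi, fun j => ?_, fun {h c} k => ?_⟩
  · rw [bt, e]
    by_cases hj : j < n
    · rcases hq (l.getD j 0) with h | h <;> simp only [h] <;> simp [hj]
    · simp [hj, List.getElem?_eq_none (show l.length ≤ j by omega)]
  · rw [← neL_iff, ← neL_iff]
    intro h1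
    rw [← k, Nat.testBit_and, h1, Bool.and_false]

end Cfsg.Agent.RF
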