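import Cfsg.Agent.Lib.RF.Two0

/-!
# S5262, `q = 2`: the candidates for the Weyl element on `Q1`
-/

set_option autoImplicit false
set_option linter.unusedSectionVars false
set_option linter.unusedVariables false

namespace Cfsg.Agent.RF

namespace Ops

variable {α R : Type*} (O : Ops α R)

def nq1' (s A D E F G : α) : List (α × α) := [(O.cj s A, O.gn 11), (O.cj s D, O.gn 9),
  (O.cj s E, O.gn 3), (O.cj s F, O.gn 2), (O.cj s G, O.gn 6)]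

/-- the tuple is conjugate to `(a, d, e, f, g)` -/
def nq1 (A D E F G : α) : List (α × α) := O.nq1' (O.nrm1 A D E F G) A D E F G

def xQ1 (t : ℕ → R) : α := O.el [O.o, O.o, t 0, t 1, t 2, t 3, t 4, t 5, t 6, t 7, t 8, t 9]

def cA1 (x : α) : List (α × α) :=
  (O.ev (O.img1 (O.gn 11) (O.gn 9) (O.gn 3) (O.gn 2) (O.gn 6)) x, x) ::
  O.nq1 (O.cj x (O.gn 11)) (O.cj x (O.gn 9)) (O.cj x (O.gn 3)) (O.cj x (O.gn 2)) (O.cj x (O.gn 6))

def psi1 (I : List α) (x : α) : α :=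
  O.cj (O.gn 0) (O.ev I (O.cj (O.gn 1) (O.ev I (O.cj (O.inv (O.gn 0)) x))))

def hM1' (I : List α) (A D E F G : α) : List (α × α) :=
  (O.ev I (O.mul (O.gn 11) (O.gn 11)), O.mul A A) :: (O.ev I (O.mul (O.gn 11) (O.gn 9)), O.mul A D) ::
  O.nq1 (O.psi1 I A) (O.psi1 I D) (O.psi1 I E) (O.psi1 I F) (O.psi1 I G)

def hM1 (A D E F G : α) : List (α × α) := O.hM1' (O.img1 A D E F G) A D E F G

def uA (t : ℕ → R) : α := O.el [O.o, O.o, O.i, O.o, t 0, t 1, O.o, O.o, t 2, O.o, t 3]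
def uD (t : ℕ → R) : α := O.el [O.o, O.o, O.o, O.i, t 4, t 5, O.o, O.o, t 6, O.o, t 7]
def uE (t : ℕ → R) : α := O.el [O.o, O.o, O.o, O.o, t 8, t 9, O.o, O.o, t 10, O.i, t 11]
def uF (t : ℕ → R) : α := O.el [O.o, O.o, O.o, O.o, t 12, t 13, O.o, O.o, t 14, O.o, O.o, O.i]
def uG (t : ℕ → R) : α := O.el [O.o, O.o, O.o, O.o, O.o, O.o, O.i, t 15]

def tA (p : R) : α := O.el [O.o, O.o, O.i, O.o, O.o, O.o, O.o, O.o, p]
def tD (p : R) : α := O.el [O.o, O.o, O.o, O.i, O.o, O.o, O.o, O.o, O.o, O.o, p]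
def tE (p : R) : α := O.el [O.o, O.o, O.o, O.o, p, O.o, O.o, O.o, O.o, O.i]
def tF (p : R) : α := O.el [O.o, O.o, O.o, O.o, O.o, p, O.o, O.o, O.o, O.o, O.o, O.i]

def cM1 (t : ℕ → R) : List (α × α) := [(O.uA t, O.tA (t 13)), (O.uD t, O.tD (t 13)),
  (O.uE t, O.tE (t 13)), (O.uF t, O.tF (t 13)), (O.uG t, O.gn 6)]

end Ops

theorem chk_A1 : Chk [] ((opsB 10).cA1 ((opsB 10).xQ1 (vr 10))) := by decide +kernel

theorem chk_M1 : Chk ((opsB 16).hM1 ((opsB 16).uA (vr 16)) ((opsB 16).uD (vr 16))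
    ((opsB 16).uE (vr 16)) ((opsB 16).uF (vr 16)) ((opsB 16).uG (vr 16)))
    ((opsB 16).cM1 (vr 16)) := by decide +kernel

end Cfsg.Agent.RF
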