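import Cfsg.Agent.Lib.RF.TwoA

/-!
# S5262, `q = 2`: the candidates for the Weyl element on `Q2`, and the twisting automorphisms
-/

set_option autoImplicit false
set_option linter.unusedSectionVars false
set_option linter.unusedVariables false

namespace Cfsg.Agent.RF

namespace Ops

variable {α R : Type*} (O : Ops α R)

def nq2' (s B D E : α) : List (α × α) :=
  [(O.cj s B, O.gn 0), (O.cj s D, O.gn 9), (O.cj s E, O.gn 3)]

/-- the tuple is conjugate to `(b, d, e)` -/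
def nq2 (B D E : α) : List (α × α) := O.nq2' (O.nrm2 B D) B D E

def cA2 (x : α) : List (α × α) :=
  (O.ev (O.img2 (O.gn 0) (O.gn 9) (O.gn 3) (O.el [])) x, x) ::
  O.nq2 (O.cj x (O.gn 0)) (O.cj x (O.gn 9)) (O.cj x (O.gn 3))

def xQ2 (t : ℕ → R) : α := O.el [t 0, t 1, t 2, t 3, t 4, t 5, t 6, t 7, t 8, t 9, t 10]

def xS (t : ℕ → R) : α := O.el [t 0, t 1, t 2, t 3, t 4, t 5, t 6, t 7, t 8, t 9, t 10, t 11]

def cN2' (X Y : α) : List (α × α) :=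
  [(X, O.el [O.i, O.co X 1, O.o, O.o, O.o, O.o, O.co X 6, O.co X 7, O.o, O.o, O.co X 10]),
    (Y, O.el [O.o, O.co Y 1, O.o, O.o, O.co Y 4, O.o, O.co Y 6, O.co Y 7, O.o, O.i, O.co Y 10])]

def cN2 (X Y : α) : List (α × α) := O.cN2' (O.cj (O.nrm2 X Y) X) (O.cj (O.nrm2 X Y) Y)

def wX (t : ℕ → R) : α := O.el [O.i, t 0, t 1, t 2, t 3, t 4, t 5, t 6, t 7, O.o, t 8]
def wY (t : ℕ → R) : α := O.el [O.o, t 9, t 10, t 11, t 12, t 13, t 14, t 15, t 16, O.i, t 17]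

def psi2 (I : List α) (x : α) : α :=
  O.cj (O.gn 11) (O.ev I (O.cj (O.gn 11) (O.ev I (O.cj (O.gn 11) x))))

def hM2' (I : List α) (B D E : α) : List (α × α) :=
  O.nq2 (O.ev I B) (O.ev I D) (O.ev I E) ++ O.nq2 (O.psi2 I B) (O.psi2 I D) (O.psi2 I E)

def hM2 (B D E : α) : List (α × α) := O.hM2' (O.img2 B D E (O.el [])) B D E

def vB (t : ℕ → R) : α := O.el [O.o, t 0, O.o, O.o, t 1, O.o, t 2, t 3, O.o, O.i, t 4]
def vD (t : ℕ → R) : α := O.el [O.i, t 5, O.o, O.o, O.o, O.o, t 6, t 7, O.o, O.o, t 8]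
def vE (t : ℕ → R) : α := O.el [O.o, O.o, t 9, O.o, t 10, t 11, O.i, t 12, t 13]

def sB (p q r : R) : α := O.el [O.o, O.o, O.o, O.o, q, O.o, p, O.add p (O.mu p r), O.o, O.i, p]
def sD (p q r : R) : α := O.el [O.i, p, O.o, O.o, O.o, O.o, p, O.add q (O.add p (O.mu p r))]
def sE (r : R) : α := O.el [O.o, O.o, O.o, O.o, r, O.o, O.i, r]

def cM2 (t : ℕ → R) : List (α × α) := [(O.vB t, O.sB (t 2) (t 1) (t 10)),
  (O.vD t, O.sD (t 2) (t 1) (t 10)), (O.vE t, O.sE (t 10))]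

def cS (x : α) : List (α × α) := [(O.ev (O.img2 (O.gn 0) (O.gn 9) (O.gn 3) (O.gn 11)) x, x)]

def phJ (w p q r : R) : List α := O.phI w p (O.add q (O.add w (O.mu p r))) r

def hm1 (I : List α) (x : α) (c : ℕ) : α × α :=
  (O.ev I (O.mul (O.gn c) x), O.mul (O.ev I (O.gn c)) (O.ev I x))

def pr (x : α) : α := O.el [O.co x 0, O.co x 1, O.o, O.o, O.o, O.o, O.o, O.o, O.o, O.o, O.o, O.co x 11]

def cH (I : List α) (x : α) : List (α × α) :=
  [O.hm1 I x 0, O.hm1 I x 9, O.hm1 I x 3, O.hm1 I x 11, (O.pr (O.ev I x), O.pr x)]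

def eq1' (s A D E F G s' A' D' E' F' G' : α) : List (α × α) := [(O.cj s A, O.cj s' A'),
  (O.cj s D, O.cj s' D'), (O.cj s E, O.cj s' E'), (O.cj s F, O.cj s' F'), (O.cj s G, O.cj s' G')]

def eq1 (A D E F G A' D' E' F' G' : α) : List (α × α) :=
  O.eq1' (O.nrm1 A D E F G) A D E F G (O.nrm1 A' D' E' F' G') A' D' E' F' G'

def eq2' (s B D E s' B' D' E' : α) : List (α × α) :=
  [(O.cj s B, O.cj s' B'), (O.cj s D, O.cj s' D'), (O.cj s E, O.cj s' E')]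

def eq2 (B D E B' D' E' : α) : List (α × α) := O.eq2' (O.nrm2 B D) B D E (O.nrm2 B' D') B' D' E'

def cF' (I J L : List α) : List (α × α) :=
  O.eq1 (O.ev J (O.ev I (O.gn 2))) (O.ev J (O.ev I (O.gn 3))) (O.ev J (O.ev I (O.gn 9)))
    (O.ev J (O.ev I (O.gn 11))) (O.ev J (O.ev I (O.gn 6)))
    (O.ev I (O.gn 11)) (O.ev I (O.gn 9)) (O.ev I (O.gn 3)) (O.ev I (O.gn 2)) (O.ev I (O.gn 6)) ++
  O.eq2 (O.ev L (O.ev I (O.gn 9))) (O.ev L (O.ev I (O.gn 0))) (O.ev L (O.ev I (O.gn 3)))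
    (O.ev I (O.gn 0)) (O.ev I (O.gn 9)) (O.ev I (O.gn 6))

def cF (w p q r : R) : List (α × α) := O.cF' (O.phJ w p q r)
  (O.img1 (O.tA w) (O.tD w) (O.tE w) (O.tF w) (O.gn 6))
  (O.img2 (O.sB p q r) (O.sD p q r) (O.sE r) (O.el []))

def cI (I : List α) (x : α) : List (α × α) := [(O.ev I x, O.el [])]

end Ops

theorem chk_A2 : Chk [] ((opsB 11).cA2 ((opsB 11).xQ2 (vr 11))) := by decide +kernel

theorem chk_N2 : Chk [] ((opsB 18).cN2 ((opsB 18).wX (vr 18)) ((opsB 18).wY (vr 18))) := by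
  decide +kernel

theorem chk_M2 : Chk ((opsB 14).hM2 ((opsB 14).vB (vr 14)) ((opsB 14).vD (vr 14))
    ((opsB 14).vE (vr 14))) ((opsB 14).cM2 (vr 14)) := by decide +kernel

theorem chk_S : Chk [] ((opsB 12).cS ((opsB 12).xS (vr 12))) := by decide +kernel

theorem chk_H : Chk [] ((opsB 16).cH ((opsB 16).phJ (vr 16 12) (vr 16 13) (vr 16 14) (vr 16 15))
    ((opsB 16).xS (vr 16))) := by decide +kernel

theorem chk_I : Chk ((opsB 16).cI ((opsB 16).phJ (vr 16 12) (vr 16 13) (vr 16 14) (vr 16 15))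
    ((opsB 16).xS (vr 16))) [((opsB 16).xS (vr 16), (opsB 16).el [])] := by decide +kernel

theorem chk_F : Chk [] ((opsB 4).cF (vr 4 0) (vr 4 1) (vr 4 2) (vr 4 3)) := by decide +kernel

end Cfsg.Agent.RF
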