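import Cfsg.Agent.Lib.RF.TwoB

/-!
# S5262, `q = 2`: the computations read in the group
-/

set_option autoImplicit false
set_option linter.unusedSectionVars false
set_option linter.unusedVariables false
set_option linter.unnecessarySeqFocus false
set_option linter.unusedSimpArgs false

namespace Cfsg.Agent.RF

open Subgroup Cfsg Cfsg.FusionSystem Ops
open scoped commutatorElement

theorem Ops.Hom.all {α R β S : Type*} {O : Ops α R} {P : Ops β S} {p : α → β} {b : R → S}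
    (h : O.Hom P p b) : (∀ x y, p (O.mul x y) = P.mul (p x) (p y)) ∧
    (∀ x, p (O.inv x) = P.inv (p x)) ∧ (∀ l, p (O.el l) = P.el (l.map b)) ∧
    (∀ s t, b (O.add s t) = P.add (b s) (b t)) ∧ (∀ s t, b (O.mu s t) = P.mu (b s) (b t)) ∧
    b O.o = P.o ∧ b O.i = P.i ∧ (∀ x c, b (O.co x c) = P.co (p x) c) ∧ (∀ c, p (O.gn c) = P.gn c) ∧
    (∀ s x, p (O.cj s x) = P.cj (p s) (p x)) ∧ (∀ I x, p (O.ev I x) = P.ev (I.map p) (p x)) ∧
    (∀ A D E F G, (O.img1 A D E F G).map p = P.img1 (p A) (p D) (p E) (p F) (p G)) ∧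
    (∀ B D E A, (O.img2 B D E A).map p = P.img2 (p B) (p D) (p E) (p A)) ∧
    (∀ A D E F G, p (O.nrm1 A D E F G) = P.nrm1 (p A) (p D) (p E) (p F) (p G)) ∧
    (∀ B D, p (O.nrm2 B D) = P.nrm2 (p B) (p D)) ∧
    ∀ w x y z, (O.phI w x y z).map p = P.phI (b w) (b x) (b y) (b z) :=
  ⟨h.mul, h.inv, h.el, h.add, h.mu, h.o, h.i, h.co, h.gn, h.cj, h.ev, h.img1, h.img2, h.nrm1,
    h.nrm2, h.phI⟩

variable {K : Type*} [Field K] [TF K] (hq : ∀ s : K, s = 0 ∨ s = 1) {x : US K}

local notation "U" => opsU K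

theorem U_mul (x y : US K) : (U).mul x y = x * y := rfl
theorem U_inv (x : US K) : (U).inv x = x⁻¹ := rfl
theorem U_cj (s x : US K) : (U).cj s x = s * x * s⁻¹ := rfl
theorem U_cm (s x : US K) : (U).cm s x = ⁅s, x⁆ := rfl
theorem U_one : (U).el [] = 1 := rfl

include hq

theorem spec_A1 (hx : x ∈ Q1 K) : ∀ a ∈ (U).cA1 x, a.1 = a.2 := by
  obtain ⟨p, b, h, hb, k⟩ := Chk.spec hq 10
    [x.a2, x.a3, x.u3, x.a4, x.a5, x.u5, x.a6, x.a7, x.u7, x.a8] le_rfl
  have e : p ((opsB 10).xQ1 (vr 10)) = x := by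
    simp only [xQ1, h.all, List.map, hb]; exact US.ext hx.1.symm hx.2.symm rfl rfl rfl rfl rfl rfl rfl rfl rfl rfl
  simpa only [cA1, nq1, nq1', List.forall_mem_cons, h.all, e, List.not_mem_nil, false_imp_iff,
    implies_true] using k chk_A1 (by simp)

theorem spec_A2 (hx : x ∈ Q2 K) : ∀ a ∈ (U).cA2 x, a.1 = a.2 := by
  obtain ⟨p, b, h, hb, k⟩ := Chk.spec hq 11
    [x.a1, x.u1, x.a2, x.a3, x.u3, x.a4, x.a5, x.u5, x.a6, x.a7, x.u7] le_rfl
  have e : p ((opsB 11).xQ2 (vr 11)) = x := by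
    simp only [xQ2, h.all, List.map, hb]; exact US.ext rfl rfl rfl rfl rfl rfl rfl rfl rfl rfl rfl hx.symm
  simpa only [cA2, nq2, nq2', List.forall_mem_cons, h.all, e, List.not_mem_nil, false_imp_iff,
    implies_true, List.map] using k chk_A2 (by simp)

theorem spec_S (x : US K) :
    (U).ev ((U).img2 ((U).gn 0) ((U).gn 9) ((U).gn 3) ((U).gn 11)) x = x := by
  obtain ⟨p, b, h, hb, k⟩ := Chk.spec hq 12 ((U).cs x) le_rfl
  have e : p ((opsB 12).xS (vr 12)) = x := by simp only [xS, h.all, List.map, hb]; rfl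
  simpa only [Ops.cS, List.forall_mem_cons, h.all, e, List.not_mem_nil, false_imp_iff,
    implies_true, and_true] using k chk_S (by simp)

theorem spec_H (w p' q r : K) (x : US K) : ∀ a ∈ (U).cH ((U).phJ w p' q r) x, a.1 = a.2 := by
  obtain ⟨p, b, h, hb, k⟩ := Chk.spec hq 16 ((U).cs x ++ [w, p', q, r]) le_rfl
  have e : p ((opsB 16).xS (vr 16)) = x := by simp only [xS, h.all, List.map, hb]; rfl
  simpa only [cH, hm1, pr, phJ, List.forall_mem_cons, h.all, e, List.not_mem_nil, false_imp_iff,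
    show b (vr 16 12) = w from hb 12, show b (vr 16 13) = p' from hb 13,
    show b (vr 16 14) = q from hb 14, show b (vr 16 15) = r from hb 15,
    implies_true, List.map] using k chk_H (by simp)

theorem spec_I (w p' q r : K) (x : US K) (hx : (U).ev ((U).phJ w p' q r) x = 1) : x = 1 := by
  obtain ⟨p, b, h, hb, k⟩ := Chk.spec hq 16 ((U).cs x ++ [w, p', q, r]) le_rfl
  have e : p ((opsB 16).xS (vr 16)) = x := by simp only [xS, h.all, List.map, hb]; rfl
  simpa only [List.forall_mem_cons, h.all, e, List.not_mem_nil, false_imp_iff,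
    implies_true, and_true, List.map, U_one] using k chk_I (by
      simpa only [Ops.cI, phJ, List.forall_mem_cons, h.all, e, List.not_mem_nil, false_imp_iff,
        show b (vr 16 12) = w from hb 12, show b (vr 16 13) = p' from hb 13,
    show b (vr 16 14) = q from hb 14, show b (vr 16 15) = r from hb 15,
        implies_true, and_true, List.map, U_one] using hx)

theorem spec_F (w p' q r : K) : ∀ a ∈ (U).cF w p' q r, a.1 = a.2 := by
  obtain ⟨p, b, h, hb, k⟩ := Chk.spec hq 4 [w, p', q, r] le_rfl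
  simpa only [cF, cF', eq1, eq1', eq2, eq2', phJ, tA, tD, tE, tF, sB, sD, sE, List.cons_append,
    List.nil_append, List.forall_mem_cons, h.all, List.not_mem_nil, false_imp_iff,
    show b (vr 4 0) = w from hb 0, show b (vr 4 1) = p' from hb 1,
    show b (vr 4 2) = q from hb 2, show b (vr 4 3) = r from hb 3,
    implies_true, List.map] using k chk_F (by simp)

theorem spec_N2 {X Y : US K} (hX : X ∈ Q2 K) (hY : Y ∈ Q2 K) (h1 : X.a1 = 1) (h2 : X.a7 = 0)
    (h3 : Y.a1 = 0) (h4 : Y.a7 = 1) : ∀ a ∈ (U).cN2 X Y, a.1 = a.2 := by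
  obtain ⟨p, b, h, hb, k⟩ := Chk.spec hq 18 [X.u1, X.a2, X.a3, X.u3, X.a4, X.a5, X.u5, X.a6, X.u7,
    Y.u1, Y.a2, Y.a3, Y.u3, Y.a4, Y.a5, Y.u5, Y.a6, Y.u7] le_rfl
  have e : p ((opsB 18).wX (vr 18)) = X := by
    simp only [wX, h.all, List.map, hb]; exact US.ext h1.symm rfl rfl rfl rfl rfl rfl rfl rfl h2.symm rfl hX.symm
  have e' : p ((opsB 18).wY (vr 18)) = Y := by
    simp only [wY, h.all, List.map, hb]; exact US.ext h3.symm rfl rfl rfl rfl rfl rfl rfl rfl h4.symm rfl hY.symm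
  simpa only [cN2, cN2', List.forall_mem_cons, h.all, e, e', List.not_mem_nil, false_imp_iff,
    implies_true, List.map] using k chk_N2 (by simp)

theorem spec_M1 (l : List K) (hl : l.length ≤ 16) (H : ∀ a ∈ (U).hM1 ((U).uA (l.getD · 0))
    ((U).uD (l.getD · 0)) ((U).uE (l.getD · 0)) ((U).uF (l.getD · 0)) ((U).uG (l.getD · 0)),
    a.1 = a.2) : ∀ a ∈ (U).cM1 (l.getD · 0), a.1 = a.2 := by
  obtain ⟨p, b, h, hb, k⟩ := Chk.spec hq 16 l hl
  have := k chk_M1 (by
    simpa only [hM1, hM1', nq1, nq1', psi1, uA, uD, uE, uF, uG, List.forall_mem_cons, h.all, hb,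
      List.not_mem_nil, false_imp_iff, implies_true, List.map] using H)
  simp only [Ops.cM1, uA, uD, uE, uF, uG, tA, tD, tE, tF, List.forall_mem_cons, h.all, hb,
    List.not_mem_nil, false_imp_iff, implies_true, List.map] at this ⊢
  exact this

theorem spec_M2 (l : List K) (hl : l.length ≤ 14) (H : ∀ a ∈ (U).hM2 ((U).vB (l.getD · 0))
    ((U).vD (l.getD · 0)) ((U).vE (l.getD · 0)), a.1 = a.2) :
    ∀ a ∈ (U).cM2 (l.getD · 0), a.1 = a.2 := by
  obtain ⟨p, b, h, hb, k⟩ := Chk.spec hq 14 l hl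
  have := k chk_M2 (by
    simpa only [hM2, hM2', nq2, nq2', psi2, vB, vD, vE, List.forall_mem_cons, h.all, hb,
      List.cons_append, List.nil_append, List.not_mem_nil, false_imp_iff, implies_true, List.map]
      using H)
  simp only [Ops.cM2, vB, vD, vE, sB, sD, sE, List.forall_mem_cons, h.all, hb,
    List.not_mem_nil, false_imp_iff, implies_true, List.map] at this ⊢
  exact this

theorem sel_cases (t : K) : (∀ y, (U).sel t y = 1) ∨ ∀ y, (U).sel t y = y := by
  rcases hq t with rfl | rfl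
  · exact .inl fun y => by ext <;> simp [opsU]
  · exact .inr fun y => by ext <;> simp [opsU]

theorem ev0_mem {R : Subgroup (US K)} : ∀ (I : List (US K)) (l : List K), (∀ y ∈ I, y ∈ R) →
    (U).ev0 I l ∈ R
  | y :: I, t :: l, h => by
    rw [List.forall_mem_cons] at h
    refine mul_mem ?_ (ev0_mem I l h.2)
    rcases sel_cases hq t with e | e <;> rw [e]
    exacts [one_mem _, h.1]
  | [], _, _ => one_mem _
  | _ :: _, [], _ => one_mem _

theorem ev0_map {R : Subgroup (US K)} {f : US K → US K} (hf : IsHomOn R f) :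
    ∀ (I : List (US K)) (l : List K), (∀ y ∈ I, y ∈ R) → f ((U).ev0 I l) = (U).ev0 (I.map f) l
  | y :: I, t :: l, h => by
    rw [List.forall_mem_cons] at h
    rw [List.map_cons, ev0, ev0, U_mul, U_mul, ← ev0_map hf I l h.2]
    rcases sel_cases hq t with e | e <;> rw [e, e]
    · rw [one_mul, one_mul]
    · exact hf.map_mul h.1 (ev0_mem hq I l h.2)
  | [], _, _ => hf.map_one
  | _ :: _, [], _ => hf.map_one

omit hq in
theorem img2_mem {R : Subgroup (US K)} {B D E A : US K} (hB : B ∈ R) (hD : D ∈ R) (hE : E ∈ R)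
    (hA : A ∈ R) : ∀ y ∈ (U).img2 B D E A, y ∈ R := by
  have c : ∀ {x y}, x ∈ R → y ∈ R → ⁅x, y⁆ ∈ R := fun hx hy =>
    mul_mem (mul_mem (mul_mem hx hy) (inv_mem hx)) (inv_mem hy)
  have hG := mul_mem hE (c hD hB)
  simp only [img2, img2', List.forall_mem_cons, U_mul, U_cm]
  exact ⟨hB, mul_mem hB hB, c hB hE, hE, mul_mem hE hE, c hG hE, hG, mul_mem hG hG, c hG hD, hD,
    mul_mem hD hD, hA, by simp⟩

theorem ev1 {f : US K → US K} (hf : IsHomOn (Q1 K) f) (hx : x ∈ Q1 K) : (U).ev ((U).img1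
    (f ((U).gn 11)) (f ((U).gn 9)) (f ((U).gn 3)) (f ((U).gn 2)) (f ((U).gn 6))) x = f x := by
  have hA : (U).gn 11 ∈ Q1 K := ⟨rfl, rfl⟩
  have hD : (U).gn 9 ∈ Q1 K := ⟨rfl, rfl⟩
  have hE : (U).gn 3 ∈ Q1 K := ⟨rfl, rfl⟩
  have hF : (U).gn 2 ∈ Q1 K := ⟨rfl, rfl⟩
  have hG : (U).gn 6 ∈ Q1 K := ⟨rfl, rfl⟩
  have c : ∀ {x y}, x ∈ Q1 K → y ∈ Q1 K → ⁅x, y⁆ ∈ Q1 K := fun hx hy =>
    mul_mem (mul_mem (mul_mem hx hy) (inv_mem hx)) (inv_mem hy)
  conv_rhs => rw [← show _ = x from spec_A1 hq hx _ List.mem_cons_self]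
  rw [ev, ev, ev0_map hq hf]
  · simp only [img1, List.map, U_mul, U_cm, U_one, hf.map_one, hf.map_mul hE hE, hf.map_mul hG hG,
      hf.map_mul hD hD, hf.map_commutatorElement hG hE, hf.map_commutatorElement hG hD]
  · simp only [img1, List.forall_mem_cons, U_mul, U_cm, U_one]
    exact ⟨one_mem _, one_mem _, hF, hE, mul_mem hE hE, c hG hE, hG, mul_mem hG hG, c hG hD, hD,
      mul_mem hD hD, hA, by simp⟩

theorem ev2 {f : US K → US K} (hf : IsHomOn (Q2 K) f) (hx : x ∈ Q2 K) : (U).ev ((U).img2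
    (f ((U).gn 0)) (f ((U).gn 9)) (f ((U).gn 3)) ((U).el [])) x = f x := by
  have hB : (U).gn 0 ∈ Q2 K := rfl
  have hD : (U).gn 9 ∈ Q2 K := rfl
  have hE : (U).gn 3 ∈ Q2 K := rfl
  have c : ∀ {x y}, x ∈ Q2 K → y ∈ Q2 K → ⁅x, y⁆ ∈ Q2 K := fun hx hy =>
    mul_mem (mul_mem (mul_mem hx hy) (inv_mem hx)) (inv_mem hy)
  have hG := mul_mem hE (c hD hB)
  conv_rhs => rw [← show _ = x from spec_A2 hq hx _ List.mem_cons_self]
  rw [ev, ev, U_one]
  dsimp only
  rw [ev0_map hq hf _ _ (img2_mem hB hD hE (one_mem _))]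
  simp only [img2, img2', List.map, U_mul, U_cm, U_one, hf.map_one, hf.map_mul hE hE,
    hf.map_mul hG hG, hf.map_mul hD hD, hf.map_mul hB hB, hf.map_commutatorElement hG hE,
    hf.map_commutatorElement hG hD, hf.map_commutatorElement hB hE, hf.map_mul hE (c hD hB),
    hf.map_commutatorElement hD hB]

theorem exists_phi_aut (w p q r : K) : ∃ α : MulAut (US K), (∀ x, α x = (U).ev ((U).phJ w p q r) x) ∧
    ∀ x, (α x).a1 = x.a1 ∧ (α x).u1 = x.u1 ∧ (α x).a8 = x.a8 := by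
  have H := spec_H hq w p q r
  have I := spec_I hq w p q r
  simp only [cH, hm1, List.forall_mem_cons, U_mul] at H
  generalize (U).ev ((U).phJ w p q r) = f at H I
  have h1 : f 1 = 1 := by simpa using (H 1).1
  let M : Subgroup (US K) :=
    { carrier := {y | ∀ x, f (y * x) = f y * f x}
      one_mem' := fun x => by rw [one_mul, h1, one_mul]
      mul_mem' := fun {y z} hy hz x => by rw [mul_assoc, hy, hz, hy, mul_assoc]
      inv_mem' := fun {y} hy x => by
        have a := hy (y⁻¹ * x)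
        have b := hy y⁻¹
        rw [mul_inv_cancel_left] at a
        rw [mul_inv_cancel, h1] at b
        rw [a, ← mul_assoc, eq_inv_of_mul_eq_one_right b.symm, inv_mul_cancel, one_mul] }
  let g : US K →* US K := MonoidHom.mk' f fun y => (show y ∈ M from spec_S hq y ▸
    ev0_mem hq _ _ (img2_mem (fun x => (H x).1) (fun x => (H x).2.1) (fun x => (H x).2.2.1)
      fun x => (H x).2.2.2.1))
  have hi : Function.Injective g := (injective_iff_map_eq_one g).2 I
  exact ⟨MulEquiv.ofBijective g ⟨hi, Finite.surjective_of_injective hi⟩, fun _ => rfl, fun x =>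
    have := (H x).2.2.2.2.1
    ⟨(congrArg US.a1 this :), (congrArg US.u1 this :), (congrArg US.a8 this :)⟩⟩

end Cfsg.Agent.RF
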